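import Mathlib
import Cfsg.Agent.H1.Field
import Cfsg.Agent.H2.Rel
import Cfsg.Agent.H3.Two
import Cfsg.Agent.FT.Main
import Cfsg.Agent.H27.ClassSize

/-! A group acting coprimely and faithfully on an abelian group with orbits of `p`-power size is solvable. -/

set_option autoImplicit false
set_option linter.unusedSectionVars false

namespace Cfsg.Agent.H1

open Cfsg Subgroup Cfsg.Agent.FT
open scoped commutatorElement

theorem card_le_sq_aux {k : Type*} [Field k] [Fintype k] {q m : ℕ} (hq : q.Prime) (hq2 : Odd q) [CharP k q]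
    (σ : k →+* k) {α ε : k} (hα : α ^ 2 ^ m = 1) (h2 : σ (σ α) = α) (hε : ε ^ 4 = 1) (h3 : σ ε * ε = 1)
    (h4 : ε * ε ≠ 1) (hgen : ∀ A : AddSubgroup k, 1 ∈ A → (∀ x ∈ A, α * x ∈ A) → A = ⊤) :
    Fintype.card k ≤ q ^ 2 := by
  have : Fact q.Prime := ⟨hq⟩
  let : Algebra (ZMod q) k := ZMod.algebra k q
  let τ : k →ₐ[ZMod q] k := ⟨σ, fun r => by
    obtain ⟨n, rfl⟩ := ZMod.intCast_surjective r
    simp⟩
  obtain ⟨⟨n, hn0⟩, hn⟩ := (FiniteField.bijective_frobeniusAlgHom_pow (ZMod q) k).2 τ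
  have e : ∀ (j : ℕ) (x : k), (fun y : k => y ^ q)^[j] x = x ^ q ^ j := fun j x => congrFun (pow_iterate q j) x
  have hσ : ∀ x, σ x = (fun y : k => y ^ q)^[n] x := fun x => by
    have := DFunLike.congr_fun hn x
    rw [AlgHom.coe_pow, FiniteField.coe_frobeniusAlgHom, ZMod.card] at this
    exact this.symm
  have hodd : Odd n := by
    by_contra h
    obtain ⟨j, rfl⟩ := Nat.not_odd_iff_even.1 h
    have h5 : q ^ (j + j) % 4 = 1 := by
      rw [pow_add]
      obtain ⟨c, hc⟩ := hq2.pow (n := j)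
      rw [hc, show (2 * c + 1) * (2 * c + 1) = 1 + 4 * (c * c + c) by ring, Nat.add_mul_mod_self_left]
    rw [hσ, e, pow_eq_pow_mod _ hε, h5, pow_one] at h3
    exact h4 h3
  have p1 : Function.IsPeriodicPt (fun y : k => y ^ q) (n + n) α := by
    rw [Function.IsPeriodicPt, Function.IsFixedPt, Function.iterate_add_apply, ← hσ, ← hσ, h2]
  have p2 : Function.IsPeriodicPt (fun y : k => y ^ q) (Nat.totient (2 ^ (m + 1))) α := by
    have h5 : α ^ 2 ^ (m + 1) = 1 := by rw [pow_succ, pow_mul, hα, one_pow]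
    rw [Function.IsPeriodicPt, Function.IsFixedPt, e, pow_eq_pow_mod _ h5,
      Nat.ModEq.pow_totient ((Nat.coprime_two_right.2 hq2).pow_right _), ← pow_eq_pow_mod _ h5, pow_one]
  have p3 : α ^ q ^ 2 = α := by
    rw [← e]
    refine (p1.gcd p2).trans_dvd ?_
    rw [Nat.totient_prime_pow_succ Nat.prime_two, ← two_mul]
    exact ((Nat.coprime_two_right.2 hodd).pow_right m).symm.coprime_dvd_left
      ((Nat.gcd_dvd_right _ _).trans (by simp)) |>.dvd_of_dvd_mul_right (Nat.gcd_dvd_left _ _)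
  have h5 := hgen ((iterateFrobenius k q 2).eqLocus (RingHom.id k)).toAddSubgroup
    (Subring.one_mem _) fun x hx =>
    Subring.mul_mem _ (show _ ∈ (iterateFrobenius k q 2).eqLocus (RingHom.id k) from p3) hx
  have h6 := (FiniteField.forall_pow_eq_one_iff k (q ^ 2 - 1)).1 fun x => Units.ext (by
    have h7 : (x : k) ^ q ^ 2 = x := (h5.ge (AddSubgroup.mem_top (x : k)) :)
    rw [← Nat.sub_add_cancel (Nat.one_le_pow 2 q hq.pos), pow_succ] at h7
    simpa using h7)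
  have h7 : 1 < q ^ 2 := Nat.one_lt_pow two_ne_zero hq.one_lt
  have := Nat.le_of_dvd (by omega) h6
  omega

theorem card_le_sq {V Γ : Type*} [AddCommGroup V] [Finite V] [Group Γ] (ρ : Γ →* AddMonoid.End V) {a b e : Γ}
    {q m : ℕ} (hq : q.Prime) (hq2 : Odd q) (hV : ∀ x : V, q • x = 0) (ha : a ^ 2 ^ m = 1)
    (hirr : ∀ K : AddSubgroup V, (∀ x ∈ K, ρ a x ∈ K) → K = ⊥ ∨ K = ⊤) (hb : ∀ u ∈ ⟪a⟫, b * u * b⁻¹ ∈ ⟪a⟫)
    (hb2 : b * (b * a * b⁻¹) * b⁻¹ = a) (he : e ∈ ⟪a⟫) (hbe : b * e * b⁻¹ * e = 1) (he4 : e ^ 4 = 1)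
    {s : V} (hs : ρ (e * e) s ≠ s) : Nat.card V ≤ q ^ 2 := by
  have s0 : s ≠ 0 := fun h => hs (by rw [h, map_zero])
  obtain ⟨k, _, _, f, -, f1, hf, -⟩ := exists_field_of_irreducible ρ ⟪a⟫
    (fun u hu v hv => by rw [← map_mul, ← map_mul, (ab_zpowers a).comm hu hv])
    (fun K hK => hirr K (hK a (mem_zpowers a))) s s0
  have : Fact q.Prime := ⟨hq⟩
  have ρm : ∀ u v x, ρ (u * v) x = ρ u (ρ v x) := fun u v x => by rw [map_mul]; rfl
  have hc : CharP k q := (CharP.charP_iff_prime_eq_zero Fact.out).2 (by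
    have := congrArg f (hV s)
    rwa [map_nsmul, f1, map_zero, nsmul_eq_mul, mul_one] at this)
  have hmul : ∀ u ∈ ⟪a⟫, ∀ v, f (ρ (u * v) s) = f (ρ u s) * f (ρ v s) := fun u hu v => by
    rw [ρm, hf u hu]
  have hpow : ∀ u ∈ ⟪a⟫, ∀ n : ℕ, f (ρ (u ^ n) s) = f (ρ u s) ^ n := fun u hu n => by
    induction n with
    | zero => simpa using f1
    | succ n ih => rw [pow_succ', hmul u hu, ih, pow_succ']
  have hgen : ∀ A : AddSubgroup k, 1 ∈ A → (∀ x ∈ A, f (ρ a s) * x ∈ A) → A = ⊤ := fun A h1 hA => by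
    rcases hirr (A.comap f.toAddMonoidHom) fun x hx => by
      change f (ρ a x) ∈ A
      rw [hf a (mem_zpowers a)]; exact hA _ hx with h | h
    · exact (s0 (AddSubgroup.mem_bot.1 (h.le (show f s ∈ A from f1 ▸ h1)))).elim
    · refine eq_top_iff.2 fun x _ => ?_
      have : f (f.symm x) ∈ A := h.ge (AddSubgroup.mem_top (f.symm x))
      rwa [f.apply_symm_apply] at this
  let β : k →+ k := f.toAddMonoidHom.comp ((ρ b : V →+ V).comp f.symm.toAddMonoidHom)
  have hβ : ∀ x, β (f x) = f (ρ b x) := fun x => congrArg (fun y => f (ρ b y)) (f.symm_apply_apply x)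
  have hβ' : ∀ u ∈ ⟪a⟫, ∀ x, β (f (ρ u s) * x) = f (ρ (b * u * b⁻¹) s) * β x := fun u hu x => by
    obtain ⟨y, rfl⟩ := f.surjective x
    rw [← hf u hu, hβ, hβ, ← hf _ (hb u hu), ← ρm, ← ρm, inv_mul_cancel_right]
  have β1 : β 1 ≠ 0 := fun h => s0 (by
    rw [← f1, hβ, f.map_eq_zero_iff] at h
    have := congrArg (ρ b⁻¹) h
    rwa [← ρm, inv_mul_cancel, map_one, map_zero] at this)
  have hm : ∀ y x, β (y * x) * β 1 = β y * β x := fun y => by
    let A : AddSubgroup k :=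
      { carrier := {y | ∀ x, β (y * x) * β 1 = β y * β x}
        zero_mem' := fun x => by simp
        add_mem' := fun {y z} hy hz x => by rw [add_mul, map_add, map_add, add_mul, add_mul, hy, hz]
        neg_mem' := fun {y} hy x => by rw [neg_mul, map_neg, map_neg, neg_mul, neg_mul, hy] }
    refine (hgen A (fun x => by rw [one_mul, mul_comm]) fun y hy x => ?_).ge (AddSubgroup.mem_top y)
    rw [mul_assoc, hβ' a (mem_zpowers a), hβ' a (mem_zpowers a), mul_assoc _ (β (y * x)), hy, mul_assoc _ (β y)]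
  let σ : k →+* k :=
    { toFun := fun x => β x / β 1
      map_one' := div_self β1
      map_mul' := fun x y => by rw [div_mul_div_comm, ← hm, mul_div_mul_right _ _ β1]
      map_zero' := by simp
      map_add' := fun x y => by rw [map_add, add_div] }
  have hσ : ∀ u ∈ ⟪a⟫, σ (f (ρ u s)) = f (ρ (b * u * b⁻¹) s) := fun u hu => by
    change β _ / β 1 = _
    rw [← mul_one (f (ρ u s)), hβ' u hu, mul_div_cancel_right₀ _ β1]
  rw [Nat.card_congr f.toEquiv, Nat.card_eq_fintype_card]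
  refine card_le_sq_aux hq hq2 (m := m) σ (α := f (ρ a s)) (ε := f (ρ e s)) ?_ ?_ ?_ ?_ ?_ hgen
  · rw [← hpow a (mem_zpowers a), ha, map_one]; exact f1
  · rw [hσ a (mem_zpowers a), hσ _ (hb a (mem_zpowers a)), hb2]
  · rw [← hpow e he, he4, map_one]; exact f1
  · rw [hσ e he, ← hmul _ (hb e he), hbe, map_one]; exact f1
  · rw [← hmul e he, ← f1]; exact f.injective.ne hs

variable {G : Type*} [Group G] [Finite G] {H K P V W : Subgroup G} {p q : ℕ} {x : G}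

theorem card_cls (K : Subgroup G) (x : G) : Nat.card {y | ∃ k ∈ K, y = k * x * k⁻¹} = C[x].relIndex K := by
  let : MulAction K G := MulAction.compHom G (((ConjAct.toConjAct (G := G)).toMonoidHom).comp K.subtype)
  have : {y | ∃ k ∈ K, y = k * x * k⁻¹} = MulAction.orbit K x := by
    ext y
    exact ⟨fun ⟨k, hk, e⟩ => ⟨⟨k, hk⟩, e.symm⟩, fun ⟨k, e⟩ => ⟨k, k.2, e.symm⟩⟩
  rw [this, Nat.card_coe_set_eq, ← MulAction.index_stabilizer, relIndex]
  congr 1
  ext k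
  rw [MulAction.mem_stabilizer_iff, mem_subgroupOf, mem_cen1]
  exact mul_inv_eq_iff_eq_mul

theorem le_or_le_of_forall {A B C : Subgroup G} (h : ∀ x ∈ A, x ∈ B ∨ x ∈ C) : A ≤ B ∨ A ≤ C := by
  by_contra hc
  rw [not_or] at hc
  obtain ⟨x, hx, hx'⟩ := SetLike.not_le_iff_exists.1 hc.1
  obtain ⟨y, hy, hy'⟩ := SetLike.not_le_iff_exists.1 hc.2
  rcases h _ (A.mul_mem hx hy) with e | e
  · exact hx' ((mul_mem_cancel_right ((h y hy).resolve_right hy')).1 e)
  · exact hy' ((mul_mem_cancel_left ((h x hx).resolve_left hx')).1 e)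

theorem card_le_sq_mc {a b : G} {m : ℕ} (hq : q.Prime) (hq2 : Odd q) (hV : Abelem q V) (h : H3.MC P a b m)
    (hn : P ≤ N(V)) (hf : P ⊓ C(V) = ⊥) (hirr : ∀ W, W ≤ V → a ∈ N(W) → W = ⊥ ∨ W = V) : #V ≤ q ^ 2 := by
  let : CommGroup V := { (inferInstance : Group V) with mul_comm := hV.ab.is_comm.comm }
  let ρ : N(V) →* AddMonoid.End (Additive V) :=
    { toFun := fun g => MonoidHom.toAdditive (V.normalizerMonoidHom g).toMonoidHom
      map_one' := by rw [map_one]; rfl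
      map_mul' := fun g h => by rw [map_mul]; rfl }
  have hρ : ∀ (g : N(V)) (x : Additive V), ((Additive.toMul (ρ g x) : V) : G) = g * (Additive.toMul x : V) * (g : G)⁻¹ :=
    fun _ _ => rfl
  have h2 := h.two_le
  have ee : a ^ 2 ^ (m - 2) * a ^ 2 ^ (m - 2) = a ^ 2 ^ (m - 1) := by
    rw [← pow_add, ← mul_two, ← pow_succ, show m - 2 + 1 = m - 1 by omega]
  obtain ⟨s, hs, hs'⟩ : ∃ s ∈ V, s * a ^ 2 ^ (m - 1) ≠ a ^ 2 ^ (m - 1) * s := by
    by_contra e
    push Not at e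
    exact h.z_ne (eq_one_of_mem_inf hf (h.le h.z_mem) (mem_cen.2 e))
  have mz : ∀ u : N(V), u ∈ ⟪(⟨a, hn h.a_mem⟩ : N(V))⟫ ↔ (u : G) ∈ ⟪a⟫ := fun u => by
    simp only [mem_zpowers_iff, Subtype.ext_iff, coe_zpow]
  refine card_le_sq (V := Additive V) ρ (a := ⟨a, hn h.a_mem⟩) (b := ⟨b, hn h.b_mem⟩) (m := m)
    (e := ⟨a, hn h.a_mem⟩ ^ 2 ^ (m - 2)) hq hq2 (fun x => Subtype.ext (hV.pow (Additive.toMul x).2))
    (Subtype.ext (h.ord ▸ pow_orderOf_eq_one a)) (fun K hK => ?_) (fun u hu => (mz _).2 (conj_mem h.b_nrm ((mz _).1 hu)))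
    (Subtype.ext ?_) (pow_mem (mem_zpowers _) _) (Subtype.ext ?_) (Subtype.ext ?_) (s := Additive.ofMul ⟨s, hs⟩) ?_
  · rcases hirr ((AddSubgroup.toSubgroup' K).map V.subtype) (map_subtype_le _) (mem_nrm.2 (by
      rintro _ ⟨y, hy, rfl⟩
      exact ⟨_, hK (Additive.ofMul y) hy, rfl⟩)) with e | e
    · left
      rw [Subgroup.map_eq_bot_iff_of_injective _ V.subtype_injective] at e
      exact eq_bot_iff.2 fun y hy => (e.le (show Additive.toMul y ∈ AddSubgroup.toSubgroup' K from hy) :)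
    · right
      refine eq_top_iff.2 fun y _ => ?_
      obtain ⟨z, hz, e'⟩ := e.ge (Additive.toMul y).2
      rwa [show z = Additive.toMul y from Subtype.ext e'] at hz
  · change b * (b * a * b⁻¹) * b⁻¹ = a
    have := (ab_zpowers a).comm h.sq_mem (mem_zpowers a)
    calc b * (b * a * b⁻¹) * b⁻¹ = b ^ 2 * a * (b ^ 2)⁻¹ := by rw [pow_two]; group
      _ = a := by rw [this, mul_inv_cancel_right]
  · change b * a ^ 2 ^ (m - 2) * b⁻¹ * a ^ 2 ^ (m - 2) = 1
    rw [mul_eq_one_iff_eq_inv]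
    rcases h2.eq_or_lt with e | e
    · rcases h.conj with e' | e'
      · rw [← e]; simpa using e'
      · omega
    · exact h.conj_inv (by simpa using H3.zpowers_pow_pow_le a 2 (show 1 ≤ m - 2 by omega) (mem_zpowers _))
  · change (a ^ 2 ^ (m - 2)) ^ 4 = 1
    rw [show 4 = 2 * 2 from rfl, pow_mul, pow_two (a ^ _), ee, h.z_sq]
  · intro e
    have := congrArg (fun x => ((Additive.toMul x : V) : G)) e
    simp only [hρ] at this
    change a ^ 2 ^ (m - 2) * a ^ 2 ^ (m - 2) * s * (a ^ 2 ^ (m - 2) * a ^ 2 ^ (m - 2))⁻¹ = s at this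
    rw [ee, mul_inv_eq_iff_eq_mul] at this
    exact hs' this.symm

theorem porb_core (hq : q.Prime) (hab : Ab V) (hV : PGrp q V) (hH : PiGrp {q}ᶜ H) (hn : H ≤ N(V))
    (hf : H ⊓ C(V) = ⊥) (hirr : ∀ W, W ≤ V → H ≤ N(W) → W = ⊥ ∨ W = V) (hperf : ⁅H, H⁆ = H)
    (horb : ∀ v ∈ V, PiNat {p} (C[v].relIndex H)) : H = ⊥ := by
  by_contra h1
  have hns : ¬ Sol H := fun h => h1 (perf_eq_bot hperf h)
  have h2 : 2 ∣ #H := by
    by_contra h
    exact hns (odd_order_solvable (Nat.two_dvd_ne_zero.1 h |> Nat.odd_iff.2))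
  have hq2 : q ≠ 2 := fun e => hH.mem Nat.prime_two h2 e.symm
  have hV1 : V ≠ ⊥ := fun e => h1 (by rwa [e, cen_bot, inf_top_eq] at hf)
  have ex : ∀ t ∈ H, t ≠ 1 → ¬ V ≤ C[t] := fun t ht t1 e => t1 (eq_one_of_mem_inf hf ht (le_cen1.1 e))
  obtain rfl : p = 2 := by
    obtain ⟨t, ht, t2⟩ := exists_elt_of_prime_dvd Nat.prime_two h2
    have tt : t * t = 1 := by rw [← pow_two, ← t2, pow_orderOf_eq_one]
    obtain ⟨u, hu, hu'⟩ := SetLike.not_le_iff_exists.1 (ex t ht fun e => by simp [e] at t2)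
    have hv : u⁻¹ * (t * u * t⁻¹) ∈ V := V.mul_mem (V.inv_mem hu) (conj_mem (hn ht) hu)
    have e1 : t * (u⁻¹ * (t * u * t⁻¹)) * t⁻¹ = (u⁻¹ * (t * u * t⁻¹))⁻¹ := by
      have : t⁻¹ = t := inv_eq_of_mul_eq_one_right tt
      calc t * (u⁻¹ * (t * u * t⁻¹)) * t⁻¹ = t * u⁻¹ * t⁻¹ * ((t * t) * u * (t * t)⁻¹) := by group
        _ = _ := by rw [tt]; group
    set v := u⁻¹ * (t * u * t⁻¹) with hve
    have v1 : v ≠ 1 := fun e => hu' (mem_cen1.2 (by
      rw [hve, inv_mul_eq_one, eq_mul_inv_iff_mul_eq] at e; exact e))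
    have ht1 : t ∈ N(C[v] ⊓ H) := normsI (X := ⟪t⟫) (zpowers_le.2 (by
      rw [← cj_eq_self, cj_cen1, e1, cen1_inv])) (norms_of_le (zpowers_le.2 ht)) (mem_zpowers t)
    have ht2 : t ∉ C[v] ⊓ H := fun e => by
      rw [mem_cen1.1 e.1, mul_inv_cancel_right, eq_inv_iff_mul_eq_one, ← pow_two] at e1
      exact v1 ((pElt_of_pow_eq_one Nat.prime_two e1).eq_one_of_mem (hV.p' hq2) hv)
    have := relIndex_dvd_of_le' (le_sup_left : C[v] ⊓ H ≤ C[v] ⊓ H ⊔ ⟪t⟫) (sup_le inf_le_right (zpowers_le.2 ht))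
    rw [H3.relIndex_sup_zpowers Nat.prime_two ht1 ht2 (by rw [pow_two, tt]; exact one_mem _), inf_relIndex_right] at this
    exact (horb v hv 2 Nat.prime_two this).symm
  obtain ⟨P, hP⟩ := exists_syl 2 H
  have conj : ∀ v ∈ V, ∀ h ∈ H, ∃ u ∈ P, h * v * h⁻¹ = u * v * u⁻¹ := fun v hv h hh => by
    obtain ⟨u, hu, c, hc, rfl⟩ := (hP.mulEq_of_relIndex (R := C[v] ⊓ H) inf_le_right
      (by rw [inf_relIndex_right]; exact horb v hv)).mul h hh
    exact ⟨u, hu, by rw [mul_assoc u, mem_cen1.1 hc.1]; group⟩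
  have key : ∀ W, W ≤ V → N(W).relIndex P ∣ 2 → W = ⊥ ∨ W = V := fun W hW hd => by
    refine hirr W hW ?_
    rcases (Nat.dvd_prime Nat.prime_two).1 hd with e | e
    · refine le_nrm_iff.2 fun h hh w hw => ?_
      obtain ⟨u, hu, e'⟩ := conj w (hW hw) h hh
      exact e' ▸ conj_mem (relIndex_eq_one.1 e hu) hw
    obtain ⟨s, hs, hs'⟩ := SetLike.not_le_iff_exists.1 fun e' => absurd (e.symm.trans (relIndex_eq_one.2 e')) (by norm_num)
    have h3 : ∀ h ∈ H, h ∈ N(W) ∨ s⁻¹ * h ∈ N(W) := fun h hh => by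
      refine (le_or_le_of_forall (A := cj h W) (B := W) (C := cj s W) fun y hy => ?_).imp mem_nrm_of_cj_le fun e' =>
        mem_nrm_of_cj_le (by rwa [← cj_cj, cj_le_iff, inv_inv])
      obtain ⟨w, hw, rfl⟩ := mem_cj'.1 hy
      obtain ⟨u, hu, e'⟩ := conj w (hW hw) h hh
      rw [e']
      by_cases hu' : u ∈ N(W)
      · exact .inl (conj_mem hu' hw)
      · refine .inr (mem_cj.2 ?_)
        have := conj_mem (H3.mul_mem_of_relIndex_two e (P.inv_mem hs) hu (fun a => hs' (inv_mem_iff.1 a)) hu') hw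
        simpa [mul_assoc] using this
    have h4 : (N(W).subgroupOf H).index = 2 := index_eq_two_iff'.2 ⟨⟨s⁻¹, H.inv_mem (hP.le hs)⟩, fun h => by
      by_cases a : (h : G) ∈ N(W)
      · exact .inr ⟨a, fun b => hs' (inv_mem_iff.1 ((mul_mem_cancel_right a).1 b))⟩
      · exact .inl ⟨(h3 h h.2).resolve_left a, a⟩⟩
    have h5 : H ⊓ N(W) ⊴ H := (nml_iff_normal inf_le_left).2 (by
      rw [inf_subgroupOf_left]; exact normal_of_index_eq_two h4)
    refine (perf_le_of_sol_quo hperf h5.nrm (sol_of_prime ?_)).trans inf_le_right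
    rw [card_quo h5.nrm, inf_relIndex_left, relIndex, h4]; exact Nat.prime_two
  rcases H3.cyc_or_mc_of_no_normal_four hP.pi (fun A hA hA4 => by
    obtain ⟨y, hy, y1, hy'⟩ := coprime_abelian_exists_cent1_ne hA4.ab hA4.not_cyc ((hA.le.trans hP.le).trans hn)
      (hV.cop_of_ne hA4.pGrp hq2) hV1
    refine (key (V ⊓ C[y]) inf_le_left ?_).elim hy' fun e => ex y (hP.le (hA.le hy)) y1 (e.ge.trans inf_le_right)
    rw [← inf_relIndex_right]
    refine (relIndex_dvd_of_le (A := C[y] ⊓ P) (le_inf (normsI ((inf_le_right.trans hP.le).trans hn)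
      (norms_of_le inf_le_left)) inf_le_right) P).trans ?_
    rw [inf_relIndex_right]
    obtain ⟨j, hj⟩ := hP.pi.card
    obtain ⟨i, -, hi⟩ := (Nat.dvd_prime_pow Nat.prime_two).1 (hj ▸ relIndex_dvd C[y] P)
    have h3 : C[y].relIndex P < 2 ^ 2 := by
      rw [← card_cls, ← hA4.card, Nat.card_coe_set_eq, ← SetLike.coe_sort_coe, Nat.card_coe_set_eq]
      refine Set.ncard_lt_ncard ⟨?_, fun e => ?_⟩ (Set.toFinite _)
      · rintro _ ⟨k, hk, rfl⟩; exact hA.conj_mem hk hy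
      · obtain ⟨k, -, e'⟩ := e A.one_mem
        exact conj_ne_one.2 y1 e'.symm
    rw [hi] at h3 ⊢
    have := (Nat.pow_lt_pow_iff_right one_lt_two).1 h3
    exact (Nat.pow_dvd_pow 2 (show i ≤ 1 by omega)).trans (by norm_num)) with hc | ⟨a, b, m, hc⟩
  · have h3 := cyclic_pdiv_normal_complement hP hc fun r hr _ => hr.two_le
    have h4 := perf_le_of_sol_quo hperf (pcore_nrm {2}ᶜ H)
      (PiGrp.sol (p := 2) (by rw [PGrp, PiGrp, card_quo (pcore_nrm _ _)]; exact h3.relIndex))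
    exact ((pcore_pi _ _).mono h4).mem Nat.prime_two h2 rfl
  have hE : Abelem q V := by
    rw [← (hirr _ (Ohm_le q V) (norms_Ohm q hn)).resolve_left (hV.Ohm_ne_bot hV1)]
    exact hab.abelem_Ohm q
  have h3 := card_le_sq_mc hq (hq.odd_of_ne_two hq2) hE hc (hP.le.trans hn)
    (eq_bot_of_le (inf_le_inf_right _ hP.le) hf) fun W hW ha => key W hW
      (hc.relIndex ▸ relIndex_dvd_of_le (zpowers_le.2 ha) P)
  obtain ⟨v, hv, v1⟩ := exists_ne_one hV1
  have hK : C[v] ⊓ H ≤ N(V) := inf_le_right.trans hn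
  have dp := coprime_abelian_cent_dprod hK (hV.cop (hH.inf_right _)) hab
  have h4 : Cyc ⁅V, C[v] ⊓ H⁆ := by
    have a1 : q ≤ #(V ⊓ C(C[v] ⊓ H)) := (hV.inf_left _).le_card (ne_bot_of_mem ⟨hv, le_cen1.1 inf_le_left⟩ v1)
    obtain ⟨j, hj⟩ := (hV.mono dp.left).card
    refine cyc_of_card_dvd_prime hq ?_
    rw [dp.card, hj] at h3
    have a2 := (Nat.mul_le_mul_left _ a1).trans h3
    rw [← pow_succ, Nat.pow_le_pow_iff_right hq.one_lt] at a2
    rw [hj]
    exact (Nat.pow_dvd_pow q (show j ≤ 1 by omega)).trans (by simp)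
  have h5 : Ab (C[v] ⊓ H) := ab_iff_der.2 (eq_bot_of_le (le_inf ((der_le _).trans inf_le_right) (by
    rw [← dp.sup]
    exact centsY (h4.der_cents (norm_comm_right _ _)) ((der_le _).trans (centsC inf_le_right)))) hf)
  obtain ⟨k, hk⟩ := (horb v hv).exists_pow (relIndex_pos _ _).ne'
  exact hns (H27.isSolvable_of_abelian_index_prime_pow Nat.prime_two _ (h5.so inf_le_right) (k := k) (by
    rw [← hk, ← inf_relIndex_right]; rfl))

theorem porb_perf (hq : q.Prime) (hab : Ab V) (hV : PGrp q V) (hH : PiGrp {q}ᶜ H) (hn : H ≤ N(V))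
    (hperf : ⁅H, H⁆ = H) (horb : ∀ v ∈ V, PiNat {p} (C[v].relIndex H)) : H ≤ C(V) := by
  by_contra hc
  obtain ⟨W, hW, ⟨h1, h2⟩, hmin⟩ := exists_min (fun W => H ≤ N(W) ∧ ¬ H ≤ C(W)) (A := V) ⟨hn, hc⟩
  have cop : Cop W H := (hV.mono hW).cop hH
  have h3 : ⁅W, H⁆ = W := by
    by_contra e
    refine h2 (coprime_cents_of_comm_cents h1 cop (centsC ?_))
    by_contra e'
    exact e (hmin _ ⟨norm_comm_right _ _, e'⟩ (comm_le_left h1))
  have h4 : ∀ U, U ≤ W → H ≤ N(U) → U = ⊥ ∨ U = W := fun U hU hU' => by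
    by_cases e : H ≤ C(U)
    · exact .inl (eq_bot_of_le (le_inf (h3.symm ▸ hU) (centsC e)) (coprime_abel_cent_TI h1 cop (hab.mono hW)))
    · exact .inr (hmin U ⟨hU', e⟩ hU)
  have nH : H ≤ N(H ⊓ C(W)) := (subcent_nml h1).nrm
  have nW : W ≤ N(H ⊓ C(W)) := cents_norm (centsC inf_le_right)
  have hi : H ⊓ C(W) ⊓ W = ⊥ := (hH.inf_left _).inf_eq_bot' (hV.mono hW)
  have := porb_core (p := p) hq ((hab.mono hW).quo (H ⊓ C(W))) ((hV.mono hW).quo _) (hH.quo _) (quo_norms _ h1)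
    (eq_bot_iff.2 fun u hu => by
      obtain ⟨x, hx, hx', rfl⟩ := mem_quo.1 hu.1
      refine coset_of_mem ⟨hx, mem_cen.2 fun w hw => commutatorElement_eq_one_iff_mul_comm.1
        (eq_one_of_mem_inf hi ((coset_commute_iff (nW hw) hx').1 (mem_cen.1 hu.2 _ (mem_quo_of_mem (nW hw) hw)))
          (comm_le_left h1 (commutator_mem_commutator hw hx)))⟩)
    (fun U hU hU' => by
      refine (h4 (W ⊓ qpre(H ⊓ C(W), U)) inf_le_left (normsI h1 (norms_qpre nH hU'))).imp (fun e => ?_) fun e => ?_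
      · rw [← quo_inf_qpre_of_le hU, e, quo_bot]
      · rw [← quo_inf_qpre_of_le hU, e])
    (perf_quo hperf nH) fun u hu => by
      obtain ⟨w, hw, hw', rfl⟩ := mem_quo.1 hu
      refine (horb w (hW hw)).of_dvd ?_
      rw [← inf_relIndex_left H C[w]]
      exact (relIndex_dvd_of_le ((quo_subcent1_le H hw').trans inf_le_right) _).trans
        (relIndex_pmap_dvd _ (inf_le_left.trans nH) nH)
  exact h2 (((quo_eq_bot nH).1 this).trans inf_le_right)

/-- a coprime faithful action on an abelian `q`-group with all orbits of `p`-power length -/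
theorem porb_sol (hq : q.Prime) (hab : Ab V) (hV : PGrp q V) (hH : PiGrp {q}ᶜ H) (hn : H ≤ N(V))
    (hf : H ⊓ C(V) = ⊥) (horb : ∀ v ∈ V, PiNat {p} (C[v].relIndex H)) : Sol H := by
  by_contra hc
  obtain ⟨L, hL, ⟨h1, h2⟩, hmin⟩ := exists_min (fun L => ¬ Sol L ∧ ∀ v ∈ V, PiNat {p} (C[v].relIndex L)) (A := H)
    ⟨hc, horb⟩
  have h3 := hmin ⁅L, L⁆ ⟨fun e => h1 (sol_of_der e), fun v hv => (h2 v hv).of_dvd ((der_nml L).subn.relIndex_dvd _)⟩
    (der_le L)
  exact h1 (eq_bot_of_le (le_inf hL (porb_perf hq hab hV (hH.mono hL) (hL.trans hn) h3 h2)) hf ▸ sol_bot)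

end Cfsg.Agent.H1
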