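import Mathlib
import Cfsg.Agent.H1.XCit1
import Cfsg.Agent.H13.SzSub
import Cfsg.Agent.H10.SL2b
import Cfsg.Agent.H10.SmallIso
import Cfsg.Agent.L0.Zsig

/-! Copy of `H21.Epo2` and `H21.Epo3` (helper21) which can be imported together with `BS.BInd1`. -/

set_option autoImplicit false
set_option linter.unusedSectionVars false

namespace Cfsg.Agent.HX

open Subgroup Cfsg.Agent.H21 Cfsg.Agent.FT Cfsg.Agent.GW Cfsg.Agent.H13 Matrix
open scoped MatrixGroups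

variable {G : Type*} [Group G] [Finite G] {G' : Type*} [Group G'] [Finite G'] {K : Subgroup G}
  {x : G} {d k m n p q r : ℕ}

/-- `n` is an element order of `G` -/
def HasO (G : Type*) [Group G] (n : ℕ) : Prop := ∃ x : G, orderOf x = n

theorem HasO.dvd (h : HasO G n) (hd : d ∣ n) : HasO G d := by
  obtain ⟨x, rfl⟩ := h
  obtain ⟨y, -, e⟩ := H27.exists_orderOf_of_dvd hd
  exact ⟨y, e⟩

theorem HasO.lift (f : G →* G') (hf : Function.Surjective f) (h : HasO G' n) : HasO G n := by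
  obtain ⟨y, rfl⟩ := h
  obtain ⟨x, rfl⟩ := hf y
  exact HasO.dvd ⟨x, rfl⟩ (orderOf_map_dvd f x)

theorem HasO.equiv (e : G ≃* G') (h : HasO G' n) : HasO G n := h.lift e.toMonoidHom e.surjective

theorem HasO.quo [K.Normal] (h : HasO (G ⧸ K) n) : HasO G n :=
  h.lift (QuotientGroup.mk' K) (QuotientGroup.mk'_surjective K)

theorem HasO.sub (h : HasO K n) : HasO G n := h.elim fun x e => ⟨x, by simpa using e⟩

theorem HasO.card (h : HasO G n) : n ∣ Nat.card G := h.elim fun x e => e ▸ orderOf_dvd_natCard x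

theorem hasO_of_prime (hp : p.Prime) (h : p ∣ Nat.card G) : HasO G p :=
  have := Fact.mk hp
  exists_prime_orderOf_dvd_card' p h

theorem hasO_of_cyc (h : IsCyclic K) : HasO G #K :=
  HasO.sub (isCyclic_iff_exists_orderOf_eq_natCard.1 h)

/-- `G` is `PSL₂(q)` -/
def PSLq (q : ℕ) (G : Type*) [Group G] : Prop :=
  ∃ (F : Type) (_ : Field F) (_ : Fintype F), Fintype.card F = q ∧ Nonempty (G ≃* PSL(2, F))

/-- `G` is `Sz(2 ^ (2 * m + 1))` -/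
def Szm (m : ℕ) (G : Type*) [Group G] : Prop :=
  ∃ (F : Type) (_ : Field F) (_ : Fintype F), Fintype.card F = 2 ^ (2 * m + 1) ∧
    Nonempty (G ≃* Lie.Sz F (2 ^ (m + 1)))

theorem _root_.Cfsg.Agent.H21.IsZT.casesX (h : IsZT G) : (∃ n, 2 ≤ n ∧ PSLq (2 ^ n) G) ∨ ∃ m, 1 ≤ m ∧ Szm m G := by
  obtain ⟨-, ⟨F, _, _, ⟨n, h1, h2⟩, e⟩ | ⟨F, _, _, m, h1, h2, e⟩⟩ := h
  · exact Or.inl ⟨n, h1, F, _, _, h2, e⟩
  · exact Or.inr ⟨m, h1, F, _, _, h2, e⟩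

theorem _root_.Cfsg.Agent.H21.L2q.casesX (h : L2q G) : PSLq 9 G ∨ ∃ p k, p.Prime ∧ 3 ≤ k ∧
    (p = 2 ^ k + 1 ∨ p + 1 = 2 ^ k) ∧ PSLq p G := by
  obtain ⟨F, _, _, h7, h | ⟨hp, k, h⟩, e⟩ := h
  · exact Or.inl ⟨F, _, _, h, e⟩
  · refine Or.inr ⟨_, k, hp, by_contra fun hk => ?_, h, F, _, _, rfl, e⟩
    have := Nat.pow_le_pow_right two_pos (show k ≤ 2 by omega)
    omega

theorem pslq_of {F : Type*} [Field F] [Fintype F] (e : G ≃* PSL(2, F)) : PSLq (Fintype.card F) G := by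
  obtain ⟨K, _, _, h, ⟨f⟩⟩ := H10.exists_small_field F
  exact ⟨K, _, _, h.trans Nat.card_eq_fintype_card, ⟨e.trans (H10.pslCongr f)⟩⟩

theorem PSLq.equiv {F : Type*} [Field F] [Fintype F] (h : PSLq (Fintype.card F) G) :
    Nonempty (G ≃* PSL(2, F)) := by
  obtain ⟨K, _, _, h, ⟨f⟩⟩ := h
  exact ⟨f.trans (H10.pslCongr (FiniteField.ringEquivOfCardEq h))⟩

theorem PSLq.card (h : PSLq q G) : Nat.gcd 2 (q - 1) * Nat.card G = q * (q - 1) * (q + 1) := by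
  obtain ⟨F, _, _, rfl, ⟨e⟩⟩ := h
  rw [Nat.card_congr e.toEquiv, H10.card_PSL_two]

theorem PSLq.hasO (h : PSLq q G) (hn : Nat.gcd 2 (q - 1) * n = q - 1 ∨ Nat.gcd 2 (q - 1) * n = q + 1) :
    HasO G n := by
  obtain ⟨F, _, _, rfl, ⟨e⟩⟩ := h
  rw [← Nat.card_eq_fintype_card] at hn
  obtain ⟨z, z', h⟩ : ∃ z z' : H10.PLbar F, H10.IsTorusPair z z' (Nat.gcd 2 (Nat.card F - 1) * n) := by
    rcases hn with hn | hn <;> rw [hn]
    · exact ⟨_, _, H10.exists_isTorusPair_split F⟩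
    · obtain ⟨z, z', -, h⟩ := H10.exists_isTorusPair_nonsplit F
      exact ⟨z, z', h⟩
  obtain ⟨p, hp⟩ := H10.exists_lineAct F
  obtain ⟨H, -, ⟨f⟩⟩ := H10.exists_psl_subgroup (inf_le_left (a := H10.pslSub F) (b := H10.torus _ z z'))
  have := hp.isCyclic_of_le_torus h.1 (inf_le_right (a := H10.pslSub F))
  have h1 := hasO_of_cyc (isCyclic_of_injective f.toMonoidHom f.injective)
  rw [Nat.card_congr f.toEquiv, Nat.eq_of_mul_eq_mul_left (Nat.gcd_pos_of_pos_left _ two_pos)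
    h.card_psl_inf_torus] at h1
  exact h1.equiv e

theorem PSLq.ord (h : PSLq (p ^ k) G) (hp : p.Prime) (hn : HasO G n) : n ∣ p ∨
    Nat.gcd 2 (p ^ k - 1) * n ∣ p ^ k - 1 ∨ Nat.gcd 2 (p ^ k - 1) * n ∣ p ^ k + 1 := by
  obtain ⟨F, _, _, hF, ⟨e⟩⟩ := h
  haveI := Fact.mk hp
  haveI := charP_of_card_eq_prime_pow hF
  obtain ⟨x, rfl⟩ := hn.equiv e.symm
  rw [← hF, ← Nat.card_eq_fintype_card, ← orderOf_injective _ H10.pslPi_injective, orderOf_dvd_iff_pow_eq_one]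
  exact or_iff_not_imp_left.2 (H10.psl_orderOf_dvd (H10.pslPi_mem x))

theorem gcd_even (hn : 1 ≤ n) : Nat.gcd 2 (2 ^ n - 1) = 1 := by
  obtain ⟨n, rfl⟩ := Nat.exists_eq_add_of_le' hn
  have := Nat.one_le_two_pow (n := n)
  exact Nat.coprime_two_left.2 ⟨2 ^ n - 1, by rw [pow_succ]; omega⟩

theorem gcd_odd (hn : Odd n) : Nat.gcd 2 (n - 1) = 2 := by
  obtain ⟨n, rfl⟩ := hn
  simp

theorem Szm.data (h : Szm m G) (hm : 1 ≤ m) :
    ∃ (F : Type) (_ : Field F) (S : SzData G F), S.m = m := by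
  obtain ⟨F, _, _, h, ⟨e⟩⟩ := h
  exact ⟨F, _, (szDataB hm (Nat.card_eq_fintype_card.trans h)).ofEquiv e, rfl⟩

theorem sz_equiv {F F' : Type*} [Field F] [Field F'] (S : SzData G F) (S' : SzData G' F')
    (h : S.m = S'.m) : Nonempty (G' ≃* G) := by
  have := S.finiteF
  have := S'.finiteF
  obtain ⟨σ⟩ := H10.nonempty_ringEquiv_of_card_eq (K := F') (L := F) (by rw [S.card, S'.card, h])
  exact ⟨MulEquiv.ofBijective (S.embed S' σ) ((Nat.bijective_iff_injective_and_card _).2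
    ⟨S.embed_injective S' _, by rw [S.card_G, S'.card_G, SzData.q, SzData.q, h]⟩)⟩

theorem sz_hasO {F : Type*} [Field F] (S : SzData G F) (h : S.TorusOrder n) : HasO G n := by
  obtain ⟨A, hA, rfl⟩ := h.exists_isTorus
  exact hasO_of_cyc hA.isCyclic

theorem sz_ord {F : Type*} [Field F] (S : SzData G F) (h : HasO G n) :
    n ∣ 4 ∨ ∃ k, S.TorusOrder k ∧ n ∣ k := by
  obtain ⟨x, rfl⟩ := h
  by_cases h1 : x = 1
  · simp [h1]
  rcases S.mem_UAt_or_isTorus h1 with ⟨z, h⟩ | h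
  · exact Or.inl (orderOf_dvd_of_pow_eq_one (S.pow_four_of_mem_UAt h))
  · exact Or.inr ⟨_, h.order, (Subgroup.orderOf_dvd_natCard _ (self_mem_cen1 x))⟩

theorem Szm.card (h : Szm m G) (hm : 1 ≤ m) : Nat.card G =
    (2 ^ (2 * m + 1)) ^ 2 * ((2 ^ (2 * m + 1)) ^ 2 + 1) * (2 ^ (2 * m + 1) - 1) := by
  obtain ⟨F, _, S, rfl⟩ := h.data hm
  exact S.card_G

theorem five_dvd_sz (m : ℕ) : 5 ∣ (2 ^ (2 * m + 1)) ^ 2 + 1 := by
  rw [← pow_mul, show (2 * m + 1) * 2 = 4 * m + 2 by ring, pow_add, pow_mul, Nat.dvd_iff_mod_eq_zero]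
  simp [Nat.add_mod, Nat.mul_mod, Nat.pow_mod]

theorem Szm.five (h : Szm m G) (hm : 1 ≤ m) : 5 ∣ Nat.card G :=
  h.card hm ▸ ((five_dvd_sz m).mul_left _).mul_right _

theorem Szm.three (h : Szm m G) (hm : 1 ≤ m) : ¬ 3 ∣ Nat.card G := by
  have h1 : 2 ^ (2 * m + 1) % 3 = 2 := by
    rw [pow_succ, pow_mul]; simp [Nat.mul_mod, Nat.pow_mod]
  rw [h.card hm]
  generalize 2 ^ (2 * m + 1) = q at *
  obtain ⟨a, rfl⟩ : ∃ a, q = 3 * a + 2 := ⟨q / 3, by omega⟩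
  rw [Nat.dvd_iff_mod_eq_zero, show 3 * a + 2 - 1 = 3 * a + 1 by omega]
  simp [Nat.add_mod, Nat.mul_mod, Nat.pow_mod]

theorem _root_.Cfsg.Agent.H21.L34.cardX (h : L34 G) : Nat.card G = 20160 := by
  obtain ⟨F, _, _, h, ⟨e⟩⟩ := h
  have h1 := H10.card_SL_fin (F := F) 3 (by norm_num)
  have h2 := H10.card_PSL_fin (F := F) 3 (by norm_num)
  rw [h] at h1 h2
  rw [Nat.card_congr e.toEquiv]
  norm_num [Fin.prod_univ_three] at h1 h2
  omega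

theorem M10.card (h : M10 G) : Nat.card G = 720 := by
  obtain ⟨-, M, hM, h⟩ := h
  have := PSLq.card (q := 9) h
  rw [← M.index_mul_card, hM]
  norm_num at this
  omega

theorem three_pow (hj : 2 ≤ k) (h3 : 3 ∣ n) (hn : IsPrimePow n) (h : n = 2 ^ k + 1 ∨ n + 1 = 2 ^ k) :
    (n = 9 ∧ k = 3) ∨ (n = 3 ∧ k = 2) := by
  obtain ⟨p, j, hp, hj', rfl⟩ := (isPrimePow_nat_iff _).1 hn
  have h4 := Nat.pow_le_pow_right two_pos hj
  have inj := fun a b => @Nat.pow_right_injective 2 le_rfl a b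
  rcases prime_or_nine hp hj'.ne' hj h with e | e
  · refine Or.inl ⟨e, inj _ _ ?_⟩
    have : 4 ∣ 2 ^ k := pow_dvd_pow 2 hj
    simp only; omega
  · have := (Nat.prime_dvd_prime_iff_eq Nat.prime_three e).1 h3
    refine Or.inr ⟨this.symm, inj _ _ ?_⟩
    simp only; omega

theorem three_dvd (n : ℕ) (h : ¬ 3 ∣ n) : 3 ∣ n - 1 ∨ 3 ∣ n + 1 := by omega

theorem not_three_dvd (n : ℕ) : ¬ 3 ∣ 2 ^ n := fun h => by
  simpa using Nat.prime_three.dvd_of_dvd_pow h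

theorem five_pow (hm : 1 ≤ m) (h : 5 ^ k ≡ 1 [MOD 2 ^ (m + 1)]) (hk : k ≠ 0)
    (hl : 5 ^ k < 2 ^ (2 * m + 2)) : m ≤ 2 := by
  obtain ⟨m, rfl⟩ := Nat.exists_eq_add_of_le' hm
  have h1 : 2 ^ m ∣ k := by
    rw [← ZMod.orderOf_five, orderOf_dvd_iff_pow_eq_one]
    simpa using (ZMod.natCast_eq_natCast_iff _ _ _).2 h
  have h2 : 2 ^ (2 * 2 ^ m) ≤ 5 ^ k := by
    rw [pow_mul]
    exact (Nat.pow_le_pow_left (by norm_num) _).trans
      (Nat.pow_le_pow_right (by norm_num) (Nat.le_of_dvd (by omega) h1))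
  have h3 := (Nat.pow_lt_pow_iff_right one_lt_two).1 (h2.trans_lt hl)
  by_contra hc
  obtain ⟨j, rfl⟩ := Nat.exists_eq_add_of_le' (show 2 ≤ m by omega)
  have := @Nat.lt_two_pow_self j
  rw [pow_add] at h3
  omega

end Cfsg.Agent.HX

namespace Cfsg.Agent.HX

open Subgroup Cfsg.Agent.H21 Cfsg.Agent.FT Cfsg.Agent.GW Cfsg.Agent.H13 Matrix
open scoped MatrixGroups

variable {G : Type*} [Group G] [Finite G] {G' : Type*} [Group G'] [Finite G'] {K : Subgroup G}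
  {x : G} {d k m n p q r s : ℕ}

theorem ord_two_dvd : orderOf (2 : ZMod s) ∣ k ↔ s ∣ 2 ^ k - 1 := by
  rw [orderOf_dvd_iff_pow_eq_one, ← Nat.modEq_iff_dvd' Nat.one_le_two_pow, Nat.ModEq.comm,
    ← ZMod.natCast_eq_natCast_iff]
  simp

theorem exists_prim (h2 : 2 < n) (h6 : n ≠ 6) : ∃ s, s.Prime ∧ s ≠ 2 ∧ orderOf (2 : ZMod s) = n := by
  obtain ⟨s, hs, e⟩ := L0.zsigmondy (a := 2) (n := n) one_lt_two (by omega) (by omega) (by omega)
  refine ⟨s, hs, ?_, e⟩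
  rintro rfl
  have := ord_two_dvd.1 (dvd_of_eq e)
  have h1 : 2 ∣ 2 ^ n := dvd_pow_self 2 (by omega)
  have := Nat.one_le_two_pow (n := n)
  omega

theorem not_dvd_two_pow (hs : s.Prime) (h2 : s ≠ 2) (k : ℕ) : ¬ s ∣ 2 ^ k := fun h =>
  h2 ((Nat.prime_dvd_prime_iff_eq hs Nat.prime_two).1 (hs.dvd_of_dvd_pow h))

theorem two_pow_sub (k : ℕ) : 2 ^ (2 * k) - 1 = (2 ^ k - 1) * (2 ^ k + 1) := by
  rw [mul_comm 2, pow_mul, mul_comm, ← Nat.sq_sub_sq, one_pow]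

theorem dvd_quo_iff (hs : s.Prime) (h2 : s ≠ 2) : s ∣ Nat.card (G ⧸ pCore 2 G) ↔ s ∣ Nat.card G := by
  obtain ⟨k, hk⟩ := (pGrp_pCore (G := G)).card
  rw [card_eq_card_quotient_mul_card_subgroup (pCore 2 G), hk, hs.dvd_mul,
    or_iff_left (not_dvd_two_pow hs h2 k)]

theorem PSLq.dvd_iff (h : PSLq q G) (hs : s.Prime) (h2 : s ≠ 2) :
    s ∣ Nat.card G ↔ s ∣ q ∨ s ∣ q - 1 ∨ s ∣ q + 1 := by
  rw [← or_assoc, ← hs.dvd_mul, ← hs.dvd_mul, ← h.card, hs.dvd_mul, or_iff_right fun e =>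
    h2 ((Nat.prime_dvd_prime_iff_eq hs Nat.prime_two).1 (e.trans (Nat.gcd_dvd_left _ _)))]

theorem PSLq.dvd_iff' (h : PSLq (2 ^ n) G) (hs : s.Prime) (h2 : s ≠ 2) :
    s ∣ Nat.card G ↔ orderOf (2 : ZMod s) ∣ 2 * n := by
  rw [h.dvd_iff hs h2, or_iff_right (not_dvd_two_pow hs h2 n), ord_two_dvd, two_pow_sub, hs.dvd_mul]

theorem PSLq.three (h : PSLq q G) : 3 ∣ Nat.card G := by
  rw [h.dvd_iff Nat.prime_three (by norm_num)]; omega

theorem three_of_list (h : L2q G ∨ M10 G ∨ L34 G) : 3 ∣ Nat.card G := by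
  rcases h with h | h | h
  · rcases h.casesX with h | ⟨p, k, -, -, -, h⟩ <;> exact h.three
  · rw [h.card]; norm_num
  · rw [h.cardX]; norm_num

end Cfsg.Agent.HX
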