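import Mathlib

/-! The friendship theorem (Erdős–Rényi–Sós), by the trace argument modulo a prime factor of `d - 1`. -/

set_option autoImplicit false

namespace Cfsg.Agent.H1

open Finset Matrix

theorem friendship {V : Type*} [Finite V] [Nonempty V] (r : V → V → Prop) (hs : ∀ v w, r v w → r w v)
    (hi : ∀ v, ¬ r v v) (h : ∀ v w, v ≠ w → ∃! u, r v u ∧ r w u) {d : ℕ} (hd : ∀ v, Nat.card {w // r v w} = d) :
    ∃ v, ∀ w, v ≠ w → r v w := by
  classical
  have := Fintype.ofFinite V
  obtain ⟨v₀⟩ := ‹Nonempty V›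
  replace hd : ∀ v, #{w | r v w} = d := fun v => by rw [← hd v, Nat.card_eq_fintype_card, Fintype.card_subtype]
  have sq : ∀ (R : Type) [CommRing R] (v w : V), ∑ u, (if r v u then (1 : R) else 0) * (if r u w then 1 else 0) =
      if v = w then (d : R) else 1 := fun R _ v w => by
    have e : ∀ u, (if r v u then (1 : R) else 0) * (if r u w then 1 else 0) = if r v u ∧ r w u then 1 else 0 := fun u => by
      by_cases a : r v u <;> by_cases b : r w u <;> simp [a, b, show r u w ↔ r w u from ⟨hs _ _, hs _ _⟩]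
    simp only [e, sum_boole]
    split_ifs with a
    · simp [← a, hd]
    · obtain ⟨u, hu, hu'⟩ := h v w a
      rw [show ({u | r v u ∧ r w u} : Finset V) = {u} from eq_singleton_iff_unique_mem.2
        ⟨by simpa using hu, fun x hx => hu' x (by simpa using hx)⟩]
      simp
  have hc : (d : ℤ) + (Fintype.card V - 1) = d * d := by
    have e := sum_congr (rfl : (univ : Finset V) = univ) fun w _ => sq ℤ v₀ w
    rw [sum_comm] at e
    simp only [← mul_sum, sum_boole, hd, ← sum_mul] at e
    rw [e, ← add_sum_erase _ _ (mem_univ v₀), if_pos rfl, sum_congr rfl fun w hw => if_neg (ne_of_mem_erase hw).symm]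
    simp [card_erase_of_mem, Nat.cast_sub (Fintype.card_pos_iff.2 ⟨v₀⟩ : 1 ≤ Fintype.card V)]
  by_cases h2 : d ≤ 2
  · refine ⟨v₀, fun w hw => ?_⟩
    have h1 : 1 < Fintype.card V := Fintype.one_lt_card_iff.2 ⟨_, _, hw⟩
    obtain rfl : d = 2 := by interval_cases d <;> omega
    have : ({w | r v₀ w} : Finset V) = univ.erase v₀ := eq_of_subset_of_card_le
      (fun x hx => mem_erase.2 ⟨fun e => hi v₀ (by simpa [e] using hx), mem_univ _⟩)
      (by rw [hd, card_erase_of_mem (mem_univ _), card_univ]; omega)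
    simpa using this.ge (mem_erase.2 ⟨hw.symm, mem_univ _⟩)
  exfalso
  obtain ⟨p, hp, hpd⟩ := Nat.exists_prime_and_dvd (show d - 1 ≠ 1 by omega)
  have := Fact.mk hp
  have dm : (d : ZMod p) = 1 := by
    have := (ZMod.natCast_eq_zero_iff _ _).2 hpd
    rwa [Nat.cast_sub (by omega), Nat.cast_one, sub_eq_zero] at this
  have cm : (Fintype.card V : ZMod p) = 1 := by
    have := congrArg (Int.cast : ℤ → ZMod p) hc
    simpa [dm, sub_eq_zero] using this
  let A : Matrix V V (ZMod p) := of fun v w => if r v w then 1 else 0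
  have pw : ∀ k, A ^ (k + 2) = of fun _ _ => 1 := fun k => by
    induction k with
    | zero => ext v w; simpa [A, pow_two, mul_apply, dm] using sq (ZMod p) v w
    | succ k ih => rw [add_right_comm, pow_succ', ih]; ext v w; simp [A, mul_apply, hd, dm]
  have := ZMod.trace_pow_card A
  have e := pw (p - 2)
  rw [Nat.sub_add_cancel hp.two_le] at e
  rw [e] at this
  simp [trace, A, hi, cm, hp.ne_zero] at this

end Cfsg.Agent.H1
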