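import Mathlib
import Cfsg.Agent.H28.Extra2

/-! The critical case of the Hall–Higman theorem. -/

set_option autoImplicit false
set_option linter.unusedSectionVars false
set_option linter.style.haveILetI false

namespace Cfsg.Agent.H1

open Module Subgroup Cfsg.Agent.H28 LinearMap
open scoped commutatorElement

universe v

variable {k : Type*} [Field k] {G : Type*} [Group G] {V : Type v} [AddCommGroup V] [Module k V]
  [FiniteDimensional k V]

/-- the commutant of an endomorphism -/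
def cmt (N : End k V) : Submodule k (End k V) := ker (mulLeft k N - mulRight k N)

theorem mem_cmt {N S : End k V} : S ∈ cmt N ↔ N * S = S * N := by simp [cmt, sub_eq_zero]

theorem cmt_step (N : End k V) (h : ∀ x ∈ range N, N x ∈ range N) :
    finrank k (ker N) ^ 2 + finrank k (cmt (N.restrict h)) ≤ finrank k (cmt N) := by
  have hS : ∀ S : cmt N, ∀ x ∈ range N, S.1 x ∈ range N := by
    rintro S _ ⟨x, rfl⟩
    exact ⟨S.1 x, congr($(mem_cmt.1 S.2) x)⟩
  let Φ : cmt N →ₗ[k] End k (range N) :=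
    { toFun := fun S => S.1.restrict (hS S)
      map_add' := fun _ _ => rfl
      map_smul' := fun _ _ => rfl }
  have h1 : cmt (N.restrict h) ≤ range Φ := fun Y hY => by
    obtain ⟨σ, hσ⟩ := N.rangeRestrict.exists_rightInverse_of_surjective N.range_rangeRestrict
    obtain ⟨π, hπ⟩ := (range N).subtype.exists_leftInverse_of_injective (range N).ker_subtype
    have a1 : ∀ w : range N, N (σ w) = w := fun w => congrArg Subtype.val congr($hσ w)
    have a2 : ∀ w : range N, π w = w := fun w => congr($hπ w)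
    have a3 : ∀ w : range N, N (Y w) = Y (N.rangeRestrict w) := fun w =>
      congrArg Subtype.val congr($(mem_cmt.1 hY) w)
    refine ⟨⟨(range N).subtype ∘ₗ Y ∘ₗ π + σ ∘ₗ Y ∘ₗ N.rangeRestrict ∘ₗ (1 - (range N).subtype ∘ₗ π),
      mem_cmt.2 (LinearMap.ext fun v => ?_)⟩, LinearMap.ext fun w => Subtype.ext ?_⟩
    · have : π (N v) = N.rangeRestrict v := a2 (N.rangeRestrict v)
      change N (Y (π v) + σ (Y (N.rangeRestrict (v - π v)))) =
        Y (π (N v)) + σ (Y (N.rangeRestrict (N v - π (N v))))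
      rw [map_add, a1, a3, this, show N v - N.rangeRestrict v = 0 from sub_self _]
      simp
    · change _ + σ (Y (N.rangeRestrict (w - π w))) = _
      simp [a2]
  let Ψ : (V ⧸ range N →ₗ[k] ker N) →ₗ[k] ker Φ :=
    { toFun := fun T => ⟨⟨(ker N).subtype ∘ₗ T ∘ₗ (range N).mkQ, mem_cmt.2 (LinearMap.ext fun v => by
        simp [(Submodule.Quotient.mk_eq_zero _).2 (mem_range_self N v)])⟩,
        LinearMap.ext fun w => Subtype.ext (by
          change (T (Submodule.Quotient.mk w) : V) = 0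
          simp [(Submodule.Quotient.mk_eq_zero _).2 w.2])⟩
      map_add' := fun _ _ => rfl
      map_smul' := fun _ _ => rfl }
  have h2 := finrank_le_finrank_of_injective (f := Ψ) fun T T' e => Submodule.linearMap_qext _
    (LinearMap.ext fun v => Subtype.ext congr(($e).1.1 v))
  have h3 := Submodule.finrank_mono h1
  have h4 := Φ.finrank_range_add_finrank_ker
  have h5 := N.finrank_range_add_finrank_ker
  have h6 := (range N).finrank_quotient_add_finrank
  rw [Module.finrank_linearMap, show finrank k (V ⧸ range N) = finrank k (ker N) by omega] at h2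
  nlinarith

theorem sq_le_cmt (s : ℕ) : ∀ {V : Type v} [AddCommGroup V] [Module k V] [FiniteDimensional k V]
    (N : End k V), N ^ s = 0 → finrank k V ^ 2 ≤ s * finrank k (cmt N) := by
  induction s with
  | zero =>
    intro V _ _ _ N h
    have : Subsingleton V := ⟨fun a b => congr($h a).trans congr($h b).symm⟩
    simp [finrank_zero_of_subsingleton]
  | succ s ih =>
    intro V _ _ _ N h
    have h0 : ∀ x ∈ range N, N x ∈ range N := fun x _ => mem_range_self N x
    have h1 := ih (N.restrict h0) (by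
      rw [End.pow_restrict]
      ext ⟨_, x, rfl⟩
      exact congr($h x))
    have h2 := cmt_step N h0
    have h3 := N.finrank_range_add_finrank_ker
    rw [← h3]
    generalize finrank k (range N) = b at *
    generalize finrank k (ker N) = a at *
    rcases s.eq_zero_or_pos with rfl | hs
    · obtain rfl : b = 0 := by simpa using h1
      nlinarith
    refine Nat.le_of_mul_le_mul_left ?_ hs
    zify at *
    nlinarith [sq_nonneg ((s : ℤ) * a - b), mul_le_mul_of_nonneg_left h2 (show (0 : ℤ) ≤ s * (s + 1) by positivity)]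

theorem crit_arith {P c d s : ℕ} (h1 : P + d ^ 2 = P * c + 1) (h2 : d ^ 2 ≤ s * c) (h3 : s ≤ d)
    (h4 : s < P) (h5 : 0 < d) : d = 1 ∨ (d + 1 = P ∧ s = d) := by
  obtain ⟨e, rfl⟩ := Nat.exists_eq_add_of_lt h4
  have h6 : (e + 1) * d ^ 2 ≤ s * (s + e) := by nlinarith
  have h7 : 0 < s := Nat.pos_of_ne_zero fun h => by subst h; nlinarith
  have h8 : (e + 1) * s ≤ s + e := Nat.le_of_mul_le_mul_left (by nlinarith [Nat.pow_le_pow_left h3 2]) h7
  rcases e.eq_zero_or_pos with rfl | he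
  · have : d ≤ s := by nlinarith
    omega
  · obtain rfl : s = 1 := by nlinarith
    have : d ^ 2 ≤ 1 := Nat.le_of_mul_le_mul_left (by omega) (show 0 < e + 1 by omega)
    left; nlinarith

theorem sub_one_pow_pred {p : ℕ} [Fact p.Prime] [CharP k p] (T : End k V) (n : ℕ) :
    (T - 1) ^ (p ^ n - 1) = ∑ i ∈ Finset.range (p ^ n), T ^ i := by
  have h : (Polynomial.X - 1 : Polynomial k) ^ (p ^ n - 1) = ∑ i ∈ Finset.range (p ^ n),
      Polynomial.X ^ i := mul_right_cancel₀ (Polynomial.X_sub_C_ne_zero 1) (by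
    rw [Polynomial.C_1, geom_sum_mul, ← pow_succ, Nat.sub_add_cancel (Nat.one_le_pow _ _
      (Fact.out : p.Prime).pos), sub_pow_char_pow, one_pow])
  simpa using congrArg (Polynomial.aeval T) h

theorem sub_one_pow_char {p : ℕ} [Fact p.Prime] [CharP k p] (T : End k V) (n : ℕ) :
    (T - 1) ^ p ^ n = T ^ p ^ n - 1 := by
  rw [← geom_sum_mul, ← sub_one_pow_pred, ← pow_succ, Nat.sub_add_cancel (Nat.one_le_pow _ _
    (Fact.out : p.Prime).pos)]

variable [IsAlgClosed k] [Finite G] {ρ : Representation k G V} {P Z B : Subgroup G} {x : G}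
  {W U : Submodule k V} {r : ℕ}

theorem crit_top (hZ : Z ≤ center G) (hZP : Z ≤ P) (hs : RSimple ρ P ⊤)
    (hx : zpowers x ≤ normalizer (P : Set G))
    (hreg : ∀ y ∈ zpowers x, y ≠ 1 → ∀ a ∈ P, ⁅a, y⁆ ∈ Z → a ∈ Z) (hHZ : zpowers x ⊓ Z = ⊥)
    (hc : (Nat.card P : k) ≠ 0) (hr : (ρ x - 1) ^ r = 0) (hlt : r < orderOf x) :
    finrank k V = 1 ∨ (finrank k V + 1 = orderOf x ∧ r + 1 = orderOf x) := by
  have h1 := finrank_commutant_eq ρ hZ hZP hs hx hreg hHZ hc
  have h2 : rfix (ρ.linHom ρ) (zpowers x) = cmt (ρ x - 1) := by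
    ext S
    rw [mem_cmt, sub_mul, mul_sub, one_mul, mul_one, sub_left_inj, mem_rfix_linHom]
    refine ⟨fun h => h x (mem_zpowers x), fun h g hg => ?_⟩
    obtain ⟨n, rfl⟩ := (mem_powers_iff_mem_zpowers.2 hg : g ∈ Submonoid.powers x)
    simp only [map_pow]
    exact Commute.pow_left h n
  have h3 : (ρ x - 1) ^ min r (finrank k V) = 0 := by
    rcases min_choice r (finrank k V) with e | e <;> rw [e]
    · exact hr
    · simpa [IsNilpotent.charpoly_eq_X_pow_finrank ⟨r, hr⟩] using (ρ x - 1).aeval_self_charpoly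
  haveI : Nontrivial V := by
    by_contra h
    rw [not_nontrivial_iff_subsingleton] at h
    exact hs.1 (Subsingleton.elim _ _)
  rw [h2, Nat.card_zpowers] at h1
  have := crit_arith h1 (sq_le_cmt _ _ h3) (min_le_right _ _) (min_lt_of_left_lt hlt) finrank_pos
  omega

theorem crit_sub (hZP : Z ≤ P) (hZ : P ⊔ zpowers x ≤ centralizer (Z : Set G)) (hW : RSimple ρ P W)
    (hWx : ∀ w ∈ W, ρ x w ∈ W) (hn : zpowers x ≤ normalizer (P : Set G))
    (hreg : ∀ y ∈ zpowers x, y ≠ 1 → ∀ a ∈ P, ⁅a, y⁆ ∈ Z → a ∈ Z) (hHZ : zpowers x ⊓ Z = ⊥)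
    (hc : (Nat.card P : k) ≠ 0) (hr : ∀ w ∈ W, ((ρ x - 1) ^ r) w = 0) (hlt : r < orderOf x) :
    finrank k W = 1 ∨ (finrank k W + 1 = orderOf x ∧ r + 1 = orderOf x) := by
  set L := P ⊔ zpowers x with hL
  have hWL : RInv ρ L W := hW.2.1.sup (rInv_zpowers hWx)
  have hPL : P ≤ L := le_sup_left
  have hHL : zpowers x ≤ L := le_sup_right
  have hx := hHL (mem_zpowers x)
  have hz : zpowers (⟨x, hx⟩ : L) = (zpowers x).subgroupOf L := by
    apply Subgroup.map_injective L.subtype_injective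
    rw [MonoidHom.map_zpowers, subgroupOf_map_subtype, inf_eq_left.2 hHL]; rfl
  rw [← show orderOf (⟨x, hx⟩ : L) = orderOf x from (Subgroup.orderOf_coe _).symm] at hlt ⊢
  refine crit_top (ρ := subRep ρ L W hWL) (P := P.subgroupOf L) (Z := Z.subgroupOf L)
    (fun z hz => mem_center_iff.2 fun g => Subtype.ext (hZ g.2 z hz).symm) (fun _ h => hZP h)
    ⟨?_, rInv_top _ _, fun X _ hX => ?_⟩ (hz ▸ subgroupOf_le_normalizer hn) ?_ ?_
    (by rwa [card_subgroupOf_of_le hPL]) ?_ hlt
  · haveI : Nontrivial W := Submodule.nontrivial_iff_ne_bot.2 hW.1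
    exact top_ne_bot
  · have hi : RInv ρ P (X.map W.subtype) := by
      rintro g hg _ ⟨w, hw, rfl⟩
      exact ⟨_, hX ⟨g, hPL hg⟩ hg w hw, rfl⟩
    exact (hW.2.2 _ (Submodule.map_subtype_le W _) hi).imp
      (fun h => Submodule.map_injective_of_injective W.injective_subtype (by rw [h, Submodule.map_bot]))
      fun h => Submodule.map_injective_of_injective W.injective_subtype
        (by rw [h, Submodule.map_subtype_top])
  · rw [hz]
    exact fun y hy h1 a ha hc => hreg y hy (fun e => h1 (Subtype.ext e)) a ha hc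
  · rw [hz, eq_bot_iff]
    exact fun y hy => Subtype.ext (hHZ.le hy)
  · have : subRep ρ L W hWL ⟨x, hx⟩ - 1 = (ρ x - 1).restrict fun w hw => W.sub_mem (hWx w hw) hw := rfl
    rw [this, End.pow_restrict]
    exact LinearMap.ext fun w => Subtype.ext (hr w w.2)

/-- the projection on a weight space -/
theorem wt_proj (hc : (Nat.card B : k) ≠ 0) (hs : ∀ b ∈ B, ∃ c : k, ∀ u ∈ U, ρ b u = c • u)
    (h0 : U ⊓ rfix ρ B = ⊥) : ∃ π : End k V, (∀ u ∈ U, π u = u) ∧ ∀ g ∈ normalizer (B : Set G),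
      (∀ b ∈ B, g * b = b * g → b = 1) → ∀ u ∈ U, π (ρ g u) = 0 := by
  classical
  letI := Fintype.ofFinite B
  choose! l hl using hs
  have key : ∀ g, ∀ u ∈ U, (∑ b : B, l (b : G)⁻¹ • ρ b) (ρ g u) = ∑ b : B, ρ (b * g * (b : G)⁻¹) u :=
    fun g u hu => by simp [hl _ (inv_mem (Subtype.prop _)) u hu]
  refine ⟨(Nat.card B : k)⁻¹ • ∑ b : B, l (b : G)⁻¹ • ρ b, fun u hu => ?_, fun g hg h u hu => ?_⟩
  · have := key 1 u hu
    simp only [map_one, End.one_apply, mul_one, mul_inv_cancel] at this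
    rw [LinearMap.smul_apply, this, Finset.sum_const, Finset.card_univ, ← Nat.cast_smul_eq_nsmul k,
      ← Nat.card_eq_fintype_card, inv_smul_smul₀ hc]
  · have h1 : ∑ a : B, ρ a u = 0 := (Submodule.mem_bot k).1 (h0 ▸ ⟨U.sum_mem fun a _ =>
      (hl a a.2 u hu).symm ▸ U.smul_mem _ hu, sum_mem_rfix ρ B u⟩)
    have h2 : ∑ a : B, ρ (a * g) u = ∑ a : B, ρ g (ρ a u) :=
      Fintype.sum_equiv (B.normalizerMonoidHom ⟨g, hg⟩⁻¹).toEquiv _ _ fun a => by
        change _ = ρ g (ρ (g⁻¹ * a * g⁻¹⁻¹) u)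
        simp
    rw [LinearMap.smul_apply, key g u hu, sum_conj_eq B hg h fun a => ρ a u, h2, ← map_sum, h1, map_zero,
      smul_zero]

theorem exists_simple_off (L : Subgroup G) (hc : (Nat.card B : k) ≠ 0)
    (hn : L ≤ normalizer (B : Set G)) (hne : ¬ B ≤ MonoidHom.ker ρ) :
    ∃ U, RSimple ρ L U ∧ U ⊓ rfix ρ B = ⊥ := by
  obtain ⟨U, h1, h2⟩ := exists_isCompl_rfix ρ B hc
  obtain ⟨W, h3, h4⟩ := exists_rSimple_le ρ L (h1.mono hn) fun e => hne (rfix_eq_top_iff.1 (by
    simpa [e] using h2.sup_eq_top))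
  exact ⟨W, h4, eq_bot_iff.2 ((inf_le_inf_right _ h3).trans h2.symm.inf_eq_bot.le)⟩

end Cfsg.Agent.H1
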