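import Cfsg.Agent.H1.PLow
import Cfsg.Agent.H1.Alperin

/-! Elementary bounds for the `p`-length and the derived length (Hall and Higman). -/

set_option autoImplicit false
set_option linter.unusedSectionVars false
set_option linter.style.haveILetI false

namespace Cfsg.Agent.H1

open Cfsg Subgroup Cfsg.Agent.FT
open scoped commutatorElement

universe u

variable {G : Type u} [Group G] [Finite G] {p k l n : ℕ} {H K P X : Subgroup G}

/-- `p`-length at most `k` -/
def PL (p k : ℕ) (H : Subgroup G) : Prop := low p (2 * k + 1) H = ⊥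

theorem PL.mono (h : PL p k H) (hK : K ≤ H) : PL p k K := le_bot_iff.1 (h ▸ low_mono _ _ hK)

theorem PL.quo (h : PL p k H) (hn : H ≤ N(K)) : PL p k (H /ₛ K) := by
  rw [PL, ← quo_low _ _ hn, h, quo_bot]

theorem pl_zero : PL p 0 H ↔ PiGrp {p}ᶜ H := low_succ_eq_bot

theorem pl_one (h : PGrp p H) : PL p 1 H := low_eq_bot_mono (low_succ_eq_bot.2 (by
  rw [show ptau p 1 = {p}ᶜ from ptau_odd p 0, compl_compl]; exact h.mono (low_le _ _ _))) (by omega)

theorem low_one_idem (n : ℕ) : low p (n + 1) (low p 1 X) = low p (n + 1) X := by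
  induction n with
  | zero => exact piGen_idem _ _
  | succ n ih => rw [low_succ, ih, ← low_succ]

theorem PL.ext (hn : H ≤ N(K)) (h1 : PL p k K) (h2 : PL p l (H /ₛ K)) : PL p (k + l) H := by
  rw [PL, show 2 * (k + l) + 1 = 2 * l + (2 * k + 1) by ring, low_add, ← low_one_idem, ← low_add]
  exact PL.mono h1 ((low_quo_eq_bot hn).1 h2)

theorem pl_prod (r : ℕ) : ∀ (q l : Fin r → ℕ), (∀ i, q i ≠ p) → ∀ {G : Type u} [Group G] [Finite G]
    (H : Subgroup G), (∀ s, s.Prime → s ∣ #H → s ≠ p → ∃ i, q i = s) → (∀ i, PL (q i) (l i) H) →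
    PL p (∏ i, (1 + l i)) H := by
  induction r with
  | zero => exact fun q l _ G _ _ H h _ => pl_one fun s hs hd => by_contra fun e => (h s hs hd e).elim (·.elim0)
  | succ r ih =>
    intro q l hq
    have key : ∀ {G : Type u} [Group G] [Finite G] (H : Subgroup G), (∀ s, s.Prime → s ∣ #H → s ≠ p →
        ∃ i, q i = s) → (∀ i : Fin r, PL (q i.succ) (l i.succ) H) → PL (q 0) 0 H →
        PL p (∏ i : Fin r, (1 + l i.succ)) H := fun H h1 h2 h3 => ih _ _ (fun i => hq _) H
      (fun s hs hd e => by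
        obtain ⟨i, rfl⟩ := h1 s hs hd e
        exact i.cases (fun hs hd => absurd rfl (pl_zero.1 h3 _ hs hd)) (fun i _ _ => ⟨i, rfl⟩) hs hd) h2
    intro G _ _ H h1 h2
    have h3 := h2 0
    replace h2 := fun i : Fin r => h2 i.succ
    rw [Fin.prod_univ_succ]
    generalize l 0 = m at h3 ⊢
    induction m generalizing H with
    | zero => simpa using key H h1 h2 h3
    | succ m ih =>
      have a1 := low_nml (q 0) 1 H
      have a2 := low_nml (q 0) 2 H
      have a3 := PL.ext (a1.le.trans a2.nrm) (ih _ (fun s hs hd => h1 s hs (hd.trans (card_dvd a2.le)))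
        (fun i => (h2 i).mono a2.le) ((low_add _ 1 _ H).symm.trans (by rw [← h3]; congr 1; ring)))
        (pl_zero.2 fun s hs hd e => hq 0 (e ▸ (by
          have := (piGrp_quo_iff (a1.le.trans a2.nrm)).2 (piGen_relIndex _ _) s hs hd
          rwa [show ptau (q 0) 1 = {q 0}ᶜ from ptau_odd _ 0, compl_compl, Set.mem_singleton_iff,
            eq_comm] at this)))
      have a4 := PL.ext a1.nrm a3 (key _ (fun s hs hd => h1 s hs (hd.trans (card_quo_dvd _ _)))
        (fun i => (h2 i).quo a1.nrm) ((low_quo_eq_bot a1.nrm).2 le_rfl))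
      convert a4 using 1; ring

theorem dn_mono (n : ℕ) (h : K ≤ H) : dn n K ≤ dn n H := by
  induction n with
  | zero => exact h
  | succ n ih => rw [dn_succ, dn_succ]; exact commutator_mono ih ih

theorem exists_pgrp_quo (hn : H ≤ N(K)) {U : Subgroup (Quo K)} (hU : PGrp p U) (h : U ≤ H /ₛ K) :
    ∃ P, P ≤ H ∧ PGrp p P ∧ P /ₛ K = U := by
  obtain ⟨S, hS⟩ := exists_syl p (H ⊓ qpre(K, U))
  have := hS.quo (K := K) (inf_le_left.trans hn)
  rw [quo_inf_qpre_of_le h] at this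
  exact ⟨S, hS.le.trans inf_le_left, hS.pi, this.le.antisymm (this.ge_of_nml hU (Nml.refl U))⟩

theorem PL.quo_core (h : PL p (k + 1) H) (hO : O[{p}ᶜ](H) = ⊥) : PL p k (H /ₛ O[{p}](H)) := by
  have h1 := low_succ_eq_bot.1 h
  rw [ptau_even] at h1
  have h2 := (low_succ_eq_bot (n := 2 * k + 1)).1 (eq_bot_of_le (pcore_max h1 (low_nml _ _ _)) hO)
  rw [ptau_odd, compl_compl] at h2
  exact (low_quo_eq_bot (pcore_nml _ _).nrm).2 (pcore_max h2 (low_nml _ _ _))

theorem dn_sum {ι : Type*} [Fintype ι] (q d : ι → ℕ) (n : ℕ) : ∀ {G : Type u} [Group G] [Finite G]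
    (H : Subgroup G) (l : ι → ℕ), #H = n → Sol H → (∀ s, s.Prime → s ∣ #H → ∃ i, q i = s) →
    (∀ i P, P ≤ H → PGrp (q i) P → dn (d i) P = ⊥) → (∀ i, PL (q i) (l i) H) →
    dn (∑ i, d i * l i) H = ⊥ := by
  classical
  induction n using Nat.strong_induction_on with | _ n ih =>
  intro G _ _ H l hn hs h1 h2 h3
  have key : ∀ K, K ⊴ H → K ≠ ⊥ → ∀ l : ι → ℕ, (∀ i, PL (q i) (l i) (H /ₛ K)) →
      dn (∑ i, d i * l i) H ≤ K := fun K hK e l h => dn_le_of_quo_bot hK.nrm (ih _ (hn ▸ card_quo_lt hK e)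
    _ l rfl (hs.quo K) (fun s hs hd => h1 s hs (hd.trans (card_quo_dvd _ _))) (fun i U a b => by
      obtain ⟨P, c1, c2, rfl⟩ := exists_pgrp_quo hK.nrm b a
      rw [← quo_dn _ (c1.trans hK.nrm), h2 i P c1 c2, quo_bot]) h)
  by_cases h0 : H = ⊥
  · rw [h0, dn_bot]
  obtain ⟨M, a1, hM⟩ := exists_minNml h0 (le_nrm H)
  obtain ⟨p, hp, a2⟩ := hM.abelem (hs.mono a1)
  have a3 := a2.pGrp hp
  obtain ⟨i, rfl⟩ := h1 p hp ((a3.dvd hM.ne).trans (card_dvd a1))
  by_cases hO : O[{q i}ᶜ](H) = ⊥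
  swap
  · exact eq_bot_of_le (le_inf (key M ⟨a1, hM.nrm⟩ hM.ne l fun j => (h3 j).quo hM.nrm)
      (key _ (pcore_nml _ _) hO l fun j => (h3 j).quo (pcore_nml _ _).nrm)) (a3.cop (pcore_pi _ _)).inf
  obtain ⟨k, hk⟩ : ∃ k, l i = k + 1 := Nat.exists_eq_succ_of_ne_zero fun e =>
    hM.ne (a3.eq_bot ((pl_zero.1 (e ▸ h3 i)).mono a1))
  have a4 := key _ (pcore_nml _ _) (ne_bot_of_le_ne_bot hM.ne (pcore_max a3 ⟨a1, hM.nrm⟩))
    (Function.update l i k) fun j => by
      rcases eq_or_ne j i with rfl | e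
      · rw [Function.update_self]; exact PL.quo_core (hk ▸ h3 j) hO
      · rw [Function.update_of_ne e]; exact (h3 j).quo (pcore_nml _ _).nrm
  have e : ∑ j, d j * l j = d i + ∑ j, d j * Function.update l i k j := by
    rw [← Finset.add_sum_erase _ _ (Finset.mem_univ i), ← Finset.add_sum_erase _ _ (Finset.mem_univ i),
      Function.update_self, hk, Finset.sum_congr (g := fun j => d j * Function.update l i k j) rfl
        fun j hj => by rw [Function.update_of_ne (Finset.ne_of_mem_erase hj)]]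
    ring
  rw [e, dn_add]
  exact eq_bot_of_le (dn_mono _ a4) (h2 i _ (pcore_le _ _) (pcore_pi _ _))

end Cfsg.Agent.H1
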