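import Cfsg.Agent.H1.HHA
import Cfsg.Agent.H1.PLenB

/-! Theorem B of Hall and Higman. -/

set_option autoImplicit false
set_option linter.unusedSectionVars false
set_option linter.style.haveILetI false

namespace Cfsg.Agent.H1

open Cfsg Module Subgroup Cfsg.Agent.H28 Cfsg.Agent.FT Function
open scoped commutatorElement

universe u v

variable {k : Type*} [Field k] {G : Type u} [Group G] [Finite G] {V : Type v} [AddCommGroup V]
  [Module k V] [FiniteDimensional k V] {ρ : Representation k G V} {A B L Q S : Subgroup G} {x : G}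
  {U : Submodule k V} {p q m n r : ℕ}

theorem exists_faithful (hU : RInv ρ L U) : ∃ (G' : Type u) (_ : Group G') (_ : Finite G')
    (f : L →* G') (σ : Representation k G' U), Injective σ ∧ pker f = L ⊓ rcent ρ U ∧
      ∀ g (hg : g ∈ L), σ (pfun f g) = (ρ g).restrict (hU g hg) := by
  refine ⟨_, inferInstance, inferInstance, QuotientGroup.mk' _, quoRep (subRep ρ L U hU) _ le_rfl,
    (MonoidHom.ker_eq_bot_iff _).1 (eq_bot_iff.2 fun g hg => ?_), ?_, fun g hg => ?_⟩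
  · obtain ⟨g, rfl⟩ := QuotientGroup.mk_surjective g
    exact (QuotientGroup.eq_one_iff g).2 hg
  · ext g
    rw [pker, QuotientGroup.ker_mk']
    exact ⟨fun ⟨y, hy, e⟩ => e ▸ ⟨y.2, fun v hv => congrArg Subtype.val congr($hy ⟨v, hv⟩)⟩,
      fun h => ⟨⟨g, h.1⟩, LinearMap.ext fun v => Subtype.ext (h.2 v v.2), rfl⟩⟩
  · rw [pfun, dif_pos hg]; rfl

theorem pow_mem_of_not_dvd (hp : p.Prime) (h1 : x ^ m ∈ S) (h2 : x ^ p ^ (n + 1) ∈ S)
    (hm : ¬ p ^ (n + 1) ∣ m) : x ^ p ^ n ∈ S := by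
  obtain ⟨a, ha, e⟩ := (Nat.dvd_prime_pow hp).1 (Nat.gcd_dvd_right m (p ^ (n + 1)))
  have h3 : x ^ m.gcd (p ^ (n + 1)) ∈ S := by
    rw [← zpow_natCast, Nat.gcd_eq_gcd_ab, zpow_add, zpow_mul, zpow_mul, zpow_natCast, zpow_natCast]
    exact mul_mem (zpow_mem h1 _) (zpow_mem h2 _)
  obtain ⟨c, hc⟩ := pow_dvd_pow p (Nat.le_of_lt_succ (lt_of_le_of_ne ha fun h =>
    hm (by rw [h] at e; exact e ▸ Nat.gcd_dvd_left _ _)))
  rw [hc, pow_mul, ← e]
  exact pow_mem h3 c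

theorem exists_last_pow (hx : x ∉ S) (h : x ^ p ^ n ∈ S) :
    ∃ i < n, x ^ p ^ (i + 1) ∈ S ∧ x ^ p ^ i ∉ S := by
  induction n with
  | zero => exact absurd (by simpa using h) hx
  | succ n ih =>
    by_cases e : x ^ p ^ n ∈ S
    · exact (ih e).imp fun i hi => ⟨by omega, hi.2⟩
    · exact ⟨n, by omega, h, e⟩

theorem RSimple.scalar [IsAlgClosed k] (h : RSimple ρ L U) (hB : B ≤ L) (hc : L ≤ C(B)) :
    ∀ b ∈ B, ∃ c : k, ∀ u ∈ U, ρ b u = c • u := fun b hb =>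
  h.exists_smul (ρ b) (h.2.1 b (hB hb)) fun g hg v _ => by
    rw [← End.mul_apply, ← map_mul, mem_cen.1 (hc hg) b hb, map_mul]; rfl

/-- the conclusion of Theorem B -/
def HBC (p q n r : ℕ) (Q : Subgroup G) : Prop := p ^ n ≤ r ∨ ¬ Ab Q ∧ ∃ n₀ m, 1 ≤ n₀ ∧ n₀ ≤ n ∧
  1 ≤ m ∧ p ^ n₀ - 1 = q ^ m ∧ p ^ (n - n₀) * (p ^ n₀ - 1) ≤ r

theorem HBC.imp {G' : Type u} [Group G'] {Q' : Subgroup G'} (h : HBC p q n r Q') (ha : Ab Q → Ab Q') :
    HBC p q n r Q := Or.imp_right (And.imp_left (mt ha)) h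

variable [IsAlgClosed k] [hp : Fact p.Prime] [CharP k p]

theorem orb_step (hc : (#B : k) ≠ 0) (hU : RSimple ρ L U) (h0 : U ⊓ rfix ρ B = ⊥) (hB : B ≤ L)
    (hL : L ≤ C(B)) (hx : x ∈ N(B)) (h1 : x ^ p ^ (n + 1) ∈ L) (h2 : B ⊓ C[x ^ p ^ n] = ⊥)
    (hr : (ρ x - 1) ^ r = 0) : ∀ u ∈ U, ((ρ (x ^ p ^ (n + 1)) - 1) ^ (r / p ^ (n + 1))) u = 0 := by
  intro u hu
  obtain ⟨π, a1, a2⟩ := wt_proj hc (RSimple.scalar hU hB hL) h0
  have a3 : ∀ s : ℕ, ((ρ (x ^ p ^ (n + 1)) - 1) ^ s) u ∈ U := fun s => by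
    induction s with
    | zero => exact hu
    | succ s ih => rw [pow_succ']; exact U.sub_mem (hU.2.1 _ h1 _ ih) ih
  have h3 := Nat.pow_pos (n := n + 1) hp.out.pos
  have a4 : (ρ x - 1) ^ (p ^ (n + 1) - 1) * (ρ (x ^ p ^ (n + 1)) - 1) ^ (r / p ^ (n + 1)) = 0 := by
    rw [map_pow, ← sub_one_pow_char, ← pow_mul, ← pow_add]
    have := Nat.div_add_mod r (p ^ (n + 1))
    exact pow_eq_zero_of_le (by have := Nat.mod_lt r h3; omega) hr
  have a5 := congr(π ($a4 u))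
  rw [End.mul_apply, sub_one_pow_pred, LinearMap.sum_apply, map_sum, Finset.sum_eq_single_of_mem 0
    (Finset.mem_range.2 h3) fun i hi e => by
      rw [← map_pow]
      refine a2 _ (pow_mem hx i) (fun b hb c => h2.le ⟨hb, cen1_comm.1 (pow_mem_of_not_dvd hp.out
        (mem_cen1.2 c) (cen_le_cen1 hb (hL h1)) ?_)⟩) _ (a3 _)
      exact Nat.not_dvd_of_pos_of_lt (Nat.pos_of_ne_zero e) (Finset.mem_range.1 hi)] at a5
  rwa [pow_zero, End.one_apply, a1 _ (a3 _), LinearMap.zero_apply, map_zero] at a5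

theorem hb_aux (hq : q.Prime) (hk : (q : k) ≠ 0) (μ : ℕ) : ∀ {G : Type u} [Group G] [Finite G]
    {V : Type v} [AddCommGroup V] [Module k V] [FiniteDimensional k V] (ρ : Representation k G V)
    (U : Submodule k V) (Q : Subgroup G) (x : G) (n r : ℕ), (rcent ρ U).relIndex Q + n = μ →
    x ∈ N(Q) → PGrp q Q → x ^ p ^ (n + 1) = 1 → RInv ρ (Q ⊔ ⟪x⟫) U →
    ¬ ⁅Q, ⟪x ^ p ^ n⟫⁆ ≤ rcent ρ U → (∀ v ∈ U, ((ρ x - 1) ^ r) v = 0) → HBC p q (n + 1) r Q := by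
  induction μ using Nat.strong_induction_on with | _ μ ih =>
  suffices key : ∀ {G : Type u} [Group G] [Finite G] {V : Type v} [AddCommGroup V] [Module k V]
      [FiniteDimensional k V] (ρ : Representation k G V) (Q : Subgroup G) (x : G) (n r : ℕ),
      #Q + n = μ → Injective ρ → x ∈ N(Q) → PGrp q Q → x ^ p ^ (n + 1) = 1 →
      ¬ ⟪x ^ p ^ n⟫ ≤ C(Q) → (ρ x - 1) ^ r = 0 → HBC p q (n + 1) r Q by
    intro G _ _ V _ _ _ ρ U Q x n r hμ hx hQ h1 hU h2 hr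
    obtain ⟨G', _, _, f, σ, a1, a2, a3⟩ := exists_faithful hU
    have b1 : x ∈ Q ⊔ ⟪x⟫ := mem_sup_right (mem_zpowers x)
    have b2 := zpowers_le.2 (pow_mem b1 (p ^ n))
    refine (key σ (pmap f Q) (pfun f x) n r ?_ a1 (pmap_nrm_le f Q (mem_pmap_of_mem f b1 hx)) (hQ.pmap f)
      (by rw [← pfun_pow f b1, h1, pfun_one]) (fun c => h2 ?_) ?_).imp (·.pmap f)
    · rw [card_pmap f le_sup_left, a2, inf_comm (Q ⊔ ⟪x⟫), ← inf_relIndex_right, inf_assoc,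
        inf_of_le_right (le_sup_left : Q ≤ _), inf_relIndex_right, hμ]
    · rw [← pfun_pow f b1, ← pmap_zpowers f (pow_mem b1 _), pmap_cents_iff b2 le_sup_left, a2,
        Subgroup.commutator_comm] at c
      exact c.trans inf_le_right
    · rw [a3 x b1, show (ρ x).restrict (hU x b1) - 1 = (ρ x - 1).restrict fun w hw =>
        U.sub_mem (hU x b1 w hw) hw from rfl, End.pow_restrict]
      exact LinearMap.ext fun w => Subtype.ext (hr w w.2)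
  intro G _ _ V _ _ _ ρ Q x n r hμ hf hx hQ h1 h2 hr
  have hK := rcent_top hf
  have hK' := (MonoidHom.ker_eq_bot_iff _).2 hf
  have hc : ∀ X ≤ Q, (#X : k) ≠ 0 := fun X hX => by
    obtain ⟨a, ha⟩ := (hQ.mono hX).exists_pow (card_ne_zero X)
    rw [ha, Nat.cast_pow]; exact pow_ne_zero a hk
  have hpx : PGrp p ⟪x⟫ := (piElt_of_pow_eq_one (piNat_self_pow hp.out _) h1).zpowers
  have hcop : Cop Q ⟪x⟫ := hQ.cop_of_ne hpx fun e => hk (e ▸ CharP.cast_eq_zero k p)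
  have hy := zpowers_le.2 (pow_mem (mem_zpowers x) (p ^ n))
  by_cases hmin : ∀ X < Q, ⟪x⟫ ≤ N(X) → X ≤ C(⟪x ^ p ^ n⟫)
  swap
  · push Not at hmin
    obtain ⟨X, a1, a2, a3⟩ := hmin
    exact (ih _ (by rw [hK, relIndex_bot_left, ← hμ]; exact Nat.add_lt_add_right (card_lt a1) n) ρ ⊤ X x n r
      rfl (zpowers_le.1 a2) (hQ.mono a1.le) h1 (rInv_top _ _) (by rwa [hK, le_bot_iff, comm_eq_bot])
      fun v _ => congr($hr v)).imp (·.mono a1.le)
  obtain ⟨b1, b2, b3, b4⟩ := minimal_action (zpowers_le.2 hx) ((ab_zpowers x).norms hy) hy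
    (hcop.mono le_rfl hy).symm hQ.sol h2 hmin
  by_cases hZ : x ∈ C(Z(Q))
  swap
  · obtain ⟨i, c0, c1, c2⟩ := exists_last_pow hZ (h1 ▸ one_mem _)
    have c3 : ⟪x⟫ ≤ N(Z(Q)) := norms_center (zpowers_le.2 hx)
    have c4 := zpowers_le.2 (pow_mem (mem_zpowers x) (p ^ i))
    have c5 := comm_le_left (c4.trans c3)
    have c6 : Q ⊔ ⟪x ^ p ^ (i + 1)⟫ ≤ C(⁅Z(Q), ⟪x ^ p ^ i⟫⁆) := (sup_le (centsC inf_le_right)
      (zpowers_le.2 c1)).trans (cen_anti c5)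
    have c7 := c5.trans inf_le_left
    obtain ⟨U, d1, d2⟩ := exists_simple_off (ρ := ρ) _ (hc _ c7) (c6.trans (cen_le_nrm _)) (by
      rw [hK', le_bot_iff, comm_eq_bot', zpowers_le]; exact c2)
    have d3 := orb_step (hc _ c7) d1 d2 (c7.trans le_sup_left) c6 (normsR c3 ((ab_zpowers x).norms c4)
      (mem_zpowers x)) (mem_sup_right (mem_zpowers _)) (cen_zpowers
        (x ^ p ^ i) ▸ coprime_abel_cent_TI (c4.trans c3) (hcop.mono inf_le_left c4) (ab_center Q)) hr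
    have d4 := Nat.mul_div_le r (p ^ (i + 1))
    rcases (show i = n ∨ i < n by omega) with rfl | e
    · refine .inl (le_trans (Nat.le_mul_of_pos_right _ (Nat.pos_of_ne_zero fun e => d1.1 ?_)) d4)
      exact eq_bot_iff.2 fun u hu => by simpa [e] using d3 u hu
    · obtain ⟨j, rfl⟩ := Nat.exists_eq_add_of_lt e
      have d5 := ih _ (by
        have := Nat.le_of_dvd (FT.card_pos Q) (relIndex_dvd_card (rcent ρ U) Q); omega) ρ U Q _ j _ rfl
        (pow_mem hx _) hQ (by rw [← pow_mul, ← pow_add, ← h1]; congr 2; ring) d1.2.1 (by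
          rw [← pow_mul, ← pow_add, show i + 1 + j = i + j + 1 by ring, b1]
          exact fun c => d1.1 (eq_bot_iff.2 (d2 ▸ le_inf le_rfl (le_rcent_iff.1 (c7.trans c))))) d3
      rcases d5 with d5 | ⟨d5, n₀, m, e1, e2, e3, e4, e5⟩
      · refine .inl (le_trans ?_ ((Nat.mul_le_mul_left _ d5).trans d4))
        rw [← pow_add]; exact le_of_eq (by congr 1; ring)
      · refine .inr ⟨d5, n₀, m, e1, by omega, e3, e4, le_trans ?_ ((Nat.mul_le_mul_left _ e5).trans d4)⟩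
        rw [← mul_assoc, ← pow_add]; exact le_of_eq (by congr 2; omega)
  have c1 : Q ⊔ ⟪x⟫ ≤ C(Z(Q)) := sup_le (centsC inf_le_right) (zpowers_le.2 hZ)
  have c2 : ¬ Ab Q := fun e => h2 (hy.trans (zpowers_le.2 (e.center ▸ hZ)))
  obtain ⟨U, d1, d2⟩ := exists_simple_off (ρ := ρ) (Q ⊔ ⟪x⟫) (hc _ le_rfl) (sup_le (le_nrm Q)
    (zpowers_le.2 hx)) (by rw [hK', le_bot_iff]; exact fun e => c2 (e ▸ ab_bot))
  by_cases d3 : rcent ρ U ⊓ Q = ⊥
  swap
  · refine ih _ ?_ ρ U Q x n r rfl hx hQ h1 d1.2.1 (fun c => d1.1 (eq_bot_iff.2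
      (d2 ▸ le_inf le_rfl (le_rcent_iff.1 (b1 ▸ c))))) fun v _ => congr($hr v)
    have := card_mul_relIndex (inf_le_right : rcent ρ U ⊓ Q ≤ Q)
    rw [inf_relIndex_right] at this
    nlinarith [(one_lt_card_iff_ne_bot _).2 d3, FT.card_pos Q]
  have ho := orderOf_eq_prime_pow (fun e => h2 (by rw [e, zpowers_one_eq_bot]; exact bot_le)) h1
  have hder : ⁅Q, Q⁆ ≤ C(Q) := (le_inf Q.commutator_le_self b2).trans b3
  have hreg : ∀ y ∈ ⟪x⟫, y ≠ 1 → ∀ a ∈ Q, ⁅a, y⁆ ∈ Z(Q) → a ∈ Z(Q) := fun y h3 h4 a ha h5 => by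
    have h6 := commutatorElement_eq_one_iff_mul_comm.1 (commutator_eq_one_of_coprime
      (mem_cen.1 (c1 (mem_sup_right h3)) _ h5).symm ((hcop.coprime_dvd_left
        (orderOf_dvd_natCard Q h5.1)).coprime_dvd_right (orderOf_dvd_natCard _ h3)))
    obtain ⟨j, rfl⟩ := (mem_powers_iff_mem_zpowers.2 h3 : y ∈ Submonoid.powers x)
    exact ⟨ha, b3 ⟨ha, centsC (zpowers_le.2 (cen_zpowers a ▸ pow_mem_of_not_dvd hp.out (mem_cen1.2 h6.symm)
      (h1 ▸ one_mem _) fun c => h4 (orderOf_dvd_iff_pow_eq_one.1 (ho ▸ c)))) (mem_zpowers a)⟩⟩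
  have hsc : ∀ z ∈ Z(Q), z ≠ 1 → ∃ c : k, c ≠ 1 ∧ ∀ v ∈ U, ρ z v = c • v := fun z hz h3 => by
    obtain ⟨c, h4⟩ := RSimple.scalar d1 (inf_le_left.trans le_sup_left) c1 z hz
    exact ⟨c, fun e => h3 (d3.le ⟨fun v hv => by simpa [e] using h4 v hv, hz.1⟩), h4⟩
  obtain ⟨W, e1, e2, e3⟩ := exists_rSimple_invariant ρ d1.1 d1.2.1 hx hder
    (fun z hz => (mem_cen.1 hZ z hz).symm) (fun e a ha h3 => (hreg x (mem_zpowers x) e a ha
      ⟨comm_le_left (zpowers_le.2 hx) (commutator_mem_commutator ha (mem_zpowers x)), h3⟩).2) hsc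
    (hc _ le_rfl)
  haveI := e2.isIrreducible
  obtain ⟨e4, e5⟩ := class_two_aux hder hsc e2.2.1 e1
  have e6 := finrank_sq_eq_index (subRep ρ Q W e2.2.1) e4 e5
  have e7 : finrank k W ≠ 1 := fun e => c2 (by
    rw [e, one_pow, eq_comm, index_eq_one] at e6
    exact ab_iff.2 fun a ha => mem_center_coe_iff.1 (e6.ge (mem_top ⟨a, ha⟩)))
  refine or_iff_not_imp_left.2 fun e8 => ⟨c2, n + 1, ?_⟩
  obtain ⟨e9, e10⟩ := (crit_sub inf_le_left c1 e2 e3 (zpowers_le.2 hx) hreg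
    (eq_bot_of_le (inf_le_inf_left _ inf_le_left) (Cop.inf hcop.symm)) (hc _ le_rfl) (fun w _ => congr($hr w))
    (by omega)).resolve_left e7
  obtain ⟨a, ha⟩ := hQ.exists_pow (card_ne_zero Q)
  obtain ⟨m, -, hm⟩ := (Nat.dvd_prime_pow hq).1 (((dvd_pow_self _ two_ne_zero).trans e6.dvd).trans
    (ha ▸ (center Q).index_dvd_card))
  refine ⟨m, by omega, le_rfl, Nat.pos_of_ne_zero fun e => e7 (by rw [hm, e, pow_zero]), by omega, ?_⟩
  rw [Nat.sub_self, pow_zero]; omega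

omit [IsAlgClosed k] in
theorem hb_field (hq : q.Prime) (hne : q ≠ p) (hx : x ∈ N(Q)) (hQ : PGrp q Q) (h1 : x ^ p ^ (n + 1) = 1)
    (h2 : ¬ ⁅Q, ⟪x ^ p ^ n⟫⁆ ≤ MonoidHom.ker ρ) (hr : (ρ x - 1) ^ r = 0) : HBC p q (n + 1) r Q := by
  haveI := charP_of_injective_algebraMap (algebraMap k (AlgebraicClosure k)).injective p
  refine hb_aux hq (fun e => hne ((Nat.prime_dvd_prime_iff_eq hp.out hq).1
    ((CharP.cast_eq_zero_iff (AlgebraicClosure k) p q).1 e)).symm) _ (bcRep (AlgebraicClosure k) ρ) ⊤ Q x n r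
    rfl hx hQ h1 (rInv_top _ _) (fun c => h2 ?_) fun v _ => ?_
  · rwa [le_rcent_iff, top_le_iff, rfix_eq_top_iff, ker_bcRep] at c
  · have := congrArg (End.baseChangeHom k (AlgebraicClosure k) V) hr
    rw [map_pow, map_sub, map_one, map_zero] at this
    exact congr($this v)

omit [IsAlgClosed k] in
/-- **Hall–Higman, Theorem B** -/
theorem hh_B (hf : Injective ρ) (hs : IsPSolvable p G) (hO : O[{p}]((⊤ : Subgroup G)) = ⊥)
    (hx : orderOf x = p ^ (n + 1)) (hr : (ρ x - 1) ^ r = 0) :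
    ∃ (q : ℕ) (Q : Subgroup G), q.Prime ∧ q ≠ p ∧ PGrp q Q ∧ HBC p q (n + 1) r Q := by
  have h1 : x ^ p ^ (n + 1) = 1 := hx ▸ pow_orderOf_eq_one x
  have h2 := piElt_of_pow_eq_one (piNat_self_pow hp.out _) h1
  have hK := pcore_pi {p}ᶜ (⊤ : Subgroup G)
  have h3 : ¬ O[{p}ᶜ]((⊤ : Subgroup G)) ≤ C[x ^ p ^ n] := fun c => pow_ne_one_of_lt_orderOf
    (pow_ne_zero n hp.out.ne_zero) (hx ▸ Nat.pow_lt_pow_right hp.out.one_lt n.lt_succ_self)
    ((h2.pow _).eq_one_of_mem hK ((psol_top hp.out hs).cen hp.out (.inl rfl) hO ⟨trivial, le_cen1.1 c⟩))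
  by_contra! c
  refine h3 (le_of_forall_syl fun q hq hd => ?_)
  obtain ⟨Q, a1, a2⟩ := coprime_Sylow_exists q (le_top.trans (pcore_nml _ _).nrm) (hK.cop' h2.zpowers)
    (.inr (ab_zpowers x).sol)
  refine ⟨Q, a1, by_contra fun e => c q Q hq (hK q hq hd) a1.pi (hb_field hq (hK q hq hd)
    (zpowers_le.1 a2) a1.pi h1 ?_ hr)⟩
  rwa [(MonoidHom.ker_eq_bot_iff _).2 hf, le_bot_iff, comm_eq_bot, cen_zpowers]

end Cfsg.Agent.H1
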