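import Cfsg.Agent.H1.HHB

/-! Reduction of questions on the `p`-length to the action of `G/O_{p',p}(G)` on a Frattini factor. -/

set_option autoImplicit false
set_option linter.unusedSectionVars false
set_option linter.style.haveILetI false

namespace Cfsg.Agent.H1

open Cfsg Module Subgroup Cfsg.Agent.H28 Cfsg.Agent.FT Function
open scoped commutatorElement

universe u

variable {G : Type u} [Group G] [Finite G] {G' : Type*} [Group G'] [Finite G'] {f : G →* G'} {π : Set ℕ}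
  {p q k n r e : ℕ} {V : Subgroup G} {U : Subgroup G'} {g x v : G}

theorem piGrp_comap (h1 : PiGrp π f.ker) (h2 : PiGrp π U) : PiGrp π (U.comap f) := by
  have := card_mul_relIndex (inf_le_right : f.ker ⊓ U.comap f ≤ _)
  rw [inf_relIndex_right, ← card_map_eq] at this
  rw [PiGrp, ← this]
  exact PiNat.mul (h1.mono inf_le_left) (h2.mono (map_comap_le f U))

theorem exists_pgrp_map (hf : Surjective f) (hU : PGrp q U) : ∃ P : Subgroup G, PGrp q P ∧ P.map f = U := by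
  obtain ⟨S, hS⟩ := exists_syl q (U.comap f)
  have := hS.map f
  rw [map_comap_eq_self_of_surjective hf] at this
  exact ⟨S, hS.pi, this.le.antisymm (this.ge_of_nml hU (Nml.refl U))⟩

theorem exists_pelt_map (hf : Surjective f) {y : G'} (hy : PiElt {p} y) : ∃ x, PiElt {p} x ∧ f x = y := by
  obtain ⟨P, h1, h2⟩ := exists_pgrp_map hf hy.zpowers
  obtain ⟨x, h3, h4⟩ := h2.ge (mem_zpowers y)
  exact ⟨x, h1.piElt h3, h4⟩

/-- `G` is `p`-solvable and `V = O_p(G)` is elementary abelian and self-centralising -/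
structure HRed (p : ℕ) (V : Subgroup G) : Prop where
  sol : IsPSolvable p G
  abe : Abelem p V
  cen : C(V) ≤ V
  core : O[{p}]((⊤ : Subgroup G)) = V

theorem HRed.normal (h : HRed p V) : V.Normal := nml_top_iff.1 (h.core ▸ pcore_nml _ _)

theorem exists_hred (hp : p.Prime) (hs : IsPSolvable p G) : ∃ (G' : Type u) (_ : Group G') (_ : Finite G')
    (f : G →* G') (V : Subgroup G'), Surjective f ∧ HRed p V ∧ V.comap f = pPrimePCore p G := by
  haveI := Fact.mk hp
  haveI := H2.pPrimeCore_characteristic (p := p) (G := G)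
  have s1 := QuotientGroup.mk'_surjective (pPrimeCore p G)
  have h1 := isPSolvable_of_surjective hp _ s1 hs
  have h2 : O[{p}ᶜ]((⊤ : Subgroup (G ⧸ pPrimeCore p G))) = ⊥ := by
    rw [pcore_top, piCore_compl_singleton hp, H2.pPrimeCore_quotient_self]
  have h3 := P22.cen_pcore_le hp (psol_top hp h1) h2
  rw [pPrimePCore, ← pcore_top' hp]
  have nR := pcore_nml {p} (⊤ : Subgroup (G ⧸ pPrimeCore p G))
  have pR := pcore_pi {p} (⊤ : Subgroup (G ⧸ pPrimeCore p G))
  have mR : ∀ X, PGrp p X → X ⊴ ⊤ → X ≤ O[{p}]((⊤ : Subgroup (G ⧸ pPrimeCore p G))) := fun _ => pcore_max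
  generalize O[{p}]((⊤ : Subgroup (G ⧸ pPrimeCore p G))) = R at *
  haveI := nml_top_iff.1 nR.Phi
  have s2 := QuotientGroup.mk'_surjective (Phi R)
  have k2 := QuotientGroup.ker_mk' (Phi R)
  have h4 : ∀ X, X ⊴ ⊤ → PGrp p (X.comap (QuotientGroup.mk' (Phi R))) → X ≤ R.map (QuotientGroup.mk' (Phi R)) :=
    fun X a b => (map_comap_eq_self_of_surjective s2 X).ge.trans (map_mono (mR _ b (a.comap _)))
  have h5 : R.map (QuotientGroup.mk' (Phi R)) ⊴ ⊤ := map_top_of_surjective _ s2 ▸ nR.map _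
  refine ⟨_, inferInstance, inferInstance, (QuotientGroup.mk' (Phi R)).comp (QuotientGroup.mk' _),
    R.map (QuotientGroup.mk' _), s2.comp s1, ⟨isPSolvable_of_surjective hp _ s2 h1, abelem_iff.2
      ⟨comm_eq_bot.1 ?_ |> ab_iff.2, ?_⟩, h4 _ ⟨le_top, norms_cent h5.nrm⟩ fun s hs hd => ?_,
      (h4 _ (pcore_nml _ _) (piGrp_comap (k2.symm ▸ pR.mono (Phi_le R)) (pcore_pi _ _))).antisymm
        (pcore_max (pR.map _) h5)⟩, ?_⟩
  · rw [← map_commutator, Subgroup.map_eq_bot_iff, k2]; exact pR.der_le_Phi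
  · rintro _ ⟨x, hx, rfl⟩
    rw [← map_pow]; exact (QuotientGroup.eq_one_iff _).2 (pR.pow_mem_Phi hx)
  · obtain ⟨X, a1, a2⟩ := exists_card_prime_le hs hd
    by_contra e
    refine e (pR s hs (a2 ▸ card_dvd ((le_inf le_top (coprime_cent_Phi (pR.cop_of_ne
      (pGrp_of_card_prime hs a2) (Ne.symm e)) ?_)).trans h3)))
    rw [← k2, ← Subgroup.map_eq_bot_iff, map_commutator, comm_eq_bot']
    exact map_le_iff_le_comap.2 a1
  · rw [← comap_comap, comap_map_eq, k2, sup_of_le_left (Phi_le R)]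

variable [V.Normal]

theorem HRed.core_quo (h : HRed p V) (hp : p.Prime) : O[{p}]((⊤ : Subgroup (G ⧸ V))) = ⊥ := by
  have := pcore_max (piGrp_comap ((QuotientGroup.ker_mk' V).symm ▸ h.abe.pGrp hp) (pcore_pi {p} ⊤))
    ((pcore_nml {p} (⊤ : Subgroup (G ⧸ V))).comap (QuotientGroup.mk' V))
  rw [← map_comap_eq_self_of_surjective (QuotientGroup.mk'_surjective V) O[{p}](_), Subgroup.map_eq_bot_iff,
    QuotientGroup.ker_mk']
  exact this.trans h.core.le

theorem HRed.sol_quo (h : HRed p V) (hp : p.Prime) : IsPSolvable p (G ⧸ V) :=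
  isPSolvable_of_surjective hp _ (QuotientGroup.mk'_surjective V) h.sol

omit [V.Normal] in
theorem pl_of_hred {G' : Type u} [Group G'] [Finite G'] {f : G →* G'} {U : Subgroup G'} [U.Normal] (hp : p.Prime)
    (hf : Surjective f) (hU : U.comap f = pPrimePCore p G) (h : PLengthLE p k (G' ⧸ U)) :
    PLengthLE p (k + 1) G := by
  rw [pLengthLE_iff_top hp] at *
  have h1 : low p (2 * k + 1) ⊤ ≤ pPrimePCore p G := by
    rw [← hU, ← QuotientGroup.ker_mk' U, MonoidHom.comap_ker, ← Subgroup.map_eq_bot_iff, map_low,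
      map_top_of_surjective _ (by exact (QuotientGroup.mk'_surjective U).comp hf), h]
  rw [show 2 * (k + 1) + 1 = 2 * k + (2 + 1) by ring, low_add, ← low_one_idem, ← low_add]
  haveI := Fact.mk hp
  haveI := H2.pPrimeCore_characteristic (p := p) (G := G)
  refine PL.mono (k := 1) (low_succ_eq_bot.2 ?_) h1
  rw [ptau_even]
  refine (pcore_pi _ (⊤ : Subgroup G)).mono ?_
  rw [pcore_top, piCore_compl_singleton hp, ← QuotientGroup.ker_mk' (pPrimeCore p G), ← Subgroup.map_eq_bot_iff,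
    map_low, low_succ_eq_bot, show ptau p 1 = {p}ᶜ from ptau_odd p 0, compl_compl]
  exact (pcore_pi _ ⊤).mono ((low_le _ _ _).trans ((map_comap_le _ _).trans (pcore_top' hp).ge))

variable [hp : Fact p.Prime]

/-- coordinates on `V` and the faithful action of `G/V` -/
structure HRep (p : ℕ) [Fact p.Prime] (V : Subgroup G) [V.Normal] where
  n : ℕ
  π : G → (Fin n → ZMod p)
  σ : Representation (ZMod p) (G ⧸ V) (Fin n → ZMod p)
  inj : Injective σ
  map_mul : ∀ a ∈ V, ∀ b ∈ V, π (a * b) = π a + π b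
  eq_zero : ∀ a ∈ V, π a = 0 ↔ a = 1
  surj : ∀ v, ∃ a ∈ V, π a = v
  conj : ∀ g : G, ∀ a ∈ V, π (g * a * g⁻¹) = σ g (π a)

theorem HRed.rep (h : HRed p V) : Nonempty (HRep p V) := by
  obtain ⟨S⟩ := nonempty_secRep p (M := ⊤) (U := V) (W := ⊥) bot_le (comm_eq_bot.2 h.abe.ab.le_cen).le
    (fun x hx => h.abe.pow hx) le_normalizer_of_normal le_normalizer_of_normal
  have h1 : ∀ g, g ∈ MonoidHom.ker (S.ρ.comp (topEquiv.symm : G ≃* _).toMonoidHom) ↔ g ∈ V := fun g =>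
    (S.mem_ker_iff ⟨g, trivial⟩).trans ⟨fun c => h.cen (mem_cen.2 fun a ha =>
      (commutatorElement_eq_one_iff_mul_comm.1 (c a ha)).symm), fun c a ha =>
      commutatorElement_eq_one_iff_mul_comm.2 (h.abe.ab.comm c ha)⟩
  refine ⟨⟨S.n, S.π, quoRep _ V fun g => (h1 g).2, (injective_iff_map_eq_one _).2 fun g hg => ?_, S.map_mul,
    S.eq_zero, S.surj, fun g => S.conj ⟨g, trivial⟩⟩⟩
  obtain ⟨g, rfl⟩ := QuotientGroup.mk_surjective g
  exact (QuotientGroup.eq_one_iff g).2 ((h1 g).1 hg)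

namespace HRep

variable (S : HRep p V)

theorem map_one : S.π 1 = 0 := (S.eq_zero 1 (one_mem _)).2 rfl

theorem map_inv (hv : v ∈ V) : S.π v⁻¹ = -S.π v := by
  rw [eq_neg_iff_add_eq_zero, ← S.map_mul _ (inv_mem hv) _ hv, inv_mul_cancel, S.map_one]

theorem comm (x : G) (hv : v ∈ V) : ⁅x, v⁆ ∈ V ∧ S.π ⁅x, v⁆ = (S.σ x - 1) (S.π v) := by
  have := ‹V.Normal›.conj_mem _ hv x
  rw [commutatorElement_def]
  exact ⟨mul_mem this (inv_mem hv), by
    rw [S.map_mul _ this _ (inv_mem hv), S.conj _ _ hv, S.map_inv hv, ← sub_eq_add_neg]; rfl⟩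

theorem norm (x : G) (hv : v ∈ V) (m : ℕ) : (v * x) ^ m * (x ^ m)⁻¹ ∈ V ∧
    S.π ((v * x) ^ m * (x ^ m)⁻¹) = (∑ i ∈ Finset.range m, S.σ x ^ i) (S.π v) := by
  induction m with
  | zero => simp [S.map_one]
  | succ m ih =>
    have := ‹V.Normal›.conj_mem _ hv (x ^ m)
    rw [show (v * x) ^ (m + 1) * (x ^ (m + 1))⁻¹ = (v * x) ^ m * (x ^ m)⁻¹ * (x ^ m * v * (x ^ m)⁻¹) by
      simp [pow_succ, mul_assoc]]
    exact ⟨mul_mem ih.1 this, by rw [S.map_mul _ ih.1 _ this, ih.2, S.conj _ _ hv, Finset.sum_range_succ,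
      QuotientGroup.mk_pow, map_pow]; rfl⟩

theorem ext0 {T : End (ZMod p) (Fin S.n → ZMod p)} (h : ∀ v ∈ V, T (S.π v) = 0) : T = 0 :=
  LinearMap.ext fun w => by obtain ⟨v, hv, rfl⟩ := S.surj w; exact h v hv

theorem exc (h : ∀ v ∈ V, (v * x) ^ p ^ n = 1) : (S.σ x - 1) ^ (p ^ n - 1) = 0 := S.ext0 fun v hv => by
  rw [sub_one_pow_pred, ← (S.norm x hv _).2, h v hv, ← one_mul x, h 1 (one_mem _), inv_one, mul_one, S.map_one]

end HRep

/-- `p`-elements have order dividing `p ^ e` -/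
def PExp (p e : ℕ) (G : Type*) [Group G] : Prop := ∀ x : G, PiElt {p} x → x ^ p ^ e = 1

/-- the exceptional case of Theorem B does not occur -/
def NoExc (p e : ℕ) (G : Type*) [Group G] : Prop := ∀ (q n₀ m : ℕ) (Q : Subgroup G), q.Prime → q ≠ p → 1 ≤ n₀ →
  n₀ ≤ e → 1 ≤ m → p ^ n₀ - 1 = q ^ m → PGrp q Q → Ab Q

theorem PExp.map (h : PExp p e G) (hf : Surjective f) : PExp p e G' := fun y hy => by
  obtain ⟨x, hx, rfl⟩ := exists_pelt_map hf hy
  rw [← map_pow, h x hx, map_one]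

theorem NoExc.map (h : NoExc p e G) (hf : Surjective f) (hn : n ≤ e) : NoExc p n G' :=
  fun q n₀ m Q a1 a2 a3 a4 a5 a6 a7 => by
  obtain ⟨P, b1, rfl⟩ := exists_pgrp_map hf a7
  exact (h q n₀ m P a1 a2 a3 (a4.trans hn) a5 a6 b1).map f

theorem pexp_of_syl (h : ∀ P : Sylow p G, ∀ x ∈ (P : Subgroup G), x ^ p ^ e = 1) : PExp p e G := fun x hx => by
  obtain ⟨P, hP⟩ := hx.zpowers.isPGroup.exists_le_sylow
  exact h P x (hP (mem_zpowers x))

theorem PExp.pl_zero (h : PExp p 0 G) : PLengthLE p 0 G := by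
  rw [pLengthLE_iff_top hp.out]
  refine H1.pl_zero.2 ((p'grp_iff hp.out).2 fun hd => ?_)
  obtain ⟨x, hx⟩ := exists_prime_orderOf_dvd_card' p (card_top (G := G) ▸ hd)
  have := h x ((piElt_of_orderOf_prime hp.out hx).2 rfl)
  rw [pow_zero, pow_one] at this
  exact hp.out.one_lt.ne (by rw [← hx, this, orderOf_one])

theorem HRed.exc (h : HRed p V) (S : HRep p V) (he : PExp p n G) {y : G ⧸ V} (hy : PiElt {p} y) :
    (S.σ y - 1) ^ (p ^ n - 1) = 0 := by
  obtain ⟨x, hx, rfl⟩ := exists_pelt_map (QuotientGroup.mk'_surjective V) hy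
  exact S.exc fun v hv => he _ (((h.abe.pGrp hp.out).sup hx.zpowers le_normalizer_of_normal).piElt
    (mul_mem_sup hv (mem_zpowers x)))

theorem pl_of_exp (e : ℕ) : ∀ {G : Type u} [Group G] [Finite G], IsPSolvable p G → NoExc p e G → PExp p e G →
    PLengthLE p e G := by
  induction e with
  | zero => exact fun _ _ h => h.pl_zero
  | succ e ih =>
  intro G _ _ hs h1 h2
  obtain ⟨G', _, _, f, V, a1, a2, a3⟩ := exists_hred hp.out hs
  haveI := a2.normal
  obtain ⟨S⟩ := a2.rep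
  have a4 := QuotientGroup.mk'_surjective V
  have a5 := (h1.map a1 le_rfl).map a4 le_rfl
  refine pl_of_hred hp.out a1 a3 (ih (a2.sol_quo hp.out) (a5.map (f := .id _) surjective_id e.le_succ)
    fun y hy => by_contra fun c => ?_)
  obtain ⟨q, Q, b1, b2, b3, b4 | ⟨b4, n₀, m, b5⟩⟩ := hh_B S.inj (a2.sol_quo hp.out) (a2.core_quo hp.out)
    (orderOf_eq_prime_pow c ((h2.map a1).map a4 y hy)) (a2.exc S (h2.map a1) hy)
  · have := Nat.pow_pos (n := e + 1) hp.out.pos; omega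
  · exact b4 (a5 q n₀ m Q b1 b2 b5.1 b5.2.1 b5.2.2.1 b5.2.2.2.1 b3)

end Cfsg.Agent.H1
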