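import Cfsg.Agent.H1.HHR
import Cfsg.Agent.H27.PRank

/-! `p`-solvable groups whose Sylow `p`-subgroup is the normal Sylow subgroup of a Schmidt group. -/

set_option autoImplicit false
set_option linter.unusedSectionVars false
set_option linter.style.haveILetI false

namespace Cfsg.Agent.H1

open Cfsg Module Subgroup Cfsg.Agent.H28 Cfsg.Agent.FT Function
open scoped commutatorElement

universe u

variable {G : Type u} [Group G] [Finite G] {p q : ℕ} {P S : Subgroup G} {y : G}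

/-- the properties of the normal Sylow subgroup of a minimal non-nilpotent group -/
def SXT (p : ℕ) (H : Type*) [Group H] : Prop := (∀ a b : H, ⁅a, b⁆ ∈ center H) ∧ (∀ a : H, a ^ p ∈ center H) ∧
  (∀ u ∉ center H, ∀ z ∈ center H, ∃ x, ⁅u, x⁆ = z) ∧
  ((center H).index = p ^ 2 → ∀ u ∉ center H, u ^ p = 1 → 3 < p)

theorem SXT.equiv {H H' : Type*} [Group H] [Group H'] (e : H ≃* H') (h : SXT p H) : SXT p H' := by
  have m : ∀ a, e a ∈ center H' ↔ a ∈ center H := fun a => MulEquivClass.apply_mem_center_iff e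
  simp only [SXT, e.surjective.forall, e.surjective.exists, ← map_commutatorElement, ← map_pow, m, e.apply_eq_iff_eq,
    e.map_eq_one_iff]
  rwa [← index_comap_of_surjective _ (f := e.toMonoidHom) e.surjective, show (center H').comap e.toMonoidHom =
    center H from Subgroup.ext m]

theorem sxt_iff : SXT p S ↔ (∀ a ∈ S, ∀ b ∈ S, ⁅a, b⁆ ∈ C(S)) ∧ (∀ a ∈ S, a ^ p ∈ C(S)) ∧
    (∀ u ∈ S, u ∉ C(S) → ∀ z ∈ S, z ∈ C(S) → ∃ x ∈ S, ⁅u, x⁆ = z) ∧
    (Z(S).relIndex S = p ^ 2 → ∀ u ∈ S, u ∉ C(S) → u ^ p = 1 → 3 < p) := by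
  rw [center_eq_map, relIndex, so_map]
  simp only [SXT, mem_center_coe_iff, Subtype.forall, Subtype.exists, Subtype.ext_iff, commutatorElement_def,
    coe_mul, coe_inv, coe_pow, coe_one, exists_prop]

theorem sxt_of_min (hp : p.Prime) (hq : q.Prime) (hne : q ≠ p) (hP : PGrp p P) (hy : PiElt {q} y) (hn : y ∈ N(P))
    (h0 : y ∉ C(P)) (h1 : y ^ q ∈ C(P)) (hmin : ∀ X < P, y ∈ N(X) → X ≤ C[y]) : SXT p P := by
  have cop := hP.cop_of_ne hy.zpowers hne.symm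
  have n1 := zpowers_le.2 hn
  obtain ⟨b1, -, b3, -⟩ := minimal_action n1 (le_nrm _) le_rfl cop.symm hP.sol (mt zpowers_le.1 h0)
    fun X a b => cen_zpowers y ▸ hmin X a (zpowers_le.1 b)
  rw [cen_zpowers] at b3
  have hm : ∀ X < P, y ∈ N(X) → X ≤ Z(P) := fun X a b => le_inf a.le ((le_inf a.le (hmin X a b)).trans b3)
  by_cases hA : Ab P
  · exact sxt_iff.2 ⟨fun a ha b hb => hA.le_cen (der_le P (commutator_mem_commutator ha hb)), fun a ha =>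
      hA.le_cen (pow_mem ha p), fun u hu c => absurd (hA.le_cen hu) c, fun _ u hu c => absurd (hA.le_cen hu) c⟩
  have hW : ∀ W ≤ P, Ab W → y ∈ N(W) → W ≤ Z(P) := fun W a b => hm W (lt_of_le_of_ne a fun e => hA (e ▸ b))
  have nZ := (center_nml P).nrm
  have yZ := norms_center n1 (mem_zpowers y)
  have hZ : Z(P) ≤ C[y] := hmin _ (lt_of_le_of_ne inf_le_left fun e => hA (e ▸ ab_center P)) yZ
  have hF := hm _ (Phi_lt fun e => hA (e ▸ ab_bot)) (norms_Phi n1 (mem_zpowers y))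
  have hD := hP.der_le_Phi.trans hF
  have c1 : ∀ a ∈ P, ∀ b ∈ P, ⁅a, b⁆ ∈ Z(P) := fun a ha b hb => hD (commutator_mem_commutator ha hb)
  have c3 : ∀ u ∈ P, u ∉ C(P) → ∀ z ∈ P, z ∈ C(P) → ∃ x ∈ P, ⁅u, x⁆ = z := fun u hu c z z1 z2 => by
    let φ : P →* G := MonoidHom.mk' (fun x => ⁅u, (x : G)⁆) fun a b => by
      rw [coe_mul, show ⁅u, (a : G) * b⁆ = ⁅u, (a : G)⁆ * (a * ⁅u, (b : G)⁆) * (a : G)⁻¹ by group,
        mem_cen.1 (c1 u hu b b.2).2 a a.2]; group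
    have d1 : φ.range ≤ Z(P) := by rintro _ ⟨x, rfl⟩; exact c1 u hu x x.2
    have d2 : P ≤ N(φ.range) := cents_norm (centsC (d1.trans inf_le_right))
    have d3 : ⟪y⟫ ≤ N(φ.range) := cents_norm (centsC (cen_zpowers y ▸ d1.trans hZ))
    have d4 : P ⊓ qpre(φ.range, C(P /ₛ φ.range)) = P := by_contra fun e => c (hm _ (lt_of_le_of_ne inf_le_left e)
      (normsI n1 (norms_qpre d3 (norms_cent (quo_norms _ n1))) (mem_zpowers y)) ⟨hu, mem_qpre.2 ⟨d2 hu,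
        mem_cen.2 fun x hx => by
          obtain ⟨x, x1, x2, rfl⟩ := mem_quo.1 hx
          exact ((coset_commute_iff (d2 hu) x2).2 ⟨⟨x, x1⟩, rfl⟩).symm⟩⟩).2
    obtain ⟨x, hx⟩ := ((le_qpre_cen d2).1 (inf_eq_left.1 d4)).2 (coprime_cent_comm_le_der n1 cop
      ⟨b1.ge z1, cen_zpowers y ▸ hZ ⟨z1, z2⟩⟩)
    exact ⟨x, x.2, hx⟩
  refine sxt_iff.2 ⟨fun a ha b hb => (c1 a ha b hb).2, fun a ha => (hF (hP.pow_mem_Phi ha)).2, c3,
    fun e u hu c h2 => by_contra fun h3 => c ?_⟩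
  have w1 : ∀ w ∈ P, y * w * y⁻¹ ∈ ⟪w⟫ ⊔ Z(P) → w ∈ Z(P) := fun w hw h => hW _ (sup_le (zpowers_le.2 hw) inf_le_left)
    ((ab_zpowers w).sup (ab_center P) (center_le_cen (zpowers_le.2 hw))) (mem_nrm_of_cj_le (by
      rw [cj_sup, cj_zpowers, cj_of_mem_nrm yZ]; exact sup_le (zpowers_le.2 h) le_sup_right))
    (mem_sup_left (mem_zpowers w))
  have d1 := P22.card_modEq_cen hq (hy.zpowers.quo Z(P)) (quo_norms Z(P) n1)
  rw [quo_zpowers yZ, cen_zpowers, ← strong_coprime_quotient_cent1 hn yZ (Nat.card_zpowers y ▸ cop), card_quo nZ, e,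
    (quo_eq_bot (inf_le_left.trans nZ)).2 (le_inf inf_le_left b3), card_bot'] at d1
  have d2 := (Nat.modEq_iff_dvd' (Nat.pow_pos hp.pos)).1 d1.symm
  have d3 := mem_cen.1 h1 u hu
  have u1 := conj_mem hn hu
  have u2 := conj_mem hn u1
  have := hp.two_le
  obtain rfl | rfl : p = 2 ∨ p = 3 := by omega
  · obtain rfl := (Nat.prime_dvd_prime_iff_eq hq Nat.prime_three).1 d2
    have e1 : y * (y * (y * u * y⁻¹) * y⁻¹) * y⁻¹ = u := by
      rw [show y * (y * (y * u * y⁻¹) * y⁻¹) * y⁻¹ = y ^ 3 * u * (y ^ 3)⁻¹ by simp [pow_succ, mul_assoc], ← d3,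
        mul_inv_cancel_right]
    have s1 : (y * u * y⁻¹) ^ 2 = 1 := by rw [conj_pow, h2]; simp
    have s2 : (y * (y * u * y⁻¹) * y⁻¹) ^ 2 = 1 := by rw [conj_pow, s1]; simp
    generalize hv : y * u * y⁻¹ = v at *
    generalize hw : y * v * y⁻¹ = w at *
    have e2 := w1 _ (mul_mem (mul_mem hu u1) u2) (by
      rw [show y * (u * v * w) * y⁻¹ = u * v * w * ⁅(v * w)⁻¹, u⁻¹⁆ by
        rw [show y * (u * v * w) * y⁻¹ = y * u * y⁻¹ * (y * v * y⁻¹) * (y * w * y⁻¹) by group, hv, hw, e1]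
        group]
      exact mul_mem_sup (mem_zpowers _) (c1 _ (inv_mem (mul_mem u1 u2)) _ (inv_mem hu)))
    obtain ⟨x, -, hx⟩ := c3 u hu c _ e2.1 e2.2
    have e3 : (u * v * w) ^ 2 = 1 := by
      have : ⁅u ^ 2, x⁆ = u * ⁅u, x⁆ * u⁻¹ * ⁅u, x⁆ := by rw [sq]; group
      rwa [h2, commutatorElement_one_left, hx, mem_cen.1 e2.2 u hu, mul_inv_cancel_right, ← sq, eq_comm] at this
    have e4 : (u * v) ^ 2 = 1 := by
      rw [← mul_inv_cancel_right (u * v) w, Commute.mul_pow (mem_cen.1 e2.2 _ (inv_mem u2)).symm, e3, inv_pow, s2,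
        inv_one, mul_one]
    have e5 : v * u = u * v := by
      rw [sq, ← eq_inv_iff_mul_eq_one] at h2 s1 e4
      rw [e4, mul_inv_rev, ← h2, ← s1]
    have e6 : ⟪u⟫ ⊔ ⟪v⟫ ≤ P := sup_le (zpowers_le.2 hu) (zpowers_le.2 u1)
    have m1 : u ∈ ⟪u⟫ ⊔ ⟪v⟫ := mem_sup_left (mem_zpowers u)
    have m2 : v ∈ ⟪u⟫ ⊔ ⟪v⟫ := mem_sup_right (mem_zpowers v)
    refine (hW _ (sup_le e6 inf_le_left) (((ab_zpowers u).sup (ab_zpowers v) (zpowers_le.2
      (cen_zpowers u ▸ mem_cen1.2 e5))).sup (ab_center P) (center_le_cen e6)) (mem_nrm_of_cj_le ?_)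
      (mem_sup_left m1)).2
    rw [cj_sup, cj_sup, cj_zpowers, cj_zpowers, cj_of_mem_nrm yZ, hv, hw]
    exact sup_le (sup_le (zpowers_le.2 (mem_sup_left m2)) (zpowers_le.2 (by
      simpa [mul_assoc] using mul_mem_sup (inv_mem (mul_mem m1 m2)) e2))) le_sup_right
  · obtain rfl := (Nat.prime_dvd_prime_iff_eq hq Nat.prime_two).1 (hq.dvd_of_dvd_pow (show q ∣ 2 ^ 3 from d2))
    have e1 : y * (y * u * y⁻¹) * y⁻¹ = u := by
      rw [show y * (y * u * y⁻¹) * y⁻¹ = y ^ 2 * u * (y ^ 2)⁻¹ by simp [pow_succ, mul_assoc], ← d3,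
        mul_inv_cancel_right]
    generalize hv : y * u * y⁻¹ = v at *
    have e2 := w1 _ (mul_mem hu u1) (by
      rw [show y * (u * v) * y⁻¹ = u * v * ⁅v⁻¹, u⁻¹⁆ by
        rw [show y * (u * v) * y⁻¹ = y * u * y⁻¹ * (y * v * y⁻¹) by group, hv, e1]; group]
      exact mul_mem_sup (mem_zpowers _) (c1 _ (inv_mem u1) _ (inv_mem hu)))
    exact (w1 u hu (by simpa [hv] using mul_mem_sup (inv_mem (mem_zpowers u)) e2)).2

theorem sxt_of_schmidt (hp : p.Prime) (hG : IsMinimalNonNilpotent G) (hP : Syl p P ⊤) (hn : P ⊴ ⊤) (h1 : P ≠ ⊥) :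
    SXT p P := by
  obtain ⟨H, a1, a2⟩ := hP.exists_compl hn.nrm
  have a3 : ¬ H ≤ C(P) := fun c => hG.1 (nil_top.1 (a2.sup ▸ hP.pi.nil.sup_cents
    (hG.2 H fun e => h1 (by simpa [e] using a2.inf)) c))
  obtain ⟨q, Q, hq, b1, b2⟩ : ∃ q Q, q.Prime ∧ Syl q Q H ∧ ¬ Q ≤ C(P) := by
    by_contra! c; exact a3 (le_of_forall_syl' c)
  obtain ⟨x, b3, b4⟩ := SetLike.not_le_iff_exists.1 b2
  have hne : q ≠ p := fun e => b2 ((e ▸ b1.pi : PGrp p Q).eq_bot (a1.pi.mono b1.le) ▸ bot_le)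
  obtain ⟨n, b5⟩ := (b1.pi.piElt b3).exists_pow
  obtain ⟨i, -, b6, b7⟩ := exists_last_pow b4 (b5 ▸ one_mem _)
  have b8 := (b1.pi.piElt b3).pow (q ^ i)
  refine sxt_of_min hp hq hne hP.pi b8 (hn.nrm trivial) b7 (by rwa [← pow_mul, ← pow_succ]) fun X c1 c2 => ?_
  have cop := hP.pi.cop_of_ne b8.zpowers hne.symm
  refine cen_zpowers (x ^ q ^ i) ▸ Nil.cents_of_cop (hG.2 _ fun e => c1.ne ?_) le_sup_left le_sup_right
    (cop.mono c1.le le_rfl)
  have := inf_sup_left (zpowers_le.2 c2) c1.le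
  rwa [e, inf_top_eq, cop.inf, sup_bot_eq, eq_comm] at this

theorem SXT.nml [hp : Fact p.Prime] (h : SXT p S) (hs : IsPSolvable p G) (hO : O[{p}ᶜ]((⊤ : Subgroup G)) = ⊥)
    (hS : Syl p S ⊤) : S ≤ O[{p}]((⊤ : Subgroup G)) := by
  obtain ⟨h1, h2, h3, h4⟩ := sxt_iff.1 h
  have c0 := P22.cen_pcore_le hp.out (psol_top hp.out hs) hO
  rw [top_inf_eq] at c0
  obtain ⟨R, hR⟩ : ∃ R, O[{p}]((⊤ : Subgroup G)) = R := ⟨_, rfl⟩
  have nR := hR ▸ pcore_nml {p} (⊤ : Subgroup G)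
  have pR : PGrp p R := hR ▸ pcore_pi {p} (⊤ : Subgroup G)
  have hq : O[{p}](⊤ /ₛ R) = ⊥ := hR ▸ pcore_quo_pcore _ _
  rw [hR] at c0 ⊢
  by_contra h0
  have n : ∀ X : Subgroup G, X ≤ N(R) := fun X => le_top.trans nR.nrm
  have RS := hS.ge_of_nml pR nR
  have ZR : Z(S) ≤ R := (center_le_cen RS).trans c0
  have hD : ⁅S, S⁆ ≤ Z(S) := le_inf (der_le S) (commutator_le.2 h1)
  have pS := hS.pi.quo R
  have hE : Abelem p (S /ₛ R) := abelem_iff.2 ⟨(ab_quo_iff (n S)).2 (hD.trans ZR), fun x hx => by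
    obtain ⟨x, a1, a2, rfl⟩ := mem_quo.1 hx
    rw [← coset_pow a2, coset_of_mem (ZR ⟨pow_mem a1 p, h2 x a1⟩)]⟩
  have hK := pcore_pi {p}ᶜ (⊤ /ₛ R)
  have nK := (quo_mono R (le_top : S ≤ ⊤)).trans (pcore_nml {p}ᶜ (⊤ /ₛ R)).nrm
  have e0 := mt (quo_eq_bot (n S)).1 h0
  obtain ⟨B, a1, a2, a3⟩ : ∃ B, B ≤ S /ₛ R ∧ B.relIndex (S /ₛ R) = p ∧ ¬ O[{p}ᶜ](⊤ /ₛ R) ⊓ C(B) ≤ C(S /ₛ R) := by
    by_contra! c
    exact e0 (pS.eq_bot (hK.mono ((le_inf (quo_mono R le_top) (centsC (coprime_abelem_gen_cent hp.out hE e0 nK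
      (hK.cop' pS) c))).trans (((psol_top hp.out hs).quo hp.out (n _)).cen hp.out (.inl rfl) hq))))
  generalize O[{p}ᶜ](⊤ /ₛ R) = K at *
  have nY := norms_subcent nK (hE.ab.norms a1)
  have key : ¬ qpre(R, K ⊓ C(B)) ≤ N(Z(S)) := fun c => by
    have nZ := (center_nml S).nrm
    have d1 : ⁅qpre(R, K ⊓ C(B)), S⁆ ≤ C(Z(S)) ⊓ qpre(Z(S), C(R /ₛ Z(S))) := (commSS le_rfl (le_inf (le_cen_center le_rfl)
      ((le_qpre_cen (RS.trans nZ)).2 ⟨nZ, (commSS le_rfl RS).trans hD⟩))).trans (comm_le_right (normsI (norms_cent c)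
        (norms_qpre c (norms_cent (quo_norms _ (n _))))))
    have d2 : PGrp p ⁅qpre(R, K ⊓ C(B)), S⁆ := fun s hs hd => by_contra fun e => by
      obtain ⟨X, b1, b2⟩ := exists_card_prime_le hs hd
      have b3 := b1.trans d1
      exact e (pR s hs (b2 ▸ card_dvd ((coprime_cents_of_comm_cents (n X) (pR.cop_of_ne (pGrp_of_card_prime hs b2)
        (Ne.symm e)) ((commC R X ▸ ((le_qpre_cen (RS.trans nZ)).1 (b3.trans inf_le_right)).2).trans
          (centsC (b3.trans inf_le_left)))).trans c0)))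
    have := d2.quo R
    rw [quo_comm (n _) (n _), quo_qpre] at this
    exact a3 (comm_eq_bot.1 (this.eq_bot (hK.mono ((comm_le_left nY).trans inf_le_left))))
  have b1 : qpre(R, B) ≤ S := qpre_le_of_le_quo RS a1
  have b2 : qpre(R, K ⊓ C(B)) ≤ N(qpre(R, B)) := norms_qpre (n _) (by rw [quo_qpre]; exact cents_norm inf_le_right)
  have b3 : qpre(R, B).relIndex S = p := (relIndex_qpre B (n S)).trans a2
  obtain ⟨r, ⟨r1, r2⟩, r3⟩ := SetLike.exists_of_lt (lt_of_le_of_ne (le_inf ZR (center_le_cen b1))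
    fun e => key (e ▸ norms_subcent (n _) b2))
  have r4 : r ∉ C(S) := fun c => r3 ⟨RS r1, c⟩
  have b4 : #Z(S) ≤ p := by
    rw [← b3]
    refine Nat.card_le_card_of_surjective (fun c : S ⧸ qpre(R, B).subgroupOf S => (⟨⁅r, (c.out : G)⁆,
      hD (commutator_mem_commutator (RS r1) c.out.2)⟩ : ↥Z(S))) fun z => ?_
    obtain ⟨x, x1, x2⟩ := h3 r (RS r1) r4 z z.2.1 z.2.2
    obtain ⟨b, hb⟩ := QuotientGroup.mk_out_eq_mul (qpre(R, B).subgroupOf S) ⟨x, x1⟩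
    refine ⟨QuotientGroup.mk ⟨x, x1⟩, Subtype.ext ?_⟩
    simp only [hb, coe_mul]
    rw [← x2, show ∀ b, ⁅r, x * b⁆ = ⁅r, x⁆ * x * ⁅r, b⁆ * x⁻¹ from fun b => by group,
      commutatorElement_eq_one_iff_mul_comm.2 (mem_cen.1 r2 b b.2).symm, mul_one, mul_inv_cancel_right]
  have b5 : #Z(S) = p := b4.antisymm (Nat.le_of_dvd (FT.card_pos _) ((hS.pi.mono inf_le_left).dvd
    (hS.pi.center_ne_bot fun e => h0 (e ▸ bot_le))))
  have b6 : qpre(R, B) ≤ C(R) := comm_eq_bot'.1 (by_contra fun c => key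
    (eq_of_le_prime (b5 ▸ hp.out) ((commSS RS b1).trans hD) c ▸ normsR (n _) b2))
  rw [(b6.trans c0).antisymm (le_qpre B)] at b3 b6
  obtain ⟨x, x1, x2⟩ := SetLike.not_le_iff_exists.1 h0
  have b7 : Z(S) = C[x] ⊓ R := (le_inf (inf_le_right.trans (cen_le_cen1 x1)) ZR).antisymm (le_inf
    (inf_le_right.trans RS) (((maxIn_of_prime_relIndex (b3 ▸ hp.out) RS).sup_eq (zpowers_le.2 x1)
      (mt zpowers_le.1 x2)) ▸ centsY (inf_le_right.trans b6) (inf_le_left.trans (cen_zpowers x).ge)))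
  have b8 : Z(S).relIndex R = p := le_antisymm (by
    rw [b7, inf_relIndex_right, ← b5]
    exact H27.relIndex_cen1_le fun g hg => hD (commutator_mem_commutator (RS hg) x1))
    (Nat.le_of_dvd (relIndex_pos _ _) (by
      obtain ⟨_ | i, hi⟩ := (pR.relIndex Z(S)).exists_pow (relIndex_pos _ _).ne'
      · exact absurd (relIndex_eq_one.1 hi r1) r3
      · exact hi ▸ dvd_pow_self p i.succ_ne_zero))
  have b9 := (cyc_or_abelem_of_card_sq hp.out (by rw [← card_mul_relIndex ZR, b5, b8, sq])).resolve_left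
    fun c => key (c.norms_sub ZR (n _))
  have := h4 (by rw [← relIndex_mul_relIndex _ _ _ ZR RS, b8, b3, sq]) r (RS r1) r4 (b9.pow r1)
  haveI := nml_top_iff.1 nR
  have hr : HRed p R := ⟨hs, b9, c0, hR⟩
  obtain ⟨T⟩ := hr.rep
  obtain ⟨q, Q, -, -, -, d | ⟨-, n₀, m, d2, d3, -, -, d⟩⟩ := hh_B (x := (x : G ⧸ R)) (n := 0) (r := 2) T.inj
    (hr.sol_quo hp.out) (hr.core_quo hp.out) (by
      rw [zero_add, pow_one, orderOf_eq_prime ((QuotientGroup.eq_one_iff _).2 (ZR ⟨pow_mem x1 p, h2 x x1⟩))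
        (mt (QuotientGroup.eq_one_iff x).1 x2)]) (T.ext0 fun v hv => by
      rw [sq, End.mul_apply, ← (T.comm _ hv).2, ← (T.comm _ (T.comm _ hv).1).2,
        commutatorElement_eq_one_iff_mul_comm.2 (mem_cen.1 (h1 x x1 v (RS hv)) x x1), T.map_one])
  · simp at d; omega
  · obtain rfl := d2.antisymm d3
    simp at d; omega

end Cfsg.Agent.H1
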