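import Mathlib
import Cfsg.Agent.H16.Supp
import Cfsg.Agent.H16.Normal

/-! Jordan sets: the Steiner system of a Jordan group and Marggraf's theorems. -/

set_option autoImplicit false

namespace Cfsg.Agent.H1

open MulAction Finset
open scoped Pointwise

variable {G Ω : Type*} [Group G] [MulAction G Ω]

variable (G) in
/-- `Δ` is a Jordan complement: its pointwise stabiliser is transitive on the other points. -/
def JC (Δ : Finset Ω) : Prop :=
  ∀ x y, x ∉ Δ → y ∉ Δ → ∃ g : G, (∀ z ∈ Δ, g • z = z) ∧ g • x = y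

variable [DecidableEq Ω]

theorem JC.smul {Δ : Finset Ω} (h : JC G Δ) (g : G) : JC G (g • Δ) := by
  intro x y hx hy
  rw [← inv_smul_mem_iff] at hx hy
  obtain ⟨k, h1, h2⟩ := h _ _ hx hy
  refine ⟨g * k * g⁻¹, fun z hz => ?_, ?_⟩
  · rw [← inv_smul_mem_iff] at hz
    rw [mul_smul, mul_smul, h1 _ hz, smul_inv_smul]
  · rw [mul_smul, mul_smul, h2, smul_inv_smul]

theorem JC.inter {Δ Δ' : Finset Ω} (h : JC G Δ) (h' : JC G Δ') {w : Ω} (hw : w ∉ Δ) (hw' : w ∉ Δ') :
    JC G (Δ ∩ Δ') := by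
  have key : ∀ x, x ∉ Δ ∩ Δ' → ∃ g : G, (∀ z ∈ Δ ∩ Δ', g • z = z) ∧ g • x = w := by
    intro x hx
    rw [mem_inter, not_and_or] at hx
    rcases hx with hx | hx
    · obtain ⟨g, h1, h2⟩ := h x w hx hw
      exact ⟨g, fun z hz => h1 z (mem_inter.1 hz).1, h2⟩
    · obtain ⟨g, h1, h2⟩ := h' x w hx hw'
      exact ⟨g, fun z hz => h1 z (mem_inter.1 hz).2, h2⟩
  intro x y hx hy
  obtain ⟨g, g1, g2⟩ := key x hx
  obtain ⟨k, k1, k2⟩ := key y hy
  refine ⟨k⁻¹ * g, fun z hz => ?_, ?_⟩
  · rw [mul_smul, g1 z hz, inv_smul_eq_iff, k1 z hz]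
  · rw [mul_smul, g2, inv_smul_eq_iff, k2]

omit [DecidableEq Ω] in
theorem exists_map_into {k : ℕ} (h : IsMultiplyPretransitive G Ω k) {X X' : Finset Ω}
    (hX : X.card = k) (hX' : k ≤ X'.card) : ∃ g : G, ∀ z ∈ X, g • z ∈ X' := by
  rcases isEmpty_or_nonempty Ω with hΩ | hΩ
  · exact ⟨1, fun z => isEmptyElim z⟩
  obtain ⟨f, h1, h2⟩ := Set.Finite.exists_injOn_of_encard_le (s := (X : Set Ω)) (t := (X' : Set Ω))
    X.finite_toSet (by simp [hX, hX'])
  obtain ⟨g, hg⟩ := H16.mtrans_finset_eq h X hX f h2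
  exact ⟨g, fun z hz => by rw [hg z hz]; exact h1 hz⟩

theorem smul_eq_of_mapsTo {X X' : Finset Ω} {g : G} (h : ∀ z ∈ X, g • z ∈ X')
    (hc : X'.card ≤ X.card) : g • X = X' := by
  apply eq_of_subset_of_card_le _ (by rwa [card_smul_finset])
  intro z hz
  obtain ⟨w, hw, rfl⟩ := mem_smul_finset.1 hz
  exact h w hw

variable [Fintype Ω]

variable (G) in
/-- The Steiner system of a Jordan group. -/
structure Stn (k l : ℕ) (Blk : Finset Ω → Prop) : Prop where
  trans : IsMultiplyPretransitive G Ω k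
  two : 2 ≤ k
  lt : k < l
  le : l + 2 ≤ Fintype.card Ω
  card : ∀ {B}, Blk B → B.card = l
  smul : ∀ {B}, Blk B → ∀ g : G, Blk (g • B)
  jc : ∀ {B}, Blk B → JC G B
  uniq : ∀ {B B'}, Blk B → Blk B' → k ≤ (B ∩ B').card → B = B'
  ex : ∀ X : Finset Ω, X.card = k → ∃ B, Blk B ∧ X ⊆ B

theorem exists_not_mem_two {A B : Finset Ω} (h : (A ∪ B).card < Fintype.card Ω) :
    ∃ w, w ∉ A ∧ w ∉ B := by
  by_contra hne
  push Not at hne
  have : (univ : Finset Ω) ⊆ A ∪ B := fun w _ => by
    by_cases hw : w ∈ A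
    · exact mem_union_left _ hw
    · exact mem_union_right _ (hne w hw)
  have := card_le_card this
  rw [card_univ] at this
  omega

theorem exists_stn {k : ℕ} (hk : 2 ≤ k) (h : IsMultiplyPretransitive G Ω k)
    (h' : ¬ IsMultiplyPretransitive G Ω (k + 1)) {Δ : Finset Ω} (hΔ : JC G Δ) (h1 : k ≤ Δ.card)
    (h2 : Δ.card + 2 ≤ Fintype.card Ω) : ∃ l Blk, Stn G (Ω := Ω) k l Blk := by
  obtain ⟨B, ⟨hB, hB1, hB2⟩, hmin⟩ := (measure Finset.card).wf.has_min
    {B : Finset Ω | JC G B ∧ k ≤ B.card ∧ B.card + 2 ≤ Fintype.card Ω} ⟨Δ, hΔ, h1, h2⟩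
  have hmin' : ∀ B' : Finset Ω, JC G B' → k ≤ B'.card → B.card ≤ B'.card := by
    intro B' a b
    by_contra c
    exact hmin B' ⟨a, b, by omega⟩ (not_le.1 c)
  have hlt : k < B.card := by
    by_contra c
    exact h' (H16.mtrans_succ_of_one h B (by omega) hB)
  have h2t : IsMultiplyPretransitive G Ω 2 :=
    H16.mtrans_mono h hk (by rw [Nat.card_eq_fintype_card]; omega)
  have hbig : 2 * B.card + 2 ≤ Fintype.card Ω + k := by
    obtain ⟨x, hx, y, hy, hxy⟩ : ∃ x ∈ Bᶜ, ∃ y ∈ Bᶜ, x ≠ y :=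
      one_lt_card.1 (by rw [card_compl]; omega)
    obtain ⟨z, hz⟩ : B.Nonempty := card_pos.1 (by omega)
    rw [mem_compl] at hx hy
    obtain ⟨g, g1, g2⟩ := H16.two_trans h2t hxy (c := x) (d := z) (fun e => hx (e ▸ hz))
    have hx' : x ∉ g • B := by rw [← g1, smul_mem_smul_finset_iff]; exact hx
    have hz' : z ∉ g • B := by rw [← g2, smul_mem_smul_finset_iff]; exact hy
    have hj := hB.inter (hB.smul g) hx hx'
    have hlt2 : (B ∩ g • B).card < B.card :=
      card_lt_card ⟨inter_subset_left, fun hs => hz' (mem_inter.1 (hs hz)).2⟩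
    have h3 : (B ∩ g • B).card < k := by
      by_contra c
      have := hmin' _ hj (not_lt.1 c)
      omega
    have h4 := card_union_add_card_inter B (g • B)
    rw [card_smul_finset] at h4
    have h5 : (B ∪ g • B).card < Fintype.card Ω := by
      rw [← card_univ]
      exact card_lt_card ⟨subset_univ _, fun hs => by simpa [hx, hx'] using hs (mem_univ x)⟩
    omega
  refine ⟨B.card, fun B' => ∃ g : G, B' = g • B, h, hk, hlt, hB2, ?_, ?_, ?_, ?_, ?_⟩
  · rintro _ ⟨g, rfl⟩; exact card_smul_finset _ _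
  · rintro _ ⟨g, rfl⟩ g'; exact ⟨g' * g, (mul_smul _ _ _).symm⟩
  · rintro _ ⟨g, rfl⟩; exact hB.smul g
  · rintro _ _ ⟨g, rfl⟩ ⟨g', rfl⟩ hc
    have h4 := card_union_add_card_inter (g • B) (g' • B)
    rw [card_smul_finset, card_smul_finset] at h4
    obtain ⟨w, hw, hw'⟩ := exists_not_mem_two (A := g • B) (B := g' • B) (by omega)
    have := hmin' _ ((hB.smul g).inter (hB.smul g') hw hw') hc
    rw [← eq_of_subset_of_card_le (inter_subset_left (s₁ := g • B) (s₂ := g' • B))
      (by rwa [card_smul_finset])]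
    exact eq_of_subset_of_card_le inter_subset_right (by rwa [card_smul_finset])
  · intro X hX
    obtain ⟨g, hg⟩ := exists_map_into h hX hB1
    exact ⟨g⁻¹ • B, ⟨_, rfl⟩, fun z hz => by rw [← inv_smul_mem_iff, inv_inv]; exact hg z hz⟩

namespace Stn

variable {k l : ℕ} {Blk : Finset Ω → Prop} (S : Stn G k l Blk)
include S

theorem same {B B' X : Finset Ω} (hB : Blk B) (hB' : Blk B') (h : X ⊆ B) (h' : X ⊆ B')
    (hX : k ≤ X.card) : B = B' :=
  S.uniq hB hB' (hX.trans (card_le_card (subset_inter h h')))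

theorem smul_eq {B X : Finset Ω} (hB : Blk B) (h : X ⊆ B) (hX : k ≤ X.card) {g : G}
    (hg : ∀ z ∈ X, g • z ∈ B) : g • B = B := by
  refine S.same (X := g • X) (S.smul hB g) hB (smul_finset_subset_smul_finset h) ?_
    (by rwa [card_smul_finset])
  intro z hz
  obtain ⟨w, hw, rfl⟩ := mem_smul_finset.1 hz
  exact hg w hw

/-- The counting inequality for a Jordan complement. -/
theorem count {Δ : Finset Ω} (hΔ : JC G Δ) (h1 : k ≤ Δ.card) (h2 : Δ.card + 2 ≤ Fintype.card Ω) :
    (Δ.card - k + 2) * (l - k) + 1 ≤ Fintype.card Ω - Δ.card := by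
  have hk := S.two
  have hl := S.lt
  obtain ⟨Y, hY, hYc⟩ := exists_subset_card_eq (s := Δ) (n := k - 2) (by omega)
  obtain ⟨x, hx, x', hx', hxx⟩ : ∃ x ∈ Δᶜ, ∃ y ∈ Δᶜ, x ≠ y :=
    one_lt_card.1 (by rw [card_compl]; omega)
  rw [mem_compl] at hx hx'
  have ha : ∀ B, Blk B → k ≤ (B ∩ Δ).card → x ∈ B → ∀ y, y ∉ Δ → y ∈ B := by
    intro B hB hc hxB y hy
    obtain ⟨g, g1, g2⟩ := hΔ x y hx hy
    have := S.smul_eq hB inter_subset_left hc (g := g) fun z hz => by
      rw [g1 z (mem_inter.1 hz).2]; exact (mem_inter.1 hz).1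
    rw [← this, ← g2]
    exact smul_mem_smul_finset hxB
  have hxY : x ∉ Y := fun h => hx (hY h)
  have hcard : ∀ z, z ∉ Y → z ≠ x → (insert z (insert x Y)).card = k := by
    intro z h h'
    rw [card_insert_of_notMem (by simp [h, h']), card_insert_of_notMem hxY]; omega
  have hb : ∀ B, Blk B → insert x Y ⊆ B → (B ∩ Δ).card < k := by
    intro B hB hs
    by_contra hc
    have hall := ha B hB (not_lt.1 hc) (hs (mem_insert_self _ _))
    obtain ⟨z, hz⟩ : (Bᶜ).Nonempty := card_pos.1 (by rw [card_compl, S.card hB]; have := S.le; omega)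
    rw [mem_compl] at hz
    obtain ⟨B', hB', hs'⟩ := S.ex _ (hcard z (fun h => hz (hs (mem_insert_of_mem h)))
      (fun h => hz (hs (h ▸ mem_insert_self _ _))))
    have hno : ∀ y, y ∉ Δ → y ≠ x → y ∉ B' := by
      intro y hy hyx hyB
      have : B = B' := S.same (X := insert y (insert x Y)) hB hB' (insert_subset (hall y hy) hs)
        (insert_subset hyB ((subset_insert _ _).trans hs')) (hcard y (fun h => hy (hY h)) hyx).ge
      exact hz (this ▸ hs' (mem_insert_self _ _))
    refine hno x' hx' hxx.symm (ha B' hB' ?_ (hs' (by simp)) x' hx')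
    have : B'.erase x ⊆ B' ∩ Δ := by
      intro y hy
      rw [mem_erase] at hy
      refine mem_inter.2 ⟨hy.2, ?_⟩
      by_contra c
      exact hno y c hy.1 hy.2
    have h3 := card_le_card this
    have h4 := pred_card_le_card_erase (s := B') (a := x)
    rw [S.card hB'] at h4
    omega
  have hex : ∀ z, z ∈ Δ \ Y → ∃ B, Blk B ∧ insert z (insert x Y) ⊆ B := fun z hz =>
    S.ex _ (hcard z (mem_sdiff.1 hz).2 fun h => hx (h ▸ (mem_sdiff.1 hz).1))
  choose! B hB hBs using hex
  have hW : ∀ z ∈ Δ \ Y, l - k ≤ ((B z \ Δ).erase x).card := by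
    intro z hz
    have a1 := hb _ (hB z hz) ((subset_insert _ _).trans (hBs z hz))
    have a2 := card_sdiff_add_card_inter (B z) Δ
    have a3 := pred_card_le_card_erase (s := B z \ Δ) (a := x)
    rw [S.card (hB z hz)] at a2
    omega
  have hdis : ((Δ \ Y : Finset Ω) : Set Ω).PairwiseDisjoint fun z => (B z \ Δ).erase x := by
    intro z hz z' hz' hne
    rw [Function.onFun, disjoint_left]
    intro w hw hw'
    simp only [mem_erase, mem_sdiff] at hw hw'
    have e : B z = B z' := S.same (X := insert w (insert x Y)) (hB z hz) (hB z' hz')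
      (insert_subset hw.2.1 ((subset_insert _ _).trans (hBs z hz)))
      (insert_subset hw'.2.1 ((subset_insert _ _).trans (hBs z' hz')))
      (hcard w (fun h => hw.2.2 (hY h)) hw.1).ge
    have a1 := hb _ (hB z hz) ((subset_insert _ _).trans (hBs z hz))
    have hz1 := mem_sdiff.1 (mem_coe.1 hz)
    have hz2 := mem_sdiff.1 (mem_coe.1 hz')
    have a2 : insert z (insert z' Y) ⊆ B z ∩ Δ := by
      refine subset_inter (insert_subset (hBs z hz (by simp)) (insert_subset ?_ ?_))
        (insert_subset hz1.1 (insert_subset hz2.1 hY))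
      · rw [e]; exact hBs z' hz' (by simp)
      · exact ((subset_insert _ _).trans (subset_insert _ _)).trans (hBs z hz)
    have a3 := card_le_card a2
    rw [card_insert_of_notMem (by simp [hne, hz1.2]), card_insert_of_notMem hz2.2] at a3
    omega
  have h3 := card_biUnion hdis
  have h4 : (Δ \ Y).biUnion (fun z => (B z \ Δ).erase x) ⊆ (Δᶜ).erase x := by
    intro w hw
    obtain ⟨z, -, hw⟩ := mem_biUnion.1 hw
    simp only [mem_erase, mem_sdiff, mem_compl] at hw ⊢
    exact ⟨hw.1, hw.2.2⟩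
  have h5 := card_le_card h4
  rw [card_erase_of_mem (mem_compl.2 hx), card_compl, h3] at h5
  have h6 := card_nsmul_le_sum _ _ _ hW
  rw [card_sdiff_of_subset hY, hYc, smul_eq_mul, show Δ.card - (k - 2) = Δ.card - k + 2 by omega]
    at h6
  omega

theorem exchange [Finite G] {X X' B B' : Finset Ω} (hX : X.card = k) (hX' : X'.card = k)
    (hB : Blk B) (hB' : Blk B') (hs : X ⊆ B) (hs' : X' ⊆ B') {x x' : Ω} (hx : x ∉ B) (hx' : x' ∉ B')
    (h : ∀ g : G, (∀ z ∈ insert x X, g • z = z) → ∀ z ∈ insert x' X', g • z = z)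
    (g : G) (hg : ∀ z ∈ insert x' X', g • z = z) : ∀ z ∈ insert x X, g • z = z := by
  obtain ⟨a, ha⟩ := exists_map_into S.trans hX hX'.ge
  have hBB : a • B = B' := by
    refine S.same (X := a • X) (S.smul hB a) hB' (smul_finset_subset_smul_finset hs) ?_
      (by rw [card_smul_finset, hX])
    rw [smul_eq_of_mapsTo ha (by omega)]; exact hs'
  obtain ⟨b, b1, b2⟩ := S.jc hB' (a • x) x' (by rw [← hBB, smul_mem_smul_finset_iff]; exact hx) hx'
  have hc : ∀ z ∈ insert x X, (b * a) • z ∈ insert x' X' := by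
    intro z hz
    rcases mem_insert.1 hz with rfl | hz
    · rw [mul_smul, b2]; exact mem_insert_self _ _
    · rw [mul_smul, b1 _ (hs' (ha z hz))]; exact mem_insert_of_mem (ha z hz)
  set K := fixingSubgroup G ((insert x X : Finset Ω) : Set Ω)
  set K' := fixingSubgroup G ((insert x' X' : Finset Ω) : Set Ω)
  have hle : K ≤ K' := fun g hg => (mem_fixingSubgroup_iff G).2
    (h g ((mem_fixingSubgroup_iff G).1 hg))
  have hcard : Nat.card K' ≤ Nat.card K := by
    refine Nat.card_le_card_of_injective (fun g : K' => (⟨(b * a)⁻¹ * g * (b * a),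
      (mem_fixingSubgroup_iff G).2 fun z hz => ?_⟩ : K)) ?_
    · rw [mul_smul, mul_smul, (mem_fixingSubgroup_iff G).1 g.2 _ (hc z hz), inv_smul_smul]
    · intro g g' e
      simpa using e
  have := Subgroup.eq_of_le_of_card_ge hle hcard
  exact (mem_fixingSubgroup_iff G).1 (this ▸ (mem_fixingSubgroup_iff G).2 hg : g ∈ K)

set_option maxHeartbeats 3000000 in
theorem false_of_succ [Finite G] (hl : l = k + 1) (hk : 4 ≤ k) : False := by
  have ext_pt : ∀ X : Finset Ω, X.card = k → ∃ p, p ∉ X ∧ Blk (insert p X) := by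
    intro X hX
    obtain ⟨B, hB, hs⟩ := S.ex X hX
    obtain ⟨p, hp⟩ : (B \ X).Nonempty := card_pos.1 (by
      rw [card_sdiff_of_subset hs, S.card hB]; omega)
    rw [mem_sdiff] at hp
    refine ⟨p, hp.2, ?_⟩
    rwa [eq_of_subset_of_card_le (insert_subset hp.1 hs)
      (by rw [card_insert_of_notMem hp.2, S.card hB]; omega)]
  have fix_pt : ∀ (X : Finset Ω) (p : Ω), X.card = k → p ∉ X → Blk (insert p X) → ∀ g : G,
      (∀ z ∈ X, g • z ∈ X) → g • p = p := by
    intro X p hX hp hB g hg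
    have h1 := S.smul_eq hB (subset_insert _ _) hX.ge (g := g) fun z hz => mem_insert_of_mem (hg z hz)
    have h2 : g • p ∈ insert p X := h1 ▸ smul_mem_smul_finset (mem_insert_self _ _)
    rcases mem_insert.1 h2 with h | h
    · exact h
    · rw [← smul_eq_of_mapsTo hg le_rfl, smul_mem_smul_finset_iff] at h
      exact absurd h hp
  obtain ⟨X, -, hX⟩ := exists_subset_card_eq (s := (univ : Finset Ω)) (n := k)
    (by have := S.le; rw [card_univ]; omega)
  obtain ⟨e, he, hB⟩ := ext_pt X hX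
  obtain ⟨j, rfl⟩ : ∃ j, k = j + 1 + 1 + 1 + 1 := ⟨k - 4, by omega⟩
  obtain ⟨d, X3, hd, rfl, h3⟩ := card_eq_succ.1 hX
  obtain ⟨c, X2, hc, rfl, h2⟩ := card_eq_succ.1 h3
  obtain ⟨b, X1, hb, rfl, h1⟩ := card_eq_succ.1 h2
  obtain ⟨a, Y, ha, rfl, hY⟩ := card_eq_succ.1 h1
  obtain ⟨x, hx⟩ : ((insert e (insert d (insert c (insert b (insert a Y)))))ᶜ).Nonempty :=
    card_pos.1 (by rw [card_compl, S.card hB]; have := S.le; omega)
  rw [mem_compl] at hx
  have hx0 := hx
  simp only [mem_insert, not_or] at hx he hd hc hb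
  obtain ⟨hxe, hxd, hxc, hxb, hxa, hxY⟩ := hx
  obtain ⟨hed, hec, heb, hea, heY⟩ := he
  obtain ⟨hdc, hdb, hda, hdY⟩ := hd
  obtain ⟨hcb, hca, hcY⟩ := hc
  obtain ⟨hba, hbY⟩ := hb
  have c4 : ∀ p q r s : Ω, p ∉ Y → q ∉ Y → r ∉ Y → s ∉ Y → p ≠ q → p ≠ r → p ≠ s → q ≠ r → q ≠ s →
      r ≠ s → (insert p (insert q (insert r (insert s Y)))).card = j + 1 + 1 + 1 + 1 := by
    intro p q r s _ _ _ _ _ _ _ _ _ _
    rw [card_insert_of_notMem (by simp [*]), card_insert_of_notMem (by simp [*]),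
      card_insert_of_notMem (by simp [*]), card_insert_of_notMem (by simp [*]), hY]
  -- the element `τ`
  obtain ⟨g, hg⟩ := H16.mtrans_finset_eq S.trans _ hX (Equiv.swap a b)
    (Equiv.swap a b).injective.injOn
  have hsw : ∀ z, z ≠ a → z ≠ b → Equiv.swap a b z = z := fun z => Equiv.swap_apply_of_ne_of_ne
  have hYa : ∀ z ∈ Y, z ≠ a := fun z hz e => ha (e ▸ hz)
  have hYb : ∀ z ∈ Y, z ≠ b := fun z hz e => hbY (e ▸ hz)
  have hga : g • a = b := by rw [hg a (by simp), Equiv.swap_apply_left]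
  have hgb : g • b = a := by rw [hg b (by simp), Equiv.swap_apply_right]
  have hgc : g • c = c := by rw [hg c (by simp), hsw c hca hcb]
  have hgd : g • d = d := by rw [hg d (by simp), hsw d hda hdb]
  have hgY : ∀ z ∈ Y, g • z = z := fun z hz => by rw [hg z (by simp [hz]), hsw z (hYa z hz) (hYb z hz)]
  have hgX : ∀ z ∈ insert d (insert c (insert b (insert a Y))),
      g • z ∈ insert d (insert c (insert b (insert a Y))) := by
    intro z hz
    simp only [mem_insert] at hz
    rcases hz with rfl | rfl | rfl | rfl | hz <;> simp [*]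
  have hge : g • e = e := fix_pt _ e hX (by simp [*]) hB g hgX
  have hgB := S.smul_eq hB (subset_insert _ _) hX.ge (g := g) fun z hz => mem_insert_of_mem (hgX z hz)
  obtain ⟨h, hh1, hh2⟩ := S.jc hB (g • x) x (by rw [← hgB, smul_mem_smul_finset_iff]; exact hx0) hx0
  have ta : (h * g) • a = b := by rw [mul_smul, hga, hh1 b (by simp)]
  have tb : (h * g) • b = a := by rw [mul_smul, hgb, hh1 a (by simp)]
  have tc : (h * g) • c = c := by rw [mul_smul, hgc, hh1 c (by simp)]
  have td : (h * g) • d = d := by rw [mul_smul, hgd, hh1 d (by simp)]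
  have te : (h * g) • e = e := by rw [mul_smul, hge, hh1 e (by simp)]
  have tx : (h * g) • x = x := by rw [mul_smul, hh2]
  have tY : ∀ z ∈ Y, (h * g) • z = z := fun z hz => by rw [mul_smul, hgY z hz, hh1 z (by simp [hz])]
  generalize h * g = τ at ta tb tc td te tx tY
  have k3 := c4 x e d c hxY heY hdY hcY hxe hxd hxc hed hec hdc
  obtain ⟨x', hx', hB3⟩ := ext_pt _ k3
  -- a fixed point `y` of `τ` outside the third block
  have main : ∀ u : Ω, (u = c ∨ u = d) → ∃ y, y ∉ insert x (insert u (insert b (insert a Y))) ∧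
      Blk (insert y (insert x (insert u (insert b (insert a Y))))) ∧ (y ≠ x' → False) := by
    intro u hu
    have huY : u ∉ Y := by rcases hu with rfl | rfl <;> assumption
    have hxu : x ≠ u := by rcases hu with rfl | rfl <;> assumption
    have hub : u ≠ b := by rcases hu with rfl | rfl <;> assumption
    have hua : u ≠ a := by rcases hu with rfl | rfl <;> assumption
    have tu : τ • u = u := by rcases hu with rfl | rfl <;> assumption
    have k1 := c4 x u b a hxY huY hbY ha hxu hxb hxa hub hua hba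
    obtain ⟨y, hy, hB1⟩ := ext_pt _ k1
    refine ⟨y, hy, hB1, fun hyx' => ?_⟩
    have hyB : y ∉ insert e (insert d (insert c (insert b (insert a Y)))) := by
      intro hyB
      have hy' := hy
      simp only [mem_insert, not_or] at hy'
      have := S.same (X := insert y (insert u (insert b (insert a Y)))) hB1 hB
        (insert_subset_insert _ (subset_insert _ _))
        (insert_subset hyB (by rcases hu with rfl | rfl <;> intro z <;> simp +contextual <;> tauto))
        (c4 y u b a hy'.2.2.2.2 huY hbY ha hy'.2.1 hy'.2.2.1 hy'.2.2.2.1 hub hua hba).ge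
      exact hx0 (this ▸ by simp)
    have hy3 : y ∉ insert x' (insert x (insert e (insert d (insert c Y)))) := by
      simp only [mem_insert, not_or] at hyB hy ⊢
      tauto
    have fy : ∀ σ : G, (∀ z ∈ insert x (insert u (insert b (insert a Y))),
        σ • z ∈ insert x (insert u (insert b (insert a Y)))) → σ • y = y :=
      fix_pt _ y k1 hy hB1
    have := S.exchange hX k3 hB hB3 (subset_insert _ _) (subset_insert _ _) hx0 hy3 ?_ τ ?_ a (by simp)
    · exact hba (ta.symm.trans this)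
    · intro σ hσ z hz
      have se : σ • e = e := fix_pt _ e hX (by simp [*]) hB σ fun z hz => by
        rw [hσ z (mem_insert_of_mem hz)]; exact hz
      simp only [mem_insert] at hz
      rcases hz with rfl | rfl | rfl | rfl | rfl | hz
      · apply fy
        intro z hz
        rw [hσ z]
        · exact hz
        · simp only [mem_insert] at hz ⊢
          rcases hu with rfl | rfl <;> tauto
      · exact hσ _ (by simp)
      · exact se
      · exact hσ _ (by simp)
      · exact hσ _ (by simp)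
      · exact hσ _ (by simp [hz])
    · intro z hz
      simp only [mem_insert] at hz
      rcases hz with rfl | rfl | rfl | rfl | rfl | hz
      · apply fy
        intro z hz
        simp only [mem_insert] at hz
        rcases hz with rfl | rfl | rfl | rfl | hz
        · simp [tx]
        · simp [tu]
        · simp [tb]
        · simp [ta]
        · simp [tY z hz, hz]
      · exact tx
      · exact te
      · exact td
      · exact tc
      · exact tY z hz
  obtain ⟨y, hy, hB1, e1⟩ := main c (Or.inl rfl)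
  obtain ⟨y', hy', hB2, e2⟩ := main d (Or.inr rfl)
  obtain rfl : y = x' := by by_contra h; exact e1 h
  obtain rfl : y' = y := by by_contra h; exact e2 h
  have hy0 := hy
  simp only [mem_insert, not_or] at hy0
  have e3 := S.same (X := insert y' (insert x (insert b (insert a Y)))) hB1 hB2
    (by intro z; simp +contextual; tauto) (by intro z; simp +contextual; tauto)
    (c4 y' x b a hy0.2.2.2.2 hxY hbY ha hy0.1 hy0.2.2.1 hy0.2.2.2.1 hxb hxa hba).ge
  have hdm : d ∈ insert y' (insert x (insert c (insert b (insert a Y)))) := e3 ▸ by simp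
  simp only [mem_insert, not_or] at hdm hy'
  rcases hdm with h | h | h | h | h | h
  · exact hy'.2.1 h.symm
  · exact hxd h.symm
  · exact hdc h
  · exact hdb h
  · exact hda h
  · exact hdY h

end Stn

omit [DecidableEq Ω] [Fintype Ω] in
theorem prim_range [IsPreprimitive G Ω] : IsPreprimitive (toPermHom G Ω).range Ω :=
  IsPreprimitive.of_surjective (φ := (toPermHom G Ω).rangeRestrict)
    (f := ⟨id, fun _ _ => rfl⟩) Function.surjective_id

theorem two_trans_of_jc [h : IsPreprimitive G Ω] {Δ : Finset Ω} (hΔ : JC G Δ) (h1 : 1 ≤ Δ.card)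
    (h2 : Δ.card + 2 ≤ Fintype.card Ω) : IsMultiplyPretransitive G Ω 2 := by
  refine h.is_two_pretransitive (s := (Δ : Set Ω)) (n := Δ.card - 1)
    (by rw [Set.ncard_coe_finset]; omega) (by rw [Nat.card_eq_fintype_card]; omega) ⟨?_⟩
  rintro ⟨x, hx⟩ ⟨y, hy⟩
  obtain ⟨g, g1, g2⟩ := hΔ x y hx hy
  exact ⟨⟨g, (mem_fixingSubgroup_iff G).2 g1⟩, Subtype.ext g2⟩

/-- Marggraf: a primitive group with a Jordan set of at most half the degree is 3-transitive. -/
theorem three_trans_of_jc [IsPreprimitive G Ω] {Δ : Finset Ω} (hΔ : JC G Δ)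
    (h1 : Fintype.card Ω ≤ 2 * Δ.card) (h2 : Δ.card + 2 ≤ Fintype.card Ω) :
    IsMultiplyPretransitive G Ω 3 := by
  by_contra h3
  obtain ⟨l, Blk, S⟩ := exists_stn le_rfl (two_trans_of_jc hΔ (by omega) h2) h3 hΔ (by omega) h2
  have a1 := S.count hΔ (by omega) h2
  have a2 := S.lt
  have a3 : (Δ.card - 2 + 2) * 1 ≤ (Δ.card - 2 + 2) * (l - 2) := Nat.mul_le_mul_left _ (by omega)
  omega

/-- Marggraf: a primitive group with a Jordan set of less than half the degree contains the
alternating group. -/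
theorem alt_le_of_jc [Finite G] [IsPreprimitive G Ω] {Δ : Finset Ω} (hΔ : JC G Δ)
    (h1 : Fintype.card Ω < 2 * Δ.card) (h2 : Δ.card + 2 ≤ Fintype.card Ω) :
    alternatingGroup Ω ≤ (toPermHom G Ω).range := by
  classical
  by_contra hA
  have h2t := two_trans_of_jc hΔ (by omega) h2
  set k := Nat.findGreatest (fun k => IsMultiplyPretransitive G Ω k) (Fintype.card Ω) with hk
  have hk2 : 2 ≤ k := Nat.le_findGreatest (by omega) h2t
  have hkn : k ≤ Fintype.card Ω := Nat.findGreatest_le _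
  have hkt : IsMultiplyPretransitive G Ω k :=
    Nat.findGreatest_spec (P := fun k => IsMultiplyPretransitive G Ω k) (m := 2) (by omega) h2t
  have hm : 2 * k - 2 ≤ Fintype.card Ω - Δ.card := by
    by_contra hlt
    obtain ⟨x, hx, y, hy, hxy⟩ : ∃ x ∈ Δᶜ, ∃ y ∈ Δᶜ, x ≠ y :=
      one_lt_card.1 (by rw [card_compl]; omega)
    obtain ⟨g, g1, g2⟩ := hΔ x y (mem_compl.1 hx) (mem_compl.1 hy)
    refine hA (H16.alt_le_of_small_support hk2 hkn (H16.mtrans_range_iff.2 hkt)
      (g := toPermHom G Ω g) ⟨g, rfl⟩ ?_ ?_)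
    · intro e
      have : g • x = x := congrArg (fun σ : Equiv.Perm Ω => σ x) e
      exact hxy (this.symm.trans g2)
    · have : (toPermHom G Ω g).support ⊆ Δᶜ := by
        intro z hz
        rw [Equiv.Perm.mem_support] at hz
        exact mem_compl.2 fun h => hz (g1 z h)
      have := card_le_card this
      rw [card_compl] at this
      omega
  have hk' : ¬ IsMultiplyPretransitive G Ω (k + 1) :=
    Nat.findGreatest_is_greatest (P := fun k => IsMultiplyPretransitive G Ω k) (k := k + 1)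
      (n := Fintype.card Ω) (by omega) (by omega)
  obtain ⟨l, Blk, S⟩ := exists_stn hk2 hkt hk' hΔ (by omega) h2
  have a1 := S.count hΔ (by omega) h2
  have a2 := S.lt
  by_cases hl : l = k + 1
  · refine S.false_of_succ hl ?_
    rw [hl, show k + 1 - k = 1 by omega] at a1
    omega
  · have a3 : (Δ.card - k + 2) * 2 ≤ (Δ.card - k + 2) * (l - k) := Nat.mul_le_mul_left _ (by omega)
    omega

section Quasi

omit [DecidableEq Ω] [Fintype Ω] in
theorem exists_quot (hqp : ∀ N : Subgroup G, N.Normal → N ≠ ⊥ → IsPretransitive N Ω)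
    [Finite G] [IsPretransitive G Ω] [Nontrivial Ω] (hnp : ¬ IsPreprimitive G Ω) :
    ∃ M : Subgroup G, IsCoatom M ∧ ∃ π : Ω → G ⧸ M, Function.Surjective π ∧
      (∀ (g : G) x, π (g • x) = g • π x) ∧ (∀ g : G, (∀ q : G ⧸ M, g • q = q) → g = 1) ∧
      ∀ x, ∃ y, y ≠ x ∧ π y = π x := by
  obtain ⟨a, b, hab⟩ := exists_pair_ne Ω
  have h1 : stabilizer G a ≠ ⊤ := by
    intro h
    obtain ⟨g, hg⟩ := exists_smul_eq G a b
    have : g ∈ stabilizer G a := h ▸ Subgroup.mem_top g
    exact hab (this.symm.trans hg)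
  have h2 : ¬ IsCoatom (stabilizer G a) := by rwa [isCoatom_stabilizer_iff_preprimitive]
  obtain ⟨M, hM, hle⟩ := (eq_top_or_exists_le_coatom (stabilizer G a)).resolve_left h1
  choose t ht using fun x => exists_smul_eq G a x
  have key : ∀ (g : G) x, g • a = x → (t x : G ⧸ M) = (g : G ⧸ M) := by
    intro g x h
    rw [QuotientGroup.eq]
    apply hle
    rw [mem_stabilizer_iff, mul_smul, h, inv_smul_eq_iff, ht]
  refine ⟨M, hM, fun x => (t x : G ⧸ M), ?_, ?_, ?_, ?_⟩
  · intro q
    obtain ⟨g, rfl⟩ := QuotientGroup.mk_surjective q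
    exact ⟨g • a, key g _ rfl⟩
  · intro g x
    exact key (g * t x) _ (by rw [mul_smul, ht])
  · intro g hg
    have hg' : g ∈ M.normalCore := by
      rw [Subgroup.normalCore_eq_ker]
      exact Equiv.ext hg
    by_contra hne
    have := hqp M.normalCore inferInstance (fun h => hne (by rwa [h] at hg'))
    exact hM.1 (top_le_iff.1 ((H16.sup_stabilizer_eq_top M.normalCore a).ge.trans
      (sup_le M.normalCore_le hle)))
  · intro x
    obtain ⟨m, hm, hm'⟩ := SetLike.exists_of_lt (lt_of_le_of_ne hle fun h => h2 (h ▸ hM))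
    refine ⟨(t x * m) • a, fun h => hm' ?_, ?_⟩
    · rw [mul_smul] at h
      exact smul_left_cancel (t x) (h.trans (ht x).symm)
    · refine (key _ _ rfl).trans ?_
      rw [eq_comm, QuotientGroup.eq]
      simpa using hm

omit [DecidableEq Ω] [Fintype Ω] in
theorem exists_two_fibres {Q : Type*} [MulAction G Q] {π : Ω → Q}
    (hπ : ∀ (g : G) x, π (g • x) = g • π x) (hs : Function.Surjective π)
    (hf : ∀ g : G, (∀ q : Q, g • q = q) → g = 1) {Δ : Finset Ω} (hΔ : JC G Δ) {x y : Ω} (hx : x ∉ Δ)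
    (hy : y ∉ Δ) (hxy : x ≠ y) : ∃ z, z ∉ Δ ∧ π z ≠ π x := by
  by_contra h
  push Not at h
  obtain ⟨g, g1, g2⟩ := hΔ x y hx hy
  have : g = 1 := by
    apply hf
    intro q
    obtain ⟨z, rfl⟩ := hs q
    rw [← hπ]
    by_cases hz : z ∈ Δ
    · rw [g1 z hz]
    · rw [h z hz, h]
      intro hz'
      exact hz (smul_left_cancel g (g1 _ hz') ▸ hz')
  rw [this, one_smul] at g2
  exact hxy g2

omit [DecidableEq Ω] [Fintype Ω] in
theorem not_mem_of_fibre {Q : Type*} [MulAction G Q] {π : Ω → Q}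
    (hπ : ∀ (g : G) x, π (g • x) = g • π x) {Δ : Finset Ω} (hΔ : JC G Δ) {x z : Ω} (hx : x ∉ Δ)
    (hz : z ∉ Δ) (hxz : π z ≠ π x) {u v : Ω} (hu : u ∉ Δ) (h : π v = π u) : v ∉ Δ := by
  intro hv
  have : ∀ w, w ∉ Δ → π w = π v := by
    intro w hw
    obtain ⟨g, g1, g2⟩ := hΔ u w hu hw
    rw [← g2, hπ, ← h, ← hπ, g1 v hv]
  exact hxz ((this z hz).trans (this x hx).symm)

omit [DecidableEq Ω] [Fintype Ω] in
theorem trans_of_qp (hqp : ∀ N : Subgroup G, N.Normal → N ≠ ⊥ → IsPretransitive N Ω)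
    {Δ : Finset Ω} (hΔ : JC G Δ) {x y : Ω} (hx : x ∉ Δ) (hy : y ∉ Δ) (hxy : x ≠ y) :
    IsPretransitive G Ω := by
  obtain ⟨g, -, g2⟩ := hΔ x y hx hy
  have := hqp ⊤ inferInstance (fun h => by
    have : g ∈ (⊥ : Subgroup G) := h ▸ Subgroup.mem_top g
    rw [Subgroup.mem_bot.1 this, one_smul] at g2
    exact hxy g2)
  exact ⟨fun a b => by obtain ⟨g, hg⟩ := this.exists_smul_eq a b; exact ⟨g, hg⟩⟩

/-- A quasiprimitive group with a small Jordan set is primitive. -/
theorem prim_of_qp_jc [Finite G] (hqp : ∀ N : Subgroup G, N.Normal → N ≠ ⊥ → IsPretransitive N Ω)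
    {Δ : Finset Ω} (hΔ : JC G Δ) (h1 : Fintype.card Ω < 2 * Δ.card)
    (h2 : Δ.card + 2 ≤ Fintype.card Ω) : IsPreprimitive G Ω := by
  classical
  by_contra hnp
  obtain ⟨x, hx, y, hy, hxy⟩ : ∃ x ∈ Δᶜ, ∃ y ∈ Δᶜ, x ≠ y :=
    one_lt_card.1 (by rw [card_compl]; omega)
  rw [mem_compl] at hx hy
  have := trans_of_qp hqp hΔ hx hy hxy
  have : Nontrivial Ω := ⟨x, y, hxy⟩
  obtain ⟨M, hM, π, hs, hπ, hf, hfib⟩ := exists_quot hqp hnp
  obtain ⟨z, hz, hxz⟩ := exists_two_fibres hπ hs hf hΔ hx hy hxy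
  have hsat : ∀ u, π u ∈ Δ.image π ↔ u ∈ Δ := by
    intro u
    refine ⟨fun h => ?_, mem_image_of_mem π⟩
    obtain ⟨v, hv, e⟩ := mem_image.1 h
    by_contra hu
    exact not_mem_of_fibre hπ hΔ hx hz hxz hu e hv
  have := Fintype.ofFinite (G ⧸ M)
  have : Nontrivial (G ⧸ M) := ⟨π z, π x, hxz⟩
  have hprim : IsPreprimitive G (G ⧸ M) := by
    rw [← isCoatom_stabilizer_iff_preprimitive G ((1 : G) : G ⧸ M), stabilizer_quotient]
    exact hM
  have hJ : JC G (Δ.image π) := by
    intro q q' hq hq'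
    obtain ⟨u, rfl⟩ := hs q
    obtain ⟨u', rfl⟩ := hs q'
    obtain ⟨g, g1, g2⟩ := hΔ u u' (mt (hsat u).2 hq) (mt (hsat u').2 hq')
    refine ⟨g, fun q hq => ?_, by rw [← hπ, g2]⟩
    obtain ⟨v, hv, rfl⟩ := mem_image.1 hq
    rw [← hπ, g1 v hv]
  set b := (univ.filter fun u => π u = π x).card with hb
  have hfb : ∀ q, (univ.filter fun u => π u = q).card = b := by
    intro q
    obtain ⟨g, rfl⟩ := exists_smul_eq G (π x) q
    rw [hb, ← card_smul_finset g (univ.filter fun u => π u = π x)]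
    congr 1
    ext u
    rw [← inv_smul_mem_iff]
    simp [hπ, inv_smul_eq_iff]
  have c1 : Fintype.card Ω = Fintype.card (G ⧸ M) * b := by
    rw [← card_univ, card_eq_sum_card_fiberwise (f := π) (t := univ) (by simp)]
    simp [hfb]
  have c2 : Δ.card = (Δ.image π).card * b := by
    rw [card_eq_sum_card_fiberwise (f := π) (t := Δ.image π) (fun u hu => mem_image_of_mem π hu),
      ← smul_eq_mul, ← sum_const]
    refine sum_congr rfl fun q hq => ?_
    rw [← hfb q]
    congr 1
    ext u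
    simp only [mem_filter, mem_univ, true_and, and_iff_right_iff_imp]
    rintro rfl
    exact (hsat u).1 hq
  have c3 : Fintype.card (G ⧸ M) < 2 * (Δ.image π).card := by
    rw [c1, c2, ← mul_assoc] at h1
    exact lt_of_mul_lt_mul_right h1 (Nat.zero_le _)
  have c4 : 2 ≤ (Δ.image π)ᶜ.card :=
    one_lt_card.2 ⟨π z, mem_compl.2 (mt (hsat z).1 hz), π x, mem_compl.2 (mt (hsat x).1 hx), hxz⟩
  have c5 := card_compl (Δ.image π)
  have c6 := card_le_univ (Δ.image π)
  have hA := alt_le_of_jc hJ c3 (by omega)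
  have ht : IsMultiplyPretransitive G (G ⧸ M) ((Δ.image π)ᶜ.card) := by
    have := H16.mtrans_range_iff.1
      (H16.mtrans_of_le hA (alternatingGroup.isMultiplyPretransitive (G ⧸ M)))
    rw [Nat.card_eq_fintype_card] at this
    exact H16.mtrans_mono this (by omega) (by rw [Nat.card_eq_fintype_card]; omega)
  obtain ⟨T, hT, hTc⟩ := exists_subset_card_eq (s := Δ.image π) (n := (Δ.image π)ᶜ.card - 1)
    (by omega)
  have hxT : π x ∉ T := fun h => hx ((hsat x).1 (hT h))
  have c7 : (insert (π x) T).card = (Δ.image π)ᶜ.card := by rw [card_insert_of_notMem hxT]; omega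
  obtain ⟨g, hg⟩ := exists_map_into ht rfl c7.ge
  have hgT := smul_eq_of_mapsTo hg c7.le
  have hmem : ∀ u, u ∉ g • Δ ↔ π u ∈ insert (π x) T := by
    intro u
    rw [← hgT, ← inv_smul_mem_iff, ← inv_smul_mem_iff, mem_compl, ← hπ, hsat]
  obtain ⟨x', hx', hxx'⟩ := hfib x
  obtain ⟨j, j1, j2⟩ := hΔ x x' hx (not_mem_of_fibre hπ hΔ hx hz hxz hx hxx')
  obtain ⟨q, hq⟩ : T.Nonempty := card_pos.1 (by omega)
  obtain ⟨w, rfl⟩ := hs q
  obtain ⟨i, i1, i2⟩ := hΔ.smul g x w ((hmem x).2 (mem_insert_self _ _))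
    ((hmem w).2 (mem_insert_of_mem hq))
  have hj : ∀ q ∈ insert (π x) T, j • q = q := by
    intro q hq
    rcases mem_insert.1 hq with rfl | hq
    · rw [← hπ, j2, hxx']
    · obtain ⟨v, hv, rfl⟩ := mem_image.1 (hT hq)
      rw [← hπ, j1 v hv]
  have hi : ∀ q, q ∉ insert (π x) T → i • q = q := by
    intro q hq
    obtain ⟨v, rfl⟩ := hs q
    rw [← hπ, i1 v (by rwa [← hmem, not_not] at hq)]
  have hc : (j * i)⁻¹ * (i * j) = 1 := by
    apply hf
    intro q
    rw [mul_smul, inv_smul_eq_iff, mul_smul, mul_smul]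
    by_cases hq : q ∈ insert (π x) T
    · rw [hj q hq, hj]
      by_contra h
      exact h (by rw [smul_left_cancel i (hi _ h)]; exact hq)
    · rw [hi q hq, hi]
      intro h
      exact hq (smul_left_cancel j (hj _ h) ▸ h)
  have e : (i * j) • x = (j * i) • x := by rw [inv_mul_eq_one.1 hc]
  rw [mul_smul, mul_smul, j2, i2, j1 w ((hsat w).1 (hT hq)), ← i2] at e
  exact hx' (smul_left_cancel i e)

end Quasi

/-- Two elements whose supports meet in exactly one point force the alternating group. -/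
theorem alt_le_of_supp_inter [IsPreprimitive G Ω] {g h : G} {a : Ω} (hg : g • a ≠ a) (hh : h • a ≠ a)
    (hs : ∀ x, g • x ≠ x → h • x ≠ x → x = a) : alternatingGroup Ω ≤ (toPermHom G Ω).range := by
  refine H16.alt_le_of_support_le_three prim_range (h := toPermHom G Ω (g * h * g⁻¹ * h⁻¹))
    ⟨_, rfl⟩ ?_ ?_
  · intro e
    have e1 : (g * h * g⁻¹ * h⁻¹) • (h • g • a) = h • g • a :=
      congrArg (fun σ : Equiv.Perm Ω => σ (h • g • a)) e
    rw [mul_smul, inv_smul_smul, mul_smul, inv_smul_smul, mul_smul] at e1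
    have h1 : h • g • a = g • a := by
      by_contra c
      exact hg (hs _ (fun e => hg (smul_left_cancel g e)) c)
    rw [h1] at e1
    exact hh (smul_left_cancel g e1)
  · have : (toPermHom G Ω (g * h * g⁻¹ * h⁻¹)).support ⊆ {a, g • a, h • a} := by
      intro x hx
      rw [Equiv.Perm.mem_support] at hx
      by_contra hn
      simp only [mem_insert, mem_singleton, not_or] at hn
      apply hx
      change (g * h * g⁻¹ * h⁻¹) • x = x
      rw [mul_smul, mul_smul, mul_smul]
      by_cases c : h • x = x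
      · rw [inv_smul_eq_iff.2 c.symm]
        have : h • g⁻¹ • x = g⁻¹ • x := by
          by_contra c'
          by_cases d : g • g⁻¹ • x = g⁻¹ • x
          · rw [smul_inv_smul] at d
            exact c' (by rw [← d, c])
          · exact hn.2.1 (inv_smul_eq_iff.1 (hs _ d c'))
        rw [this, smul_inv_smul]
      · have d : g • x = x := by
          by_contra d
          exact hn.1 (hs x d c)
        have d' : g • h⁻¹ • x = h⁻¹ • x := by
          by_contra d'
          refine hn.2.2 (inv_smul_eq_iff.1 (hs _ d' fun e => c ?_))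
          rw [smul_inv_smul] at e
          exact (inv_smul_eq_iff.1 e.symm).symm
        rw [inv_smul_eq_iff.2 d'.symm, smul_inv_smul, d]
    exact (card_le_card this).trans card_le_three

end Cfsg.Agent.H1
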