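import Cfsg.Agent.H1.Prim
import Cfsg.Agent.FT.Main

/-! The theorem of Kegel and Wielandt: a product of two nilpotent groups is solvable. -/

set_option autoImplicit false
set_option linter.unusedSectionVars false
set_option linter.style.haveILetI false

namespace Cfsg.Agent.H1

open Cfsg Subgroup Cfsg.Agent.FT
open scoped commutatorElement Pointwise

universe u

variable {G : Type*} [Group G] [Finite G] {π ρ : Set ℕ} {p q n d : ℕ}
  {A B A₀ B₀ C D E F H K L M N P Q R S T U V W X Y Z : Subgroup G} {g x y : G}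

/-- the hypotheses on a simple minimal counterexample -/
private structure KWS (π : Set ℕ) (A B : Subgroup G) : Prop where
  simple : ∀ N : Subgroup G, N ⊴ ⊤ → N = ⊥ ∨ N = ⊤
  nsol : ¬ Sol (⊤ : Subgroup G)
  mul : MulEq A B ⊤
  nilA : Nil A
  nilB : Nil B
  piA : PiGrp π A
  piB : PiGrp πᶜ B
  ih : ∀ X Y L : Subgroup G, L ≠ ⊤ → MulEq X Y L → Nil X → Nil Y → Sol L

private theorem KWS.symm (h : KWS π A B) : KWS πᶜ B A :=
  ⟨h.simple, h.nsol, h.mul.symm, h.nilB, h.nilA, h.piB, piGrp_compl_compl.2 h.piA, h.ih⟩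

private theorem KWS.cj (h : KWS π A B) (g : G) : KWS π (cj g A) B :=
  ⟨h.simple, h.nsol, mulEq_cj_left h.mul (mem_top g), h.nilA.cj g, h.nilB, h.piA.cj g, h.piB, h.ih⟩

private theorem KWS.hall (h : KWS π A B) : Hall π A ⊤ := h.mul.hall_left h.piA h.piB

private theorem KWS.nrm_ne (h : KWS π A B) (h1 : X ≠ ⊥) (h2 : X ≠ ⊤) : N(X) ≠ ⊤ := fun e =>
  (h.simple X ⟨le_top, e.ge⟩).elim h1 h2

private theorem KWS.nrm_ne_sol (h : KWS π A B) (h1 : X ≠ ⊥) (h2 : Sol X) : N(X) ≠ ⊤ :=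
  h.nrm_ne h1 fun e => h.nsol (e ▸ h2)

/-- Burnside: a factor is not a `p`-group -/
private theorem KWS.p'core_ne (h : KWS π A B) (hp : p.Prime) : O[{p}ᶜ](A) ≠ ⊥ := fun e => by
  have hA : PGrp p A := by simpa using (h.nilA.pcore_hall {p}ᶜ).eq_bot_iff.1 e
  have hB : B ≠ ⊥ := fun e => h.nsol (by rw [← h.mul.sup, e, sup_bot_eq]; exact h.nilA.sol)
  obtain ⟨z, hz, h1⟩ := exists_ne_one (h.nilB.center_ne_bot hB)
  haveI : Nontrivial G := ⟨z, 1, h1⟩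
  haveI : IsSimpleGroup G := ⟨fun N hN => h.simple N (nml_top_iff.2 hN)⟩
  have hd : C[z].relIndex ⊤ ∣ B.relIndex ⊤ := relIndex_dvd_of_le (le_cen1.2 hz.2) ⊤
  rw [h.mul.relIndex_right, relIndex_top_right] at hd
  obtain ⟨k, hk⟩ := ((hA.relIndex B).of_dvd hd).exists_pow index_ne_zero_of_finite
  exact h.nsol (sol_top.2 (Group.isSolvable_of_comm (H6.comm_of_simple_of_index_prime_pow hp h1 hk)))

private theorem KWS.hall_sup (h : KWS π A B) (hA : Hall ρ A₀ A) (h1 : A₀ ≠ ⊥) {σ : Set ℕ} (hB : Hall σ B₀ B)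
    (h2 : B₀ ≠ ⊥) : A₀ ⊔ B₀ = ⊤ := by
  by_contra hne
  have nA := h.nilA.hall_nml hA
  have nB := h.nilB.hall_nml hB
  have hm := mulEq_nrm_sup h.mul nA.nrm nB.nrm
  have lA : A₀ ≤ A ⊓ N(A₀ ⊔ B₀) := le_inf hA.le (norms_of_le le_sup_left)
  have lB : B₀ ≤ B ⊓ N(A₀ ⊔ B₀) := le_inf hB.le (norms_of_le le_sup_right)
  obtain ⟨S, hS⟩ := mulEq_hall_perm hm (h.ih _ _ _ (by
      rw [top_inf_eq]; exact h.nrm_ne (ne_bot_of_le le_sup_left h1) hne) hm (h.nilA.mono inf_le_left)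
      (h.nilB.mono inf_le_left)) (nA.mono lA inf_le_left) (nB.mono lB inf_le_left)
    ((hA.isHall.trans' h.hall.isHall).subl (lA.trans hm.left) le_top)
    ((hB.isHall.trans' h.symm.hall.isHall).subl (lB.trans hm.right) le_top)
  obtain ⟨N, hN, h3, h4⟩ := kegel_proper (A := A₀) (B := B₀) fun g => by
    obtain ⟨a, ha, b, hb, rfl⟩ := h.mul.mul g (mem_top g)
    have := hS.cj a
    rw [cj_of_mem_nrm (nA.nrm ha)] at this
    exact ⟨_, fun e => hne (hS.sup.trans (cj_eq_top.1 e)), by rwa [← cj_cj, cj_of_mem_nrm (nB.nrm hb)]⟩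
  obtain rfl := (h.simple N (nml_top_iff.2 hN)).resolve_right h3
  exact h4.elim (fun e => h1 (le_bot_iff.1 e)) fun e => h2 (le_bot_iff.1 e)

/-- a maximal proper join of normal subgroups of the factors -/
private structure KWM (A B A₀ B₀ : Subgroup G) : Prop where
  nA : A₀ ⊴ A
  nB : B₀ ⊴ B
  neA : A₀ ≠ ⊥
  neB : B₀ ≠ ⊥
  ne : A₀ ⊔ B₀ ≠ ⊤
  max : ∀ A₁ B₁, A₁ ⊴ A → B₁ ⊴ B → A₀ ≤ A₁ → B₀ ≤ B₁ → A₁ ⊔ B₁ ≠ ⊤ → A₁ ⊔ B₁ = A₀ ⊔ B₀

private theorem KWM.symm (h : KWM A B A₀ B₀) : KWM B A B₀ A₀ :=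
  ⟨h.nB, h.nA, h.neB, h.neA, by rw [sup_comm]; exact h.ne, fun B₁ A₁ h1 h2 h3 h4 h5 => by
    rw [sup_comm B₁, sup_comm B₀]; exact h.max A₁ B₁ h2 h1 h4 h3 (by rwa [sup_comm])⟩

private theorem KWS.hallL (h : KWS π A B) (m : KWM A B A₀ B₀) :
    Hall π (A ⊓ N(A₀ ⊔ B₀)) N(A₀ ⊔ B₀) ∧ Sol N(A₀ ⊔ B₀) := by
  have hm := mulEq_nrm_sup h.mul m.nA.nrm m.nB.nrm
  rw [top_inf_eq] at hm
  exact ⟨hm.hall_left (h.piA.inf_left _) (h.piB.inf_left _), h.ih _ _ _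
    (h.nrm_ne (ne_bot_of_le le_sup_left m.neA) m.ne) hm (h.nilA.mono inf_le_left) (h.nilB.mono inf_le_left)⟩

private theorem KWS.le_of_pcore (h : KWS π A B) (m : KWM A B A₀ B₀) (hp : p ∈ π) (h1 : O[{p}](N(A₀ ⊔ B₀)) ≠ ⊥) :
    O[{p}ᶜ](A) ≤ A₀ ⊔ B₀ := by
  have hO : O[{p}](N(A₀ ⊔ B₀)) ≤ A :=
    ((h.hallL m).1.ge_of_nml ((pcore_pi _ _).pi hp) (pcore_nml _ _)).trans inf_le_left
  have hn := (le_nrm (A₀ ⊔ B₀)).trans (pcore_nrm {p} _)
  have hc : O[{p}ᶜ](A) ≤ C(O[{p}](N(A₀ ⊔ B₀))) :=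
    centsC (h.nilA.cents_of_pi hO (pcore_le _ _) (pcore_pi _ _) (pcore_pi _ _))
  rw [← m.max (A₀ ⊔ O[{p}ᶜ](A)) B₀ (m.nA.sup (pcore_nml _ _)) m.nB le_sup_left le_rfl fun e =>
    h.nrm_ne_sol h1 (pcore_pi _ _).sol (top_le_iff.1 (e.ge.trans (sup_le (sup_le (le_sup_left.trans hn)
      (cents_norm hc)) (le_sup_right.trans hn))))]
  exact le_sup_right.trans le_sup_left

private theorem KWS.case (h : KWS π A B) (m : KWM A B A₀ B₀) (hp : p.Prime) (hπ : p ∈ π)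
    (h1 : O[{p}](N(A₀ ⊔ B₀)) ≠ ⊥) : False := by
  have l1 := h.le_of_pcore m hπ h1
  obtain ⟨hH, hs⟩ := h.hallL m
  by_cases h2 : ∃ q, q.Prime ∧ q ≠ p ∧ O[{q}](N(A₀ ⊔ B₀)) ≠ ⊥
  · obtain ⟨q, hq, hqp, h2⟩ := h2
    by_cases hqπ : q ∈ π
    · have l2 := h.le_of_pcore m hqπ h2
      have hA : A ≤ A₀ ⊔ B₀ := (h.nilA.dp_pcore {p}).sup.ge.trans
        (sup_le ((pcore_sub (by simpa using hqp) A).trans l2) l1)
      have := le_coreIn_of_mulEq h.mul hA m.nB.nrm le_sup_right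
      rcases h.simple _ (coreIn_nml (le_top : A₀ ⊔ B₀ ≤ ⊤)) with e | e
      · exact m.neB (eq_bot_of_le this e)
      · exact m.ne (top_le_iff.1 (e.ge.trans (coreIn_le _ _)))
    · have l2 := h.symm.le_of_pcore m.symm hqπ (by rwa [sup_comm])
      rw [sup_comm] at l2
      exact m.ne (top_le_iff.1 ((h.hall_sup (h.nilA.pcore_hall _) (h.p'core_ne hp) (h.nilB.pcore_hall _)
        (h.symm.p'core_ne hq)).ge.trans (sup_le l1 l2)))
  · push Not at h2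
    have hF : F(N(A₀ ⊔ B₀)) ≤ O[{p}](N(A₀ ⊔ B₀)) := fitting_le_of_forall_pcore fun q hq => by
      by_cases e : q = p
      · rw [e]
      · rw [h2 q hq e]; exact bot_le
    have hO : O[{p}](N(A₀ ⊔ B₀)) ≤ A :=
      (hH.ge_of_nml ((pcore_pi _ _).pi hπ) (pcore_nml _ _)).trans inf_le_left
    have hc : O[{p}ᶜ](A) ≤ C(O[{p}](N(A₀ ⊔ B₀))) :=
      centsC (h.nilA.cents_of_pi hO (pcore_le _ _) (pcore_pi _ _) (pcore_pi _ _))
    have := (le_inf (l1.trans (le_nrm _)) (hc.trans (cen_anti hF))).trans ((cent_sub_Fitting hs).trans hF)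
    exact h.p'core_ne hp (((pcore_pi _ _).mono this).eq_bot (pcore_pi _ _))

private theorem KWS.sup_eq (h : KWS π A B) (nA : A₀ ⊴ A) (nB : B₀ ⊴ B) (h1 : A₀ ≠ ⊥) (h2 : B₀ ≠ ⊥) :
    A₀ ⊔ B₀ = ⊤ := by
  by_contra hne
  obtain ⟨_, -, ⟨A₁, B₁, a1, a2, a3, a4, rfl, a5⟩, hmax⟩ := exists_max
    (fun H => ∃ A₁ B₁, A₁ ⊴ A ∧ B₁ ⊴ B ∧ A₁ ≠ ⊥ ∧ B₁ ≠ ⊥ ∧ H = A₁ ⊔ B₁ ∧ H ≠ ⊤) ⟨A₀, B₀, nA, nB, h1, h2, rfl, hne⟩
  have m : KWM A B A₁ B₁ := ⟨a1, a2, a3, a4, a5, fun A₂ B₂ b1 b2 b3 b4 b5 =>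
    hmax _ ⟨A₂, B₂, b1, b2, ne_bot_of_le b3 a3, ne_bot_of_le b4 a4, rfl, b5⟩ (sup_le_sup b3 b4)⟩
  obtain ⟨p, hp, h3⟩ := (h.hallL m).2.exists_pcore_ne_bot
    (ne_bot_of_le (le_sup_left.trans (le_nrm (A₁ ⊔ B₁))) a3)
  by_cases hπ : p ∈ π
  · exact h.case m hp hπ h3
  · exact h.symm.case m.symm hp hπ (by rwa [sup_comm])

private theorem conj_into_nil_hall (h : Hall π A ⊤) (hn : Nil A) (hE : PiGrp π E) : ∃ g, E ≤ cj g A := by
  obtain ⟨x, -, hx⟩ := H4.wielandt_nilpotent_hall E ⊤ A le_top le_top hn (PiNat.coprime hE h.idx)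
  exact ⟨x, hx⟩

private theorem KWS.not_even (h : KWS π A B) : ¬ 2 ∣ #B := fun hd => by
  have h2 : 2 ∉ π := h.piB.mem Nat.prime_two hd
  have hO := h.nilB.pcore_ne_bot (π := {2}) ⟨Nat.prime_two, hd⟩ rfl
  obtain ⟨i, hi, ho⟩ := ((pcore_pi {2} B).inf_left _).exists_elt (h.nilB.meet_cen (pcore_nml _ _) hO)
  have hiB : i ∈ B := pcore_le _ _ hi.1
  have hi1 : i ≠ 1 := fun e => by simp [e] at ho
  have hii : i * i = 1 := by rw [← pow_two, ← ho, pow_orderOf_eq_one]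
  have hinv : i⁻¹ = i := inv_eq_of_mul_eq_one_right hii
  have key : ∀ E, PiGrp π E → i ∈ N(E) → E = ⊥ := fun E hE hn => by
    by_contra h1
    obtain ⟨g, hg⟩ := conj_into_nil_hall h.hall h.nilA hE
    have h' := h.cj g
    have e := h'.sup_eq (center_nml _) (nml_of_le_center (zpowers_le.2 ⟨hiB, hi.2⟩))
      (h'.nilA.center_ne_bot (ne_bot_of_le hg h1)) (ne_bot_of_mem (mem_zpowers i) hi1)
    exact h.nrm_ne_sol h1 (h'.nilA.mono hg).sol (top_le_iff.1 (e.ge.trans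
      (sup_le (cents_norm (center_le_cen hg)) (zpowers_le.2 hn))))
  have hF := H2.mem_fittingSubgroup_of_forall_isNilpotent_closure_conj i fun g => by
    set c := i * (g * i * g⁻¹) with hc
    have hic : i * c * i⁻¹ = c⁻¹ := by
      rw [hc, ← mul_assoc, hii]; simp [mul_assoc, hinv]
    have hn : i ∈ N(⟪c⟫) := mem_nrm_of_cj_le (by rw [cj_zpowers, hic, zpowers_inv])
    have h1 := key _ (piElt_constt π c).zpowers
      (zpowers_le.1 ((cyc_zpowers c).norms_sub (zpowers_constt_le π c) (zpowers_le.2 hn)))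
    have h3 : PiElt πᶜ c := constt_eq_one_iff.1 (zpowers_eq_bot.1 h1)
    have h4 : PiGrp πᶜ (⟪c⟫ ⊔ ⟪i⟫) := h3.zpowers.sup (h.piB.piElt hiB).zpowers (zpowers_le.2 hn)
    obtain ⟨x, hx⟩ := conj_into_nil_hall h.symm.hall h.nilB h4
    refine ((h.nilB.cj x).mono hx).mono ((closure_le _).2 ?_)
    rintro y (rfl | rfl)
    · exact mem_sup_right (mem_zpowers _)
    · have := mul_mem (mem_sup_right (mem_zpowers i) : i ∈ ⟪c⟫ ⊔ ⟪i⟫) (mem_sup_left (mem_zpowers c))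
      have e : g * i * g⁻¹ = i * c := by rw [hc, ← mul_assoc i i, hii, one_mul]
      rw [e]; exact this
  rw [← fitting_top] at hF
  exact h.nrm_ne_sol (ne_bot_of_mem hF hi1) (fitting_nil _).sol (top_le_iff.1 (fitting_nrm _))

private theorem KWS.false (h : KWS π A B) : False := by
  refine h.nsol (sol_top.2 (odd_order_solvable (Nat.odd_iff.2 (Nat.two_dvd_ne_zero.1 fun hd => ?_))))
  rw [← card_top'] at hd
  exact ((Nat.Prime.dvd_mul Nat.prime_two).1 (hd.trans h.mul.card_dvd)).elim h.symm.not_even h.not_even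

private theorem kw_aux : ∀ (n : ℕ) {G : Type u} [Group G] [Finite G] {A B : Subgroup G}, Nat.card G = n →
    MulEq A B ⊤ → Nil A → Nil B → Group.IsSolvable G := by
  intro n
  induction n using Nat.strong_induction_on with
  | _ n ih =>
  intro G _ _ A B hn h hA hB
  by_contra hG
  have sub : ∀ X Y L : Subgroup G, L ≠ ⊤ → MulEq X Y L → Nil X → Nil Y → Sol L := fun X Y L hL hm hX hY =>
    ih _ (hn ▸ H2.card_lt_of_ne_top hL) rfl (mulEq_so hm) (hX.so hm.left) (hY.so hm.right)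
  have quo : ∀ N : Subgroup G, N ⊴ ⊤ → N ≠ ⊥ → Sol (⊤ /ₛ N) := fun N hN h1 => by
    have hm := h.quo hN.nrm
    refine ih _ (hn ▸ card_top' (G := G) ▸ card_quo_lt hN h1) rfl (mulEq_so hm) ((hA.quo N).so hm.left)
      ((hB.quo N).so hm.right)
  have nos : ∀ N : Subgroup G, N ⊴ ⊤ → Sol N → N = ⊥ := fun N hN hs => by_contra fun h1 =>
    hG (sol_top.1 (sol_of_quo hN.nrm hs (quo N hN h1)))
  have cen : ∀ K : Subgroup G, K ⊴ ⊤ → K ≠ ⊥ → C(K) = ⊥ := fun K hK h1 => by_contra fun h2 => by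
    have hC : C(K) ⊴ ⊤ := ⟨le_top, norms_cent hK.nrm⟩
    have hi := nos _ hK.center (ab_center K).sol
    exact h1 (nos K hK (((quo _ hC h2).mono (quo_mono _ le_top)).of_equiv
      (quoEquiv (le_top.trans hC.nrm) (by rwa [inf_comm])).symm))
  by_cases hc : Cop A B
  · refine KWS.false (π := piOf A) ⟨fun N hN => ?_, fun hs => hG (sol_top.1 hs), h, hA, hB, piGrp_piOf A, hc.pi', sub⟩
    by_contra hne
    push Not at hne
    have hm := h.inf_of_cop hc hN.nrm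
    rw [top_inf_eq] at hm
    exact hne.1 (nos N hN (sub _ _ _ hne.2 hm (hA.mono inf_le_left) (hB.mono inf_le_left)))
  obtain ⟨p, hp, d1, d2⟩ := Nat.Prime.not_coprime_iff_dvd.1 hc
  obtain ⟨R, -, hm⟩ := mulEq_nil_syl h hA hB p
  have := kegel_pi (pcore_pi {p} A) (pcore_pi {p} B) fun g => by
    obtain ⟨a, ha, b, hb, rfl⟩ := h.mul g (mem_top g)
    have := hm.cj a
    rw [cj_of_mem_nrm (pcore_nrm _ _ ha)] at this
    exact ⟨_, by rwa [← cj_cj, cj_of_mem_nrm (pcore_nrm _ _ hb)]⟩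
  rw [nos _ (pcore_nml _ _) (pcore_pi _ _).sol, le_bot_iff, comm_eq_bot, cen _ (nml_top_iff.2 inferInstance)
    (ne_bot_of_le le_normalClosure (hB.pcore_ne_bot (π := {p}) ⟨hp, d2⟩ rfl)), le_bot_iff] at this
  exact hA.pcore_ne_bot (π := {p}) ⟨hp, d1⟩ rfl this

/-- **Kegel–Wielandt**: a product of two nilpotent groups is solvable. -/
theorem kegel_wielandt (h : MulEq A B M) (hA : Nil A) (hB : Nil B) : Sol M :=
  kw_aux _ rfl (mulEq_so h) (hA.so h.left) (hB.so h.right)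

end Cfsg.Agent.H1
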