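import Cfsg.Agent.H5.Frob
import Cfsg.Agent.FT.BG04b

/-! Splitting automorphisms of prime order (Hughes–Thompson, Kegel). -/

set_option autoImplicit false
set_option linter.unusedSectionVars false
set_option linter.style.haveILetI false

namespace Cfsg.Agent.H1

open Cfsg Subgroup Cfsg.Agent.FT
open Cfsg.Agent.H28 (SecRep)
open scoped commutatorElement

universe u

variable {G : Type u} [Group G] [Finite G] {p q r n : ℕ} {A B H K L M P Q R U V Z : Subgroup G} {a g k x y : G}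

theorem mul_pow_mem (hg : g ∈ N(U)) (ha : a ∈ U) (n : ℕ) : (a * g) ^ n * (g ^ n)⁻¹ ∈ U := by
  induction n with
  | zero => simp
  | succ n ih =>
    have : (a * g) ^ (n + 1) * (g ^ (n + 1))⁻¹ = a * (g * ((a * g) ^ n * (g ^ n)⁻¹) * g⁻¹) := by
      rw [pow_succ', pow_succ']; group
    exact this ▸ U.mul_mem ha (conj_mem hg ih)

/-- the power formula in an elementary abelian section -/
theorem sec_pow [Fact r.Prime] (S : SecRep r M U V) (g : M) (ha : a ∈ U) (n : ℕ) :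
    S.π ((a * g) ^ n * ((g : G) ^ n)⁻¹) = (∑ j ∈ Finset.range n, S.ρ g ^ j) (S.π a) := by
  induction n with
  | zero => simp [S.map_one]
  | succ n ih =>
    have : (a * g) ^ (n + 1) * ((g : G) ^ (n + 1))⁻¹ = a * (g * ((a * g) ^ n * ((g : G) ^ n)⁻¹) * (g : G)⁻¹) := by
      rw [pow_succ', pow_succ']; group
    have h := mul_pow_mem (S.nrm g.2) ha n
    rw [this, S.map_mul _ ha _ (conj_mem (S.nrm g.2) h), S.conj _ _ h, ih, Finset.sum_range_succ', add_comm,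
      ← Module.End.mul_apply, Finset.mul_sum]
    simp [pow_succ']

theorem eq_of_pow_eq {j : ℕ} (hj : j.Coprime p) (hp : 1 < p) (hx : x ^ p = 1) (hy : y ^ p = 1) (h : x ^ j = y ^ j) :
    x = y := by
  obtain ⟨m, -, hm⟩ := Nat.exists_mul_mod_eq_one_of_coprime hj hp
  rw [← pow_one x, ← pow_one y, ← hm, ← pow_eq_pow_mod _ hx, ← pow_eq_pow_mod _ hy, pow_mul, pow_mul, h]

theorem sum_eq_card {E : Type*} [Ring E] (f : G →* E) [Fintype Z] (hp : p.Prime) (hx : x ∈ N(Z))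
    (h1 : ∀ z ∈ Z, (z * x) ^ p = 1) (h2 : ∀ z ∈ Z, ∑ j ∈ Finset.range p, f (z * x) ^ j = 0) :
    ∑ z : Z, f z = (#Z : E) := by
  obtain ⟨m, rfl⟩ : ∃ m, p = m + 1 := ⟨p - 1, by have := hp.pos; omega⟩
  have e : ∀ j ∈ Finset.range m, ∑ z : Z, f (z * x) ^ (j + 1) = (∑ z : Z, f z) * f x ^ (j + 1) := fun j hj => by
    rw [Finset.sum_mul]
    refine Fintype.sum_bijective (fun z : Z => (⟨_, mul_pow_mem hx z.2 (j + 1)⟩ : Z))
      (Finite.injective_iff_bijective.1 fun z w h => Subtype.ext (mul_right_cancel (eq_of_pow_eq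
        ((Nat.coprime_of_lt_prime j.succ_ne_zero (Nat.succ_lt_succ (Finset.mem_range.1 hj)) hp).symm) hp.one_lt (h1 z z.2) (h1 w w.2)
        (mul_right_cancel (congrArg Subtype.val h))))) _ _ fun z => ?_
    rw [← map_pow, ← map_pow, ← map_mul]; simp
  have e1 : ∑ z : Z, ∑ j ∈ Finset.range (m + 1), f (z * x) ^ j = 0 := Finset.sum_eq_zero fun z _ => h2 z z.2
  have e2 := congrArg ((∑ z : Z, f z) * ·) (h2 1 Z.one_mem)
  simp only [one_mul, mul_zero, Finset.sum_range_succ', pow_zero, mul_one, mul_add] at e2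
  rw [Finset.mul_sum] at e2
  rw [Finset.sum_comm, Finset.sum_range_succ', Finset.sum_congr rfl e] at e1
  simp only [pow_zero, Finset.sum_const, Finset.card_univ, nsmul_eq_mul, mul_one, ← Nat.card_eq_fintype_card] at e1
  exact add_left_cancel (e2.trans e1.symm)

/-- every element of the coset `K x` has order dividing `p` -/
structure Split (p : ℕ) (K : Subgroup G) (x : G) : Prop where
  nrm : x ∈ N(K)
  pow : ∀ y ∈ K, (y * x) ^ p = 1

theorem Split.mono (h : Split p K x) (hL : L ≤ K) (hn : x ∈ N(L)) : Split p L x := ⟨hn, fun y hy => h.pow y (hL hy)⟩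

theorem Split.mul (h : Split p K x) (hk : k ∈ K) : Split p K (k * x) :=
  ⟨mul_mem (le_nrm K hk) h.nrm, fun y hy => mul_assoc y k x ▸ h.pow _ (mul_mem hy hk)⟩

theorem Split.quo (h : Split p K x) (hx : x ∈ N(U)) : Split p (K /ₛ U) coset(U, x) :=
  ⟨quo_norms U ((zpowers_le).2 h.nrm) (mem_quo_of_mem hx (mem_zpowers x)), fun y hy => by
    obtain ⟨z, hz, hn, rfl⟩ := mem_quo.1 hy
    rw [← coset_mul hn hx, ← coset_pow (mul_mem hn hx), h.pow z hz, coset_one]⟩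

theorem Split.exists_syl (h : Split p K x) (hQ : Syl q Q K) : ∃ y, Split p K y ∧ y ∈ N(Q) ∧ y ∈ K ⊔ ⟪x⟫ := by
  obtain ⟨a, ha, b, hb, e⟩ := hQ.frattini_nrm.mul x h.nrm
  have e' : b = a⁻¹ * x := by rw [e]; group
  exact ⟨b, e' ▸ h.mul (inv_mem ha), hb.2, e' ▸ mul_mem (mem_sup_left (inv_mem ha)) (mem_sup_right (mem_zpowers x))⟩

theorem Split.sec_cents [Fact r.Prime] (h : Split p K x) (hp : p.Prime) (S : SecRep r M U V) (hU : U ≤ K) (hQ : Q ≤ K)
    (hK : K ≤ M) (hx : x ∈ M) (hn : x ∈ N(Q)) (hr : ¬ r ∣ #Q) : ⁅Q, U⁆ ≤ V := by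
  classical
  letI := Fintype.ofFinite (Q.subgroupOf M)
  have e := sum_eq_card (Z := Q.subgroupOf M) (x := ⟨x, hx⟩) S.ρ hp
    (mem_nrm.2 fun z hz => (conj_mem hn hz : _ ∈ Q)) (fun z hz => Subtype.ext (h.pow z (hQ hz))) fun z hz => LinearMap.ext fun v => by
      obtain ⟨a, ha, rfl⟩ := S.surj v
      have e1 := h.pow z (hQ hz)
      have e2 := h.pow (a * z) (mul_mem (hU ha) (hQ hz))
      rw [← sec_pow S _ ha, coe_mul, e1, ← mul_assoc, e2]
      simp [S.map_one]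
  refine (S.le_ker_iff (hQ.trans hK)).1 fun z hz => ?_
  have e1 := H28.sum_mul_left_subgroup (Q.subgroupOf M) S.ρ hz
  simp only [map_mul, ← Finset.mul_sum, e, card_so (hQ.trans hK)] at e1
  have e2 : (#Q : ZMod r) • S.ρ z = (#Q : ZMod r) • 1 := by
    rw [Nat.cast_smul_eq_nsmul, Nat.cast_smul_eq_nsmul, nsmul_eq_mul', e1, nsmul_one]
  exact smul_right_injective _ (H28.natCast_zmod_ne_zero hr) e2

theorem Split.nil_of_sol (h : Split p K x) (hp : p.Prime) (hs : Sol K) : Nil K := by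
  have hK : K ⊴ K ⊔ ⟪x⟫ := ⟨le_sup_left, sup_le (le_nrm K) ((zpowers_le).2 h.nrm)⟩
  refine nil_of_chief_stab hK hK (by rw [quo_eq_bot_of_le le_rfl]; exact nil_bot) fun V U hc hU => ?_
  obtain ⟨r, hr, ha⟩ := hc.abelem (hs.mono hU)
  haveI := Fact.mk hr
  have ha' := (abelem_quo_iff hc.nml.nrm).1 ha
  obtain ⟨S⟩ := H28.nonempty_secRep r hc.lt.le ha'.1 ha'.2 hc.nmlU.nrm hc.nmlV.nrm
  refine bg4_chief_cents hc ((piGrp_quo_iff hc.nml.nrm).1 (ha.pGrp hr)) hK fun X hX pX => ?_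
  refine commC X U ▸ ((le_qpre_cen hc.nml.nrm).1 (le_of_forall_pGrp fun q P hq pP hP => ?_)).2
  obtain ⟨Q, hQ, l⟩ := pP.exists_syl (hP.trans hX)
  obtain ⟨y, hy, nQ, m⟩ := h.exists_syl hQ
  by_cases e : q = r
  · rw [pP.eq_bot (e ▸ pX.mono hP)]; exact bot_le
  exact l.trans ((le_qpre_cen hc.nml.nrm).2 ⟨hQ.le.trans (hK.le.trans hc.nmlV.nrm),
    hy.sec_cents hp S hU hQ.le hK.le m nQ fun d => e (hQ.pi.eq_prime hr d).symm⟩)

theorem Split.nil_aux (hp : p.Prime) (n : ℕ) : ∀ (G : Type u) [Group G] [Finite G] (K : Subgroup G) (x : G),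
    #K = n → Split p K x → Nil K := by
  induction n using Nat.strong_induction_on with
  | _ n ih =>
  intro G _ _ K x hk h
  refine h.nil_of_sol hp ?_
  by_cases h2 : ∃ q : ℕ, q.Prime ∧ q ∣ #K ∧ q ≠ 2
  swap
  · push Not at h2
    exact PiGrp.sol (p := 2) fun q hq hd => h2 q hq hd
  obtain ⟨q, hq, hd, hq2⟩ := h2
  haveI := Fact.mk hq
  obtain ⟨P, hP⟩ := FT.exists_syl q K
  obtain ⟨y, hy, nP, -⟩ := h.exists_syl hP
  have ih' : ∀ L, L < K → y ∈ N(L) → Nil L := fun L h1 h2 => ih _ (hk ▸ H22.card_lt_of_lt h1) G L y rfl (hy.mono h1.le h2)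
  have hP' := (syl_iff_sylIn hq).1 hP
  have hZ : H5b.ZJn 0 P ≠ ⊥ := H5b.ZJn_ne_bot hP'.isP (H22.syl_ne_bot hP' hd) (Or.inl rfl)
  have hZP : H5b.ZJn 0 P ≤ P := (H5b.isFn_ZJn 0).le _
  have hRZ : y ∈ N(H5b.ZJn 0 P) := (H5b.isFn_ZJn 0).N_le _ nP
  by_cases hK : K ≤ N(H5b.ZJn 0 P)
  · exact sol_of_quo hK (hP.pi.mono hZP).sol (ih _ (hk ▸ card_quo_lt ⟨hZP.trans hP.le, hK⟩ hZ) _ _ _ rfl
      (hy.quo hRZ)).sol
  have h3 : Nil (K ⊓ N(H5b.ZJn 0 P)) := ih' _ (inf_lt_left.2 hK) (normsI ((zpowers_le).2 hy.nrm)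
    (norms_norm ((zpowers_le).2 hRZ)) (mem_zpowers y))
  exact H5b.solvable_of_pResidualOf (ih' _ (H5b.pResidualOf_lt_of_hasNPC
    (H5b.hasNPC_of_ZJn_sub hq2 (Or.inl rfl) hP' H4.hasNPC_of_isNilpotent) hd) (H22.N_le_N_pResidualOf K hy.nrm)).sol

/-- **Kegel** -/
theorem Split.nil (h : Split p K x) (hp : p.Prime) : Nil K := Split.nil_aux hp _ G K x rfl h

end Cfsg.Agent.H1
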