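import Cfsg.Agent.H22.Hol
import Cfsg.Agent.H5.PLen
import Cfsg.Agent.H1.Chain
import Cfsg.Agent.H2.PComp

/-! The lower `p`-series and the `p`-length; the theorems of Powell and of Gaschütz–Yen. -/

set_option autoImplicit false
set_option linter.unusedSectionVars false
set_option linter.style.haveILetI false

namespace Cfsg.Agent.H1

open Cfsg Subgroup Cfsg.Agent.FT
open scoped commutatorElement

universe u

variable {G : Type u} [Group G] [Finite G] {G' : Type*} [Group G'] [Finite G'] {π : Set ℕ} {p k m n : ℕ}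
  {A D H K L M T X : Subgroup G} {u v x : G}

/-- `p`-solvable subgroups -/
def PSol (p : ℕ) (H : Subgroup G) : Prop := IsPSolvable p H

theorem psol_top (hp : p.Prime) (h : IsPSolvable p G) : PSol p (⊤ : Subgroup G) := isPSolvable_subgroup hp h ⊤
theorem PSol.mono (h : PSol p H) (hp : p.Prime) (hK : K ≤ H) : PSol p K :=
  isPSolvable_of_injective hp (inclusion hK) (inclusion_injective hK) h
theorem PSol.pmap (h : PSol p H) (hp : p.Prime) (f : D →* G') (hH : H ≤ D) : PSol p (pmap f H) :=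
  isPSolvable_of_surjective hp _ (pmapHom_surjective f hH) h
theorem PSol.quo (h : PSol p H) (hp : p.Prime) (hH : H ≤ N(K)) : PSol p (H /ₛ K) := h.pmap hp _ hH
theorem Sol.psol (h : Sol H) (hp : p.Prime) : PSol p H := isPSolvable_of_isSolvable hp h
theorem PSol.cen (h : PSol p H) (hp : p.Prime) (hπ : π = {p} ∨ π = {p}ᶜ) (hO : O[π](H) = ⊥) :
    H ⊓ C(O[πᶜ](H)) ≤ O[πᶜ](H) := by
  rcases hπ with rfl | rfl
  · exact P22.cen_p'core_le hp h hO
  · rw [compl_compl]; exact P22.cen_pcore_le hp h hO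
theorem PSol.core (h : PSol p H) (hp : p.Prime) (h1 : O[{p}](H) = ⊥) (h2 : O[{p}ᶜ](H) = ⊥) : H = ⊥ := by
  have := P22.cen_pcore_le hp h h2
  rwa [h1, cen_bot, inf_top_eq, le_bot_iff] at this

/-- the set of primes used at stage `n` -/
def ptau (p n : ℕ) : Set ℕ := if Even n then {p} else {p}ᶜ
theorem ptau_succ (p n : ℕ) : ptau p (n + 1) = (ptau p n)ᶜ := by
  by_cases h : Even n <;> simp [ptau, Nat.even_add_one, h]
theorem ptau_cases (p n : ℕ) : ptau p n = {p} ∨ ptau p n = {p}ᶜ := by by_cases h : Even n <;> simp [ptau, h]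
theorem ptau_even (p n : ℕ) : ptau p (2 * n) = {p} := if_pos (even_two_mul n)
theorem ptau_odd (p n : ℕ) : ptau p (2 * n + 1) = {p}ᶜ := by rw [ptau_succ, ptau_even]

/-- the lower `p`-series `M ≥ O^{p'}(M) ≥ O^{p',p}(M) ≥ ⋯` -/
def low (p : ℕ) : ℕ → Subgroup G → Subgroup G
  | 0, M => M
  | n + 1, M => piGen (ptau p n) (low p n M)

theorem low_succ (p n : ℕ) (M : Subgroup G) : low p (n + 1) M = piGen (ptau p n) (low p n M) := rfl
theorem low_anti (p : ℕ) (M : Subgroup G) : Antitone fun n => low p n M := antitone_nat_of_succ_le fun _ => piGen_le _ _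
theorem low_le (p n : ℕ) (M : Subgroup G) : low p n M ≤ M := low_anti p M n.zero_le
theorem norms_low (p n : ℕ) (h : X ≤ N(M)) : X ≤ N(low p n M) := by
  induction n with
  | zero => exact h
  | succ n ih => exact norms_piGen _ ih
theorem low_nml (p n : ℕ) (M : Subgroup G) : low p n M ⊴ M := ⟨low_le p n M, norms_low p n (le_nrm M)⟩
theorem low_mono (p n : ℕ) (h : K ≤ M) : low p n K ≤ low p n M := by
  induction n with
  | zero => exact h
  | succ n ih => exact piGen_mono _ ih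
theorem pmap_low (f : D →* G') (p n : ℕ) (h : M ≤ D) : pmap f (low p n M) = low p n (pmap f M) := by
  induction n with
  | zero => rfl
  | succ n ih => rw [low_succ, pmap_piGen _ _ ((low_le p n M).trans h), ih, low_succ]
theorem quo_low (p n : ℕ) (h : M ≤ N(K)) : low p n M /ₛ K = low p n (M /ₛ K) := pmap_low _ p n h
theorem map_low (f : G →* G') (p n : ℕ) (M : Subgroup G) : (low p n M).map f = low p n (M.map f) := by
  rw [← pmap_tot, ← pmap_tot, pmap_low _ _ _ le_top]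
theorem low_succ_eq_bot : low p (n + 1) M = ⊥ ↔ PiGrp (ptau p n)ᶜ (low p n M) := piGen_eq_bot_iff
theorem low_quo_eq_bot (h : M ≤ N(K)) : low p n (M /ₛ K) = ⊥ ↔ low p n M ≤ K := by
  rw [← quo_low p n h, quo_eq_bot ((low_le p n M).trans h)]
theorem low_eq_bot_mono (h : low p m M = ⊥) (hm : m ≤ n) : low p n M = ⊥ := le_bot_iff.1 (h ▸ low_anti p M hm)
theorem low_add (p m n : ℕ) (M : Subgroup G) : low p (2 * m + n) M = low p n (low p (2 * m) M) := by
  induction n with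
  | zero => rfl
  | succ n ih => rw [← add_assoc, low_succ, ih, low_succ]; simp [ptau, parity_simps]

theorem PSol.exists_low (hp : p.Prime) : ∀ (n : ℕ) {G : Type u} [Group G] [Finite G] {H : Subgroup G}, #H = n → PSol p H →
    ∃ m, low p m H = ⊥ := by
  intro n
  induction n using Nat.strong_induction_on with
  | _ n ih =>
  intro G _ _ H hn h
  by_cases h1 : H = ⊥
  · exact ⟨0, h1⟩
  obtain ⟨π, h2, h3⟩ : ∃ π : Set ℕ, (π = {p} ∨ π = {p}ᶜ) ∧ O[π](H) ≠ ⊥ := by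
    by_contra! h2; exact h1 (h.core hp (h2 _ (.inl rfl)) (h2 _ (.inr rfl)))
  obtain ⟨m, hm⟩ := ih _ (hn ▸ card_quo_lt (pcore_nml π H) h3) rfl (h.quo hp (pcore_nml π H).nrm)
  have h4 := (pcore_pi π H).mono ((low_quo_eq_bot (pcore_nml π H).nrm).1 hm)
  by_cases e : ptau p m = π
  · exact ⟨m + 2, low_succ_eq_bot.2 (by rw [ptau_succ, compl_compl, e]; exact h4.mono (piGen_le _ _))⟩
  · refine ⟨m + 1, low_succ_eq_bot.2 ?_⟩
    rcases h2 with rfl | rfl <;> rcases ptau_cases p m with e' | e' <;> simp_all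

theorem pLengthLE_iff_top (hp : p.Prime) : PLengthLE p k G ↔ low p (2 * k + 1) (⊤ : Subgroup G) = ⊥ := by
  have key : ∀ i j, i + j = 2 * k → ∀ K : Subgroup G, K ⊴ ⊤ → (piGen (ptau p i) K ≤ (upperPSeries p G j).1 ↔
      K ≤ (upperPSeries p G (j + 1)).1) := fun i j h K hK => by
    haveI : K.Normal := nml_top_iff.1 hK
    haveI := (upperPSeries p G j).2
    have n1 : ∀ X, X ≤ N((upperPSeries p G j).1) := fun _ => le_normalizer_of_normal
    by_cases e : Even j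
    · have : ptau p i = {p} := if_pos (by rw [show i = 2 * k - j by omega]; simp [Nat.even_sub (h ▸ le_add_self), e])
      rw [H5b.upper_succ_even e, this]
      exact ⟨fun h => H5b.le_op'Mod ((p'nat_iff_coprime hp).1 ((piGen_relIndex _ K).of_dvd (relIndex_dvd_of_le_left K h))),
        fun h => piGen_min (n1 K) (((p'nat_iff_coprime hp).2 (H5b.coprime_relIndex_op'Mod _)).of_dvd
          (relIndex_dvd_of_norm h (n1 _)))⟩
    · have : ptau p i = {p}ᶜ := if_neg (by rw [show i = 2 * k - j by omega]; simp [Nat.even_sub (h ▸ le_add_self), e])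
      rw [H5b.upper_succ_odd e, this]
      refine ⟨fun h => H5.le_opMod fun x hx => ?_, fun h => piGen_le_iff.2 fun x hx h2 => ?_⟩
      · obtain ⟨a, ha⟩ := (compl_compl ({p} : Set ℕ) ▸ piGen_relIndex {p}ᶜ K : PiNat {p} _).exists_pow (relIndex_pos _ _).ne'
        exact ⟨a, h (ha ▸ pow_relIndex_mem (piGen_nml _ K).nrm hx)⟩
      · obtain ⟨a, ha⟩ := H5.exists_pow_mem_of_mem_opMod (h hx)
        exact h2.mem_of_pow_mem (piNat_compl_compl.2 (piNat_self_pow hp a)) ha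
  refine ⟨fun h => ?_, fun h => ?_⟩
  · have : ∀ i j, i + j = 2 * k + 1 → low p i ⊤ ≤ (upperPSeries p G j).1 := fun i => by
      induction i with
      | zero => intro j e; rw [zero_add] at e; rw [e]; exact h.ge
      | succ i ih => exact fun j e => (key i j (by omega) _ (low_nml _ _ _)).2 (ih _ (by omega))
    exact le_bot_iff.1 (this _ 0 rfl)
  · have : ∀ j i, i + j = 2 * k + 1 → low p i ⊤ ≤ (upperPSeries p G j).1 := fun j => by
      induction j with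
      | zero => intro i e; rw [add_zero] at e; rw [e]; exact h.le
      | succ j ih => exact fun i e => (key i j (by omega) _ (low_nml _ _ _)).1 (ih (i + 1) (by omega))
    exact top_le_iff.1 (this _ 0 (zero_add _))

theorem pLengthLE_iff (hp : p.Prime) : PLengthLE p k H ↔ low p (2 * k + 1) H = ⊥ := by
  rw [pLengthLE_iff_top hp, ← map_eq_bot_iff_of_injective _ H.subtype_injective, map_low, ← MonoidHom.range_eq_map,
    range_subtype]

/-! ### Powell's theorem -/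

theorem exists_pair_not_norm (hu : u ∈ N(X) ⊓ N(T)) (hv : v ∈ N(X) ⊓ N(T)) (h : ¬ X ≤ N(T)) :
    ∃ x₁ ∈ X, ∃ x₂ ∈ X, ∀ y ∈ X, u * x₁ ∈ N(cj y T) → v * x₂ ∉ N(cj y T) := by
  by_contra! H
  set C := N(T).subgroupOf X
  have key : ∀ {u x : G} {y : X}, u ∈ N(X) ⊓ N(T) → (hx : x ∈ X) → u * x ∈ N(cj (y : G) T) → ∃ c : C,
      u⁻¹ * (y : X ⧸ C).out * u * c.1 * ((y : X ⧸ C).out : G)⁻¹ = x := fun {u x y} hu hx h1 => by
    obtain ⟨c, hc⟩ := QuotientGroup.mk_out_eq_mul C y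
    rw [← cj_nrm, mem_cj] at h1
    refine ⟨⟨⟨(u⁻¹ * (y * c) * u)⁻¹ * x * (y * c), mul_mem (mul_mem (inv_mem (conj_mem' hu.1 (y * c).2)) hx) (y * c).2⟩, ?_⟩,
      by rw [hc]; simp [mul_assoc]⟩
    have := mul_mem (mul_mem (mul_mem (N(T).inv_mem hu.2) (N(T).inv_mem c.2)) h1) c.2
    simpa [C, mem_subgroupOf, mul_assoc] using this
  have := Nat.card_le_card_of_surjective (fun z : (X ⧸ C) × C × C => ((⟨u⁻¹ * z.1.out * u * z.2.1.1 * (z.1.out : G)⁻¹,
    mul_mem (mul_mem (conj_mem' hu.1 z.1.out.2) z.2.1.1.2) (inv_mem z.1.out.2)⟩, ⟨v⁻¹ * z.1.out * v * z.2.2.1 * (z.1.out : G)⁻¹,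
    mul_mem (mul_mem (conj_mem' hv.1 z.1.out.2) z.2.2.1.2) (inv_mem z.1.out.2)⟩) : X × X)) fun z => by
      obtain ⟨y, hy, h1, h2⟩ := H _ z.1.2 _ z.2.2
      obtain ⟨c, hc⟩ := key (y := ⟨y, hy⟩) hu z.1.2 h1
      obtain ⟨d, hd⟩ := key (y := ⟨y, hy⟩) hv z.2.2 h2
      exact ⟨(_, c, d), Prod.ext (Subtype.ext hc) (Subtype.ext hd)⟩
  rw [Nat.card_prod, Nat.card_prod, Nat.card_prod, ← mul_assoc, ← card_eq_card_quotient_mul_card_subgroup] at this
  exact h (subgroupOf_eq_top.1 (eq_top_of_le_card _ (Nat.le_of_mul_le_mul_left this Nat.card_pos)))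

theorem low_pair_le (hp : p.Prime) (h : PSol p H) (hu : u ∈ H) (hv : v ∈ H)
    (hm : ∀ u ∈ H, ∀ v ∈ H, low p (n + 2) (⟪u⟫ ⊔ ⟪v⟫) = ⊥) : low p (n + 1) (⟪u⟫ ⊔ ⟪v⟫) ≤ O[ptau p n](H) := by
  have key : ∀ {G : Type u} [Group G] [Finite G] {H : Subgroup G} {u v : G}, PSol p H → u ∈ H → v ∈ H →
      (∀ u ∈ H, ∀ v ∈ H, low p (n + 2) (⟪u⟫ ⊔ ⟪v⟫) = ⊥) → O[ptau p n](H) = ⊥ → low p (n + 1) (⟪u⟫ ⊔ ⟪v⟫) = ⊥ := by
    intro G _ _ H u v h hu hv hm hO
    have pi : ∀ u ∈ H, ∀ v ∈ H, PiGrp (ptau p n) (low p (n + 1) (⟪u⟫ ⊔ ⟪v⟫)) := fun u hu v hv => by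
      simpa [ptau_succ] using low_succ_eq_bot.1 (hm u hu v hv)
    have le : ∀ {u v}, u ∈ H → v ∈ H → ⟪u⟫ ⊔ ⟪v⟫ ≤ H := fun hu hv => sup_le (zpowers_le.2 hu) (zpowers_le.2 hv)
    have nX := pcore_nml (ptau p n)ᶜ H
    have pX := pcore_pi (ptau p n)ᶜ H
    have nT := low_nml p (n + 1) (⟪u⟫ ⊔ ⟪v⟫)
    have lT := nT.le.trans (le hu hv)
    by_cases hn : O[(ptau p n)ᶜ](H) ≤ N(low p (n + 1) (⟪u⟫ ⊔ ⟪v⟫))
    · exact (pi u hu v hv).eq_bot (pX.mono ((le_inf lT (cents_of_norms_of_inf hn (lT.trans nX.nrm)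
        ((pi u hu v hv).inf_eq_bot pX))).trans (h.cen hp (ptau_cases p n) hO)))
    obtain ⟨x, hx, y, hy, H1⟩ := exists_pair_not_norm ⟨nX.nrm hu, nT.nrm (mem_sup_left (mem_zpowers u))⟩
      ⟨nX.nrm hv, nT.nrm (mem_sup_right (mem_zpowers v))⟩ hn
    have hu' := mul_mem hu (nX.le hx)
    have hv' := mul_mem hv (nX.le hy)
    have nT' := low_nml p (n + 1) (⟪u * x⟫ ⊔ ⟪v * y⟫)
    have lT' := nT'.le.trans (le hu' hv')
    have e : low p (n + 1) (⟪u⟫ ⊔ ⟪v⟫) /ₛ O[(ptau p n)ᶜ](H) = low p (n + 1) (⟪u * x⟫ ⊔ ⟪v * y⟫) /ₛ O[(ptau p n)ᶜ](H) := by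
      rw [quo_low _ _ ((le hu hv).trans nX.nrm), quo_low _ _ ((le hu' hv').trans nX.nrm),
        quo_sup (zpowers_le.2 (nX.nrm hu)) (zpowers_le.2 (nX.nrm hv)), quo_sup (zpowers_le.2 (nX.nrm hu'))
        (zpowers_le.2 (nX.nrm hv')), quo_zpowers (nX.nrm hu), quo_zpowers (nX.nrm hv), quo_zpowers (nX.nrm hu'),
        quo_zpowers (nX.nrm hv'), coset_mul (nX.nrm hu) (le_nrm _ hx), coset_mul (nX.nrm hv) (le_nrm _ hy),
        coset_of_mem hx, coset_of_mem hy, mul_one, mul_one]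
    obtain ⟨k, hk, h2⟩ := coprime_sup_Jsub (lT'.trans nX.nrm) ((quo_le_quo (lT.trans nX.nrm) (lT'.trans nX.nrm)).1 e.le)
      (pX.cop' (pi u hu v hv)) (by
        rcases ptau_cases p n with e | e
        · exact .inr (PiGrp.sol (p := p) (by simpa [e] using pi u hu v hv))
        · exact .inl (PiGrp.sol (p := p) (by simpa [e] using pX)))
    rw [← eq_of_le_of_card_ge h2 (by rw [card_cj, ← card_quo_of_cop (lT.trans nX.nrm) (pX.cop' (pi u hu v hv)), e,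
      card_quo_of_cop (lT'.trans nX.nrm) (pX.cop' (pi _ hu' _ hv'))])] at nT'
    exact absurd (nT'.nrm (mem_sup_right (mem_zpowers _))) (H1 k hk (nT'.nrm (mem_sup_left (mem_zpowers _))))
  have nO := pcore_nml (ptau p n) H
  have e : ∀ {u v}, u ∈ H → v ∈ H → (⟪u⟫ ⊔ ⟪v⟫) /ₛ O[ptau p n](H) = ⟪coset(O[ptau p n](H), u)⟫ ⊔ ⟪coset(O[ptau p n](H), v)⟫ :=
    fun hu hv => by rw [quo_sup (zpowers_le.2 (nO.nrm hu)) (zpowers_le.2 (nO.nrm hv)), quo_zpowers (nO.nrm hu),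
      quo_zpowers (nO.nrm hv)]
  have n1 : ∀ {u v}, u ∈ H → v ∈ H → ⟪u⟫ ⊔ ⟪v⟫ ≤ N(O[ptau p n](H)) := fun hu hv =>
    (sup_le (zpowers_le.2 hu) (zpowers_le.2 hv)).trans nO.nrm
  rw [← low_quo_eq_bot (n1 hu hv), e hu hv]
  refine key (h.quo hp nO.nrm) (mem_quo_of_mem (nO.nrm hu) hu) (mem_quo_of_mem (nO.nrm hv) hv) (fun a ha b hb => ?_)
    (pcore_quo_pcore _ _)
  obtain ⟨a, ha', -, rfl⟩ := mem_quo.1 ha
  obtain ⟨b, hb', -, rfl⟩ := mem_quo.1 hb
  rw [← e ha' hb', low_quo_eq_bot (n1 ha' hb'), hm a ha' b hb']; exact bot_le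

/-- **Powell** -/
theorem powell [IsSimpleGroup G] (hp : p.Prime) (hd : p ∣ Nat.card G) (h : ∀ x y z : G, PSol p (⟪x⟫ ⊔ ⟪y⟫ ⊔ ⟪z⟫)) :
    PGrp p (⊤ : Subgroup G) := by
  classical
  choose f hf using fun z : G × G => PSol.exists_low hp _ rfl ((h z.1 z.2 1).mono hp le_sup_left)
  obtain ⟨N, hN⟩ := (Set.finite_range f).bddAbove
  have ex : ∃ n, ∀ u v : G, low p (n + 1) (⟪u⟫ ⊔ ⟪v⟫) = ⊥ :=
    ⟨N, fun u v => low_eq_bot_mono (hf (u, v)) ((hN ⟨_, rfl⟩).trans N.le_succ)⟩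
  haveI : Fact p.Prime := ⟨hp⟩
  obtain ⟨g, hg⟩ := exists_prime_orderOf_dvd_card' p hd
  have h0 : Nat.find ex ≠ 0 := fun e => by
    have := low_succ_eq_bot.1 (e ▸ Nat.find_spec ex g g)
    exact (p'grp_iff hp).1 (show PiGrp {p}ᶜ (⟪g⟫ ⊔ ⟪g⟫) from this) (by rw [sup_idem, Nat.card_zpowers, hg])
  obtain ⟨n, hn⟩ := Nat.exists_eq_succ_of_ne_zero h0
  have h1 := hn ▸ Nat.find_spec ex
  have h2 := Nat.find_min ex (hn ▸ n.lt_succ_self)
  push Not at h2
  obtain ⟨u, v, h2⟩ := h2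
  let S : Subgroup G :=
    { carrier := {t | ∀ x, PiElt (ptau p n) x ↔ PiElt (ptau p n) (t * x)}
      one_mem' := by simp
      mul_mem' := fun {a b} ha hb x => by rw [mul_assoc, ← ha, ← hb]
      inv_mem' := fun {a} ha x => by rw [ha (a⁻¹ * x), mul_inv_cancel_left] }
  have hS : S.Normal := ⟨fun t ht g x => by
    rw [← piElt_conj (g := g⁻¹), ht, ← piElt_conj (g := g)]; simp [mul_assoc]⟩
  have le : low p (n + 1) (⟪u⟫ ⊔ ⟪v⟫) ≤ S := by
    have : ∀ t ∈ low p (n + 1) (⟪u⟫ ⊔ ⟪v⟫), ∀ x, PiElt (ptau p n) x → PiElt (ptau p n) (t * x) := fun t ht x hx =>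
      ((pcore_pi _ _).sup hx.zpowers (le_sup_right.trans (pcore_nml _ _).nrm)).piElt (mul_mem_sup (low_pair_le hp (h u v x)
        (mem_sup_left (mem_sup_left (mem_zpowers u))) (mem_sup_left (mem_sup_right (mem_zpowers v)))
        (fun a _ b _ => h1 a b) ht) (mem_zpowers x))
    exact fun t ht x => ⟨this t ht x, fun h => by simpa using this _ (inv_mem ht) _ h⟩
  have h3 : PiGrp (ptau p n) (⊤ : Subgroup G) := piGrp_iff_forall.2 fun x _ => by
    simpa using (((hS.eq_bot_or_eq_top.resolve_left (ne_bot_of_le le h2)).ge (mem_top x)) 1).1 (piElt_one _)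
  rcases ptau_cases p n with e | e <;> rw [e] at h3
  · exact h3
  · exact absurd (card_top (G := G) ▸ hd) ((p'grp_iff hp).1 h3)

/-! ### the theorem of Gaschütz and Yen -/

theorem sd_frattini {P : Subgroup G} (h : SD P K L) (hc : Cop P K) (hs : Sol P ∨ Sol K) (hL : L ⊴ M) (hP : M ≤ N(P)) :
    MulEq P (M ⊓ N(K)) M := ⟨h.left.trans hL.le, inf_le_left, fun g hg => by
  have h1 := h.cj g
  rw [cj_of_mem_nrm (hP hg), cj_of_mem_nrm (hL.nrm hg)] at h1
  obtain ⟨k, hk, e⟩ := SchurZassenhaus_trans h1 h hc hs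
  rw [cj_cj, eq_comm, cj_eq_self] at e
  exact ⟨k⁻¹, inv_mem hk, k * g, ⟨mul_mem (hL.le (h.left hk)) hg, e⟩, by group⟩⟩

theorem gaschutz_yen (hp : p.Prime) (h2 : p ≠ 2) (hs : PSol p H) (hA : A ≤ N(H))
    (hT : ∀ K, K ≤ H → A ≤ N(K) → p ∣ #K → ∀ X, X ≤ H → #X = p → X ≤ K) : PLen1 p H := by
  have key : ∀ {G : Type u} [Group G] [Finite G] {H A : Subgroup G}, PSol p H → A ≤ N(H) → O[{p}ᶜ](H) = ⊥ →
      (∀ K, K ≤ H → A ≤ N(K) → p ∣ #K → ∀ X, X ≤ H → #X = p → X ≤ K) → PLen1 p H := by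
    intro G _ _ H A hs hA hO hT
    haveI : Fact p.Prime := ⟨hp⟩
    have nP := pcore_nml {p} H
    have pP : PGrp p O[{p}](H) := pcore_pi _ _
    have aP := norms_pcore {p} hA
    by_cases h1 : O[{p}](H) = ⊥
    · exact plen1_of_p' hp (hs.core hp h1 hO ▸ piGrp_bot _)
    have nL := qpre_nml nP (pcore_nml {p}ᶜ (H /ₛ O[{p}](H)))
    have aL := norms_qpre aP (norms_pcore {p}ᶜ (quo_norms O[{p}](H) hA))
    have hP : Syl p O[{p}](H) qpre(O[{p}](H), O[{p}ᶜ](H /ₛ O[{p}](H))) :=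
      ⟨le_qpre _, pP, by rw [relIndex_qpre_self]; exact pcore_pi _ _⟩
    obtain ⟨K, hK, sd⟩ := hP.exists_compl (nL.le.trans nP.nrm)
    have hZ := hT _ (nP.center.le) (norms_center aP) ((pP.mono inf_le_left).dvd (pP.center_ne_bot h1))
    by_cases h3 : p ∣ #((O[{p}](H) ⊓ C(qpre(O[{p}](H), O[{p}ᶜ](H /ₛ O[{p}](H)))) : Subgroup G))
    · have h4 := hT _ (inf_le_left.trans nP.le) (norms_subcent aP aL) h3
      have h5 : K = ⊥ := (pP.mono ((le_inf (sd.right.trans nL.le) (H5b.le_C_of_fix_order_p h2 ((p'grp_iff_coprime hp).1 hK.pi) _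
        pP.isPGroup sd.nrm fun x hx hx1 => by
          by_cases e : x = 1
          · exact e ▸ one_mem _
          · exact cen_anti sd.right (h4 _ (zpowers_le.2 (nP.le hx)) (by rw [Nat.card_zpowers, orderOf_eq_prime hx1 e])
              (mem_zpowers x)).2)).trans (P22.cen_pcore_le hp hs hO))).eq_bot hK.pi
      have h6 : O[{p}ᶜ](H /ₛ O[{p}](H)) = ⊥ := by
        rw [h5] at sd; rw [← quo_qpre O[{p}ᶜ](_), ← sd.eq_left_of_bot, quo_self]
      exact (pP.mono ((quo_eq_bot nP.nrm).1 ((hs.quo hp nP.nrm).core hp (pcore_quo_pcore _ _) h6))).nil.plen1 hp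
    · refine plen1_of_nml_syl hp ((sd_frattini sd (pP.cop hK.pi) (.inl pP.sol) nL nP.nrm).hall_left pP
        (p'grp_of_not_dvd fun h4 => h3 ?_)) nP.nrm
      obtain ⟨X, h5, h6⟩ := exists_card_prime_le hp h4
      have h7 := hZ X (h5.trans inf_le_left) h6
      refine h6.symm.dvd.trans (card_dvd (le_inf (h7.trans inf_le_left) ?_))
      rw [← sd.sup, cen_sup]
      exact le_inf (h7.trans inf_le_right) (comm_eq_bot.1 (le_bot_iff.1 (sd.inf ▸ le_inf
        ((commSS (h7.trans inf_le_left) le_rfl).trans (comm_le_left sd.nrm)) (comm_le_right (h5.trans inf_le_right)))))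
  have nO := pcore_nml {p}ᶜ H
  have pO := pcore_pi {p}ᶜ H
  have aO := norms_pcore {p}ᶜ hA
  refine plen1_of_quo_p' hp pO nO (key (hs.quo hp nO.nrm) (quo_norms _ hA) (pcore_quo_pcore _ _) fun K h1 h3 h4 X h5 h6 => ?_)
  obtain ⟨Y, h7, h8⟩ := exists_card_prime_le hp (H := qpre(O[{p}ᶜ](H), X)) (by rw [card_qpre, h6]; exact dvd_mul_left _ _)
  have h9 := h7.trans (qpre_le_of_le_quo nO.le h5)
  rw [← eq_of_le_of_card_ge ((quo_le_iff (h9.trans nO.nrm)).2 h7) (by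
    rw [card_quo_of_cop (h9.trans nO.nrm) (pO.cop' (pGrp_of_card_prime hp h8)), h6, h8]), quo_le_iff (h9.trans nO.nrm)]
  exact hT _ (qpre_le_of_le_quo nO.le h1) (norms_qpre aO h3) (by rw [card_qpre]; exact h4.mul_left _) Y h9 h8

end Cfsg.Agent.H1
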