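import Cfsg.Agent.H21.SigPP
import Cfsg.Agent.H2.Balance3

/-! Equivariant solvable signalizer functors on groups with a connected rank-2 graph are trivial. -/

set_option autoImplicit false
set_option linter.unusedSectionVars false

namespace Cfsg.Agent.H1

open Cfsg Subgroup Cfsg.Agent.FT Cfsg.Agent.H21

variable {G : Type*} [Group G] [Finite G] {p : ℕ} {A E M : Subgroup G} {a : G}

theorem not_prankLE_two (hp : p.Prime) : ¬ PRankLE p 2 M ↔ ∃ A, A ≤ M ∧ Abelem p A ∧ p ^ 3 ≤ #A := by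
  rw [prankLE_iff]; push Not
  refine exists_congr fun A => and_congr_right fun _ => and_congr_right fun h => ?_
  obtain ⟨n, hn⟩ := h.card hp
  rw [hn, Nat.pow_lt_pow_iff_right hp.one_lt, Nat.pow_le_pow_iff_right hp.one_lt]; rfl

theorem equivariant_trivial (hp : p.Prime) (hO : O[{p}ᶜ]((⊤ : Subgroup G)) = ⊥) (hconn : IsRankGraphConnected p 2 G)
    (θ : G → Subgroup G) (hC : ∀ a : G, (orderOf a = p ∧ ¬ PRankLE p 2 C[a]) → θ a ≤ C[a] ∧ ¬ p ∣ #(θ a) ∧ Sol (θ a))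
    (heq : ∀ a g : G, (orderOf a = p ∧ ¬ PRankLE p 2 C[a]) → θ (g * a * g⁻¹) = cj g (θ a))
    (hbal : ∀ a b : G, (orderOf a = p ∧ ¬ PRankLE p 2 C[a]) → (orderOf b = p ∧ ¬ PRankLE p 2 C[b]) → a * b = b * a →
      θ a ⊓ C[b] ≤ θ b) (ha : orderOf a = p ∧ ¬ PRankLE p 2 C[a]) : θ a = ⊥ := by
  have good : ∀ {A : Subgroup G}, Abelem p A → p ^ 3 ≤ #A → ∀ a ∈ A, a ≠ 1 → orderOf a = p ∧ ¬ PRankLE p 2 C[a] :=
    fun hA h3 a ha h1 => ⟨hA.orderOf hp ha h1, (not_prankLE_two hp).2 ⟨_, fun x hx =>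
      mem_cen1.2 (ab_iff_forall.1 hA.ab x hx a ha), hA, h3⟩⟩
  have key : ∀ {A E : Subgroup G}, Abelem p A → p ^ 3 ≤ #A → E ≤ A → p ^ 2 ≤ #E →
      signalizerClosure E θ = signalizerClosure A θ ∧ PiGrp {p}ᶜ (signalizerClosure A θ) := fun {A E} hA h3 hE h2 => by
    let σ := sigOf hp hA (sq_le_of_cube_le hp h3) (θ := θ) ⟨⟨fun a h1 h2 => (hC a (good hA h3 a h1 h2)).1,
      fun a h1 h2 => (hC a (good hA h3 a h1 h2)).2.1, fun a h1 h2 b hb x hx => by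
        have := heq a b (good hA h3 a h1 h2)
        rw [ab_iff_forall.1 hA.ab b hb a h1, mul_inv_cancel_right] at this
        exact this ▸ conj_mem_cj.2 hx,
      fun a h1 h2 b h4 h5 => hbal a b (good hA h3 a h1 h2) (good hA h3 b h4 h5) (ab_iff_forall.1 hA.ab a h1 b h4)⟩,
      fun a h1 h2 => (hC a (good hA h3 a h1 h2)).2.2⟩
    exact ⟨Sig.cl_eq (σ := σ) hE (not_cyc_of_sq_le hp (hA.mono hE) h2), (Sig.complete (σ := σ) h3).mem_cl.p'⟩
  have edge : ∀ E E', IsRankGraphVertex p 2 E → IsRankGraphVertex p 2 E' →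
      signalizerClosure E θ = signalizerClosure E' θ := fun E E' h h' => by
    induction hconn E E' h h' with
    | refl => rfl
    | @tail B D _ hb ih =>
      rw [ih hb.1]
      have hA : Abelem p (B ⊔ D) := Abelem.sup hb.1.1 hb.2.1.1 fun d hd => mem_centralizer_iff.2 fun b h => hb.2.2 b h d hd
      by_cases h3 : p ^ 3 ≤ #(B ⊔ D)
      · rw [(key hA h3 le_sup_left hb.1.2.1).1, (key hA h3 le_sup_right hb.2.1.2.1).1]
      · obtain ⟨n, hn⟩ := hA.card hp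
        have : #(B ⊔ D) ≤ p ^ 2 := by
          rw [hn] at h3 ⊢; rw [Nat.pow_le_pow_iff_right hp.one_lt] at h3 ⊢; omega
        rw [eq_of_le_of_card_ge (le_sup_left : B ≤ B ⊔ D) (this.trans hb.1.2.1),
          ← eq_of_le_of_card_ge (le_sup_right : D ≤ B ⊔ D) (this.trans hb.2.1.2.1)]
  obtain ⟨B, h1, h2, h3⟩ := (not_prankLE_two hp).1 ha.2
  have hA : Abelem p (B ⊔ ⟪a⟫) := h2.sup_zpowers (mem_centralizer_iff.2 fun b hb => mem_cen1.1 (h1 hb))
    (ha.1 ▸ pow_orderOf_eq_one a)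
  have h4 : p ^ 3 ≤ #(B ⊔ ⟪a⟫) := h3.trans (card_le_of_le le_sup_left)
  have vx : ∀ {A : Subgroup G}, Abelem p A → p ^ 3 ≤ #A → IsRankGraphVertex p 2 A := fun hA h3 =>
    ⟨hA, sq_le_of_cube_le hp h3, (not_prankLE_two hp).2 ⟨_, ab_iff.1 hA.ab, hA, h3⟩⟩
  set A := B ⊔ ⟪a⟫
  have hn : signalizerClosure A θ ⊴ ⊤ := ⟨le_top, fun g _ => mem_nrm_of_cj_le (by
    conv_rhs => rw [edge A (cj g A) (vx hA h4) (vx (hA.cj g) (by rwa [card_cj]))]
    refine cj_le_iff.2 (iSup_le fun b => cj_le_iff.1 ?_)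
    rw [← heq b g (good hA h4 b b.2.1 b.2.2)]
    exact le_iSup (fun c : {c : G // c ∈ cj g A ∧ c ≠ 1} => θ c)
      ⟨g * b * g⁻¹, conj_mem_cj.2 b.2.1, by simpa using b.2.2⟩)⟩
  have := (pcore_max (key hA h4 le_rfl (sq_le_of_cube_le hp h4)).2 hn).trans hO.le
  exact le_bot_iff.1 ((le_iSup (fun c : {c : G // c ∈ A ∧ c ≠ 1} => θ c) ⟨a, mem_sup_right (mem_zpowers a),
    fun h => hp.one_lt.ne' (by rw [← ha.1, h, orderOf_one])⟩).trans this)

end Cfsg.Agent.H1
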