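import Mathlib
import Cfsg.Agent.H1.Six5
import Cfsg.Agent.S3331
import Cfsg.Agent.GO.O168
import Cfsg.Agent.H10.SL
import Cfsg.Agent.H10.Congr

/-! The centraliser of an involution. -/

set_option autoImplicit false
set_option linter.unusedSectionVars false

namespace Cfsg.Agent.H1.Six

open Cfsg Subgroup Cfsg.Agent.FT Cfsg.Agent.H3 Cfsg.Agent.H28
open scoped commutatorElement MatrixGroups

variable {G : Type*} [Group G] [Finite G] {t y a b c d e f g k r s u v w x z : G} {Q A B M N P K S T X : Subgroup G}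

/-- the hypotheses -/
structure Hp (t y : G) : Prop where
  t1 : t ≠ 1
  tt : t * t = 1
  oy : orderOf y = 3
  yt : y ∈ C[t]
  cx : ∀ a ∈ C[t], a ∈ C[y] → a ∈ ⟪y⟫ ∨ a * t ∈ ⟪y⟫
  one : One G
  zs : ∃ g, g * t * g⁻¹ ∈ C[t] ∧ g * t * g⁻¹ ≠ t

theorem p2 (h : a * a = 1) : PiElt {2} a := pElt_of_pow_eq_one Nat.prime_two ((sq a).trans h)

theorem o2 (h : a * a = 1) (h1 : a ≠ 1) : orderOf a = 2 := orderOf_eq_prime ((sq a).trans h) h1

namespace Hp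

variable (h : Hp t y)
include h

theorem y3 : y ^ 3 = 1 := h.oy ▸ pow_orderOf_eq_one y
theorem ot : orderOf t = 2 := o2 h.tt h.t1
theorem mt : a ∈ ⟪t⟫ ↔ a = 1 ∨ a = t := mem_zpowers_two ((sq t).trans h.tt)
theorem p3 (ha : a ∈ ⟪y⟫) : PiElt {3} a := (pElt_of_pow_eq_one Nat.prime_three h.y3).of_mem_zpowers ha
theorem cy3 : #⟪y⟫ = 3 := (card_zpowers' y).trans h.oy
theorem y1 : y ≠ 1 := fun e => by simpa [e] using h.oy

theorem cy (a : G) (h1 : a ∈ C[t]) (h2 : a ∈ C[y]) (h3 : PiElt {2}ᶜ a) : a ∈ ⟪y⟫ :=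
  (h.cx a h1 h2).resolve_right fun z => h.t1 ((p2 h.tt).eq_one (by
    simpa using h3.inv.mul ((h.p3 z).pi (π := {2}ᶜ) (by simp))
      ((Commute.refl a).mul_right (mem_cen1.1 h1)).inv_left))

theorem c2 (h1 : a ∈ C[t]) (h2 : a ∈ C[y]) (h3 : PiElt {3}ᶜ a) : a ∈ ⟪t⟫ := by
  rcases h.cx a h1 h2 with z | z
  · exact (h.p3 z).eq_one h3 ▸ one_mem _
  · exact (mul_mem_cancel_right (mem_zpowers t)).1
      ((h.p3 z).eq_one (h3.mul ((p2 h.tt).pi (by simp)) (mem_cen1.1 h1)) ▸ one_mem _)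

theorem s3 : Syl 3 ⟪y⟫ C[t] := syl3 h.oy h.yt h.cy

theorem cj3 (hr : r ∈ C[t]) (o : orderOf r = 3) : ∃ c ∈ C[t], ⟪y⟫ = ⟪c * r * c⁻¹⟫ := by
  obtain ⟨c, hc, m⟩ := h.s3.syl_elt hr ((piElt_of_orderOf_prime Nat.prime_three o).2 rfl)
  exact ⟨c, hc, eq_zpowers_of_prime (h.cy3 ▸ Nat.prime_three) m (conj_ne_one.2 fun e => by simp [e] at o)⟩

theorem star0 (ee : e * e = 1) (e1 : e ≠ 1) (o : orderOf r = 3) (re : r ∈ C[e]) (xe : x ∈ C[e]) (xr : x ∈ C[r]) :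
    ∃ g, g * e * g⁻¹ = t ∧ g * x * g⁻¹ ∈ C[t] ∧ g * x * g⁻¹ ∈ C[y] := by
  obtain ⟨g, z⟩ := h.one e t ee e1 h.tt h.t1
  obtain ⟨c, hc, m⟩ := h.cj3 (z ▸ cjcen re g) ((FT.orderOf_conj g r).trans o)
  have e2 : ∀ w, c * g * w * (c * g)⁻¹ = c * (g * w * g⁻¹) * c⁻¹ := fun w => by group
  have e3 : c * g * e * (c * g)⁻¹ = t := by rw [e2, z, mem_cen1.1 hc, mul_inv_cancel_right]
  refine ⟨c * g, e3, e3 ▸ cjcen xe _, ?_⟩
  rw [← cen_zpowers, m, cen_zpowers, ← e2]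
  exact cjcen xr _

theorem star : Star G := fun e r x ee e1 o re xx xe xr => by
  obtain ⟨g, z, h1, h2⟩ := h.star0 ee e1 o re xe xr
  refine (h.mt.1 (h.c2 h1 h2 (((p2 xx).conj g).pi (by simp)))).imp conj_eq_one_iff.1 fun m => ?_
  exact mul_left_cancel (mul_right_cancel (m.trans z.symm))

theorem six (o : 6 ∣ orderOf w) : orderOf w = 6 := by
  have n := (orderOf_pos w).ne'
  have a := orderOf_pow_orderOf_div n ((by norm_num : 2 ∣ 6).trans o)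
  obtain ⟨g, -, h1, h2⟩ := h.star0 (x := w) (by rw [← sq, ← a, pow_orderOf_eq_one]) (fun e => by simp [e] at a)
    (orderOf_pow_orderOf_div n ((by norm_num : 3 ∣ 6).trans o)) (mem_cen1.2 (Commute.pow_pow_self w _ _))
    (mem_cen1.2 (Commute.self_pow w _)) (mem_cen1.2 (Commute.self_pow w _))
  refine Nat.dvd_antisymm (FT.orderOf_conj g w ▸ orderOf_dvd_of_pow_eq_one ?_) o
  have k : ∀ a ∈ ⟪y⟫, a ^ 6 = 1 := fun a ha => orderOf_dvd_iff_pow_eq_one.1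
    ((h.cy3 ▸ orderOf_dvd_card' ha).trans (by norm_num))
  rcases h.cx _ h1 h2 with z | z
  · exact k _ z
  · have := k _ z
    rwa [(show Commute _ t from mem_cen1.1 h1).mul_pow, show 6 = 2 * 3 from rfl, pow_mul t, sq t, h.tt, one_pow,
      mul_one] at this

theorem sylH (hS : Syl 2 S C[t]) : Syl 2 S ⊤ := by
  obtain ⟨P, hP, tP⟩ := (p2 h.tt).zpowers.exists_syl le_top
  obtain ⟨z, hz, zz, z1⟩ := inv2 (hP.pi.inf_left _) (hP.pi.nil.center_ne_bot fun e =>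
    h.t1 (mem_bot.1 (e ▸ tP (mem_zpowers t))))
  obtain ⟨g, e⟩ := h.one z t zz z1 h.tt h.t1
  have := hP.cj_mem (mem_top g)
  exact this.of_card_eq le_top (hS.card_eq (this.subl (e ▸ cj_cen1 g z ▸ cj_mono g (le_cen1.2 hz.2)) le_top))

theorem into (hS : Syl 2 S C[t]) (hv : v ∈ C[t]) (vv : v * v = 1) (v1 : v ∉ ⟪t⟫) :
    ∃ c ∈ C[t], c * v * c⁻¹ ∈ S ∧ c * v * c⁻¹ * (c * v * c⁻¹) = 1 ∧ c * v * c⁻¹ ∉ ⟪t⟫ := by
  obtain ⟨c, hc, m⟩ := hS.syl_elt hv (p2 vv)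
  exact ⟨c, hc, m, by rw [conj_mul, vv]; simp, fun z => v1 (by
    simpa [mul_assoc] using conj_mem' (norms_zpowers_of_cen1 le_rfl hc) z)⟩

theorem inv0 : ∃ v ∈ C[t], v * v = 1 ∧ v ∉ ⟪t⟫ := by
  obtain ⟨g, h1, h2⟩ := h.zs
  exact ⟨_, h1, by rw [conj_mul, h.tt]; simp, fun z => (h.mt.1 z).elim (conj_ne_one.2 h.t1) h2⟩

theorem inv (hS : Syl 2 S C[t]) : ∃ v ∈ S, v * v = 1 ∧ v ∉ ⟪t⟫ := by
  obtain ⟨v, h1, h2, h3⟩ := h.inv0
  obtain ⟨c, -, z⟩ := h.into hS h1 h2 h3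
  exact ⟨_, z⟩

theorem dt (tQ : t ∈ Q) (ct : Q ≤ C[t]) (pQ : PGrp 2 Q) (yn : y ∈ N(Q)) : Dt t y Q :=
  ⟨h.t1, h.tt, tQ, ct, pQ, yn, h.y3, h.yt, fun _ ha e => h.c2 (ct ha) (mem_cen1.2 e) ((pQ.piElt ha).pi (by simp))⟩

theorem no27 (f : C[t] →* PSL(2, ZMod 7)) (hf : Function.Surjective f) (k : pker f = ⟪t⟫) : False := by
  have : IsSimpleGroup PSL(2, ZMod 7) := H10.isSimpleGroup_PSL_fin le_rfl fun _ => by simp
  have c : Nat.card PSL(2, ZMod 7) = 168 := by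
    have := H10.card_PSL2 (F := ZMod 7)
    rw [Nat.card_zmod] at this
    change 2 * _ = 336 at this
    omega
  obtain ⟨v, hv, vv, v1⟩ := h.inv0
  have sq : ∀ a ∈ C[t], orderOf (pfun f a) = 2 → a * a = 1 := fun a ha o => by
    obtain ⟨g, e⟩ := GO.O168.conj2 c (o2 (by rw [← pfun_mul f hv hv, vv, pfun_one])
      fun z => v1 (k ▸ (pfun_eq_one_iff hv).1 z)) o
    obtain ⟨⟨g, hg⟩, rfl⟩ := hf g
    rw [← pfun_of_mem, ← pfun_conj f hg hv, pfun_eq_iff (cmem' hg hv) ha, k, h.mt, inv_mul_eq_one,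
      inv_mul_eq_iff_eq_mul] at e
    have m : g * v * g⁻¹ * (g * v * g⁻¹) = 1 := by rw [conj_mul, vv]; simp
    rcases e with rfl | rfl
    · exact m
    · rw [mul_assoc, ← mul_assoc t, ← mem_cen1.1 (cmem' hg hv), mul_assoc _ t, h.tt, mul_one, m]
  obtain ⟨r, o⟩ := (GO.O168.ord_iff c (m := 4)).2 (by simp)
  obtain ⟨⟨r, hr⟩, rfl⟩ := hf r
  have o' : orderOf (pfun f (r * r)) = 2 := by
    rw [pfun_mul f hr hr, ← _root_.sq, pfun_of_mem f hr, orderOf_pow' _ two_ne_zero, o]; rfl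
  obtain ⟨g, e⟩ := h.one _ t (sq _ (mul_mem hr hr) o') (fun z => by simp [z, pfun_one] at o') h.tt h.t1
  rw [← conj_mul] at e
  generalize g * r * g⁻¹ = a at e
  have ha : a ∈ C[t] := mem_cen1.2 (by rw [← e, mul_assoc])
  refine h.t1 (e.symm.trans (sq a ha (o2 (by rw [← pfun_mul f ha ha, e, pfun_eq_one_iff (self_mem_cen1 t), k]; simp)
    fun z => ?_)))
  rcases h.mt.1 (k ▸ (pfun_eq_one_iff ha).1 z) with x | x <;> rw [x] at e
  · exact h.t1 (by simpa using e.symm)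
  · exact h.t1 (e.symm.trans h.tt)
where cmem' {L : Subgroup G} {c a : G} (hc : c ∈ L) (ha : a ∈ L) : c * a * c⁻¹ ∈ L := conj_mem (le_nrm L hc) ha

theorem top : (∃ N, N ⊴ C[t] ∧ t ∈ N ∧ Nil N ∧ PiGrp {3}ᶜ N ∧ (N.relIndex C[t] = 3 ∨
    ∃ f : C[t] →* Equiv.Perm (Fin 3), Function.Surjective f ∧ pker f = N)) ∨
    ∃ f : C[t] →* alternatingGroup (Fin 5), Function.Surjective f ∧ PGrp 2 (pker f) ∧ t ∈ pker f := by
  have nt : C[t] ≤ N(⟪t⟫) := norms_zpowers_of_cen1 le_rfl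
  have tl : ⟪t⟫ ≤ C[t] := zpowers_le.2 (self_mem_cen1 t)
  have : (⟪t⟫.subgroupOf C[t]).Normal := (normal_subgroupOf_iff_le_normalizer tl).2 nt
  let π := QuotientGroup.mk' (⟪t⟫.subgroupOf C[t])
  have πs : Function.Surjective π := QuotientGroup.mk'_surjective _
  have k : pker π = ⟪t⟫ := by rw [pker, QuotientGroup.ker_mk', map_so tl]
  have pd : pmap π C[t] = ⊤ := by rw [pmap_dom, MonoidHom.range_eq_top.2 πs]
  have yk : y ∉ ⟪t⟫ := fun z => h.y1 ((h.p3 (mem_zpowers y)).eq_one (((p2 h.tt).of_mem_zpowers z).pi (by simp)))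
  have o : orderOf (pfun π y) = 3 := orderOf_eq_prime (by rw [← pfun_pow π h.yt, h.y3, pfun_one])
    fun z => yk (k ▸ (pfun_eq_one_iff h.yt).1 z)
  have ker : ∀ {X : Type} [Group X] (U : Subgroup (C[t] ⧸ ⟪t⟫.subgroupOf C[t])) [U.Normal] (e : _ ⧸ U ≃* X),
      ∃ f : C[t] →* X, Function.Surjective f ∧ pker f = ppre π U := fun U _ e =>
    ⟨(e.toMonoidHom.comp (QuotientGroup.mk' U)).comp π, (e.surjective.comp (QuotientGroup.mk'_surjective U)).comp πs, by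
      rw [pker, ppre]; congr 1; ext; simp⟩
  have tU : ∀ U, t ∈ ppre π U := fun U => pker_le_ppre π U (k.ge (mem_zpowers t))
  rcases S3331.result ⟪pfun π y⟫ ((card_zpowers' _).trans o) (le_antisymm (fun q hq => by
      obtain ⟨⟨a, ha⟩, rfl⟩ := πs q
      have e := mem_cen1.1 (cen_le_cen1 (mem_zpowers _) hq)
      rw [← pfun_of_mem, ← pfun_mul π ha h.yt, ← pfun_mul π h.yt ha,
        pfun_eq_iff (mul_mem ha h.yt) (mul_mem h.yt ha), k] at e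
      have c : a ∈ C[y] := by
        rcases h.mt.1 e with z | z
        · exact mem_cen1.2 (inv_mul_eq_one.1 z)
        have e2 : a⁻¹ * y * a⁻¹⁻¹ = y * t := by rw [← z]; group
        have := congrArg (· ^ 3) e2
        simp only [conj_pow, (show Commute y t from mem_cen1.1 h.yt).mul_pow, h.y3, pow_succ t, pow_zero, one_mul,
          h.tt, mul_one, mul_inv_cancel] at this
        exact (h.t1 this.symm).elim
      rw [← pfun_of_mem, ← pmap_zpowers π h.yt]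
      rcases h.cx a ha c with z | z
      · exact mem_pmap_of_mem π ha z
      · have := mem_pmap_of_mem π (mul_mem ha (self_mem_cen1 t)) z
        rwa [pfun_mul π ha (self_mem_cen1 t), (pfun_eq_one_iff (self_mem_cen1 t)).2 (k.ge (mem_zpowers t)), mul_one] at this)
      (ab_iff.1 (ab_zpowers _))) with ⟨U, _, n, c, e⟩ | ⟨U, _, -, n, ⟨e⟩⟩ | ⟨⟨e⟩⟩
  · refine .inl ⟨ppre π U, ⟨ppre_le π U, (ppre_top π).ge.trans ((nml_top_iff.2 ‹_›).ppre π).nrm⟩, tU U, ?_, PiGrp.ppre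
      ((p'grp_iff_coprime Nat.prime_three).2 c) (((p2 h.tt).zpowers.p' (by norm_num)).mono k.le), e.imp (fun e => ?_) fun ⟨e⟩ => ker U e⟩
    · have : Group.IsNilpotent (pmap π (ppre π U)) := by rwa [pmap_ppre_of_le (pd ▸ le_top)]
      refine Subgroup.isNilpotent_of_ker_le_center (pmapHom π (ppre_le π U)) fun a ha => mem_center_iff.2 fun b => Subtype.ext ?_
      rw [pmapHom_ker, k] at ha
      exact mem_cen1.1 (cen1_le_cen1_of_mem_zpowers ha (ppre_le π U b.2))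
    · rw [relIndex_ppre π U le_rfl, pd, relIndex_top_right]; exact e
  · obtain ⟨f, hf, e⟩ := ker U e
    exact .inr ⟨f, hf, e ▸ PiGrp.ppre (piGrp_iff_forall.2 fun a ha => pElt_of_pow_eq_one Nat.prime_two (n a ha))
      ((p2 h.tt).zpowers.mono k.le), e ▸ tU U⟩
  · exact (h.no27 (e.toMonoidHom.comp π) (e.surjective.comp πs) (Eq.trans (by
      rw [pker, pker]; congr 1; ext; simp) k)).elim

end Hp

end Cfsg.Agent.H1.Six
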