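import Mathlib
import Cfsg.Agent.H2.Balance3
import Cfsg.Agent.H22.S3A

/-! The Thompson–Wielandt theorem, Wielandt's bound and Sims' theorem on subdegree three. -/

set_option autoImplicit false
set_option linter.unusedSectionVars false

namespace Cfsg.Agent.H1

open Cfsg Subgroup Cfsg.Agent.FT

variable {G : Type*} [Group G] [Finite G] {M N X Y K D R : Subgroup G} {x g : G} {p : ℕ}

/-- the core of `Y` in `M` -/
def cor (M Y : Subgroup G) : Subgroup G := ((Y.subgroupOf M).normalCore).map M.subtype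

theorem mem_cor : x ∈ cor M Y ↔ x ∈ M ∧ ∀ m ∈ M, m * x * m⁻¹ ∈ Y := by
  constructor
  · rintro ⟨y, hy, rfl⟩
    exact ⟨y.2, fun m hm => hy ⟨m, hm⟩⟩
  · rintro ⟨h1, h2⟩
    exact ⟨⟨x, h1⟩, fun m => h2 m m.2, rfl⟩

theorem cor_le (M Y : Subgroup G) : cor M Y ≤ Y := fun x hx => by
  simpa using (mem_cor.1 hx).2 1 M.one_mem

theorem cor_nml (M Y : Subgroup G) : cor M Y ⊴ M := nml_map_subtype _

theorem le_cor (h : X ⊴ M) (hY : X ≤ Y) : X ≤ cor M Y := fun _ hx =>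
  mem_cor.2 ⟨h.le hx, fun _ hm => hY (h.conj_mem hm hx)⟩

theorem cor_so (M Y : Subgroup G) : (cor M Y).subgroupOf M = (Y.subgroupOf M).normalCore := so_map _

theorem index_core_dvd {H : Type*} [Group H] [Finite H] (Y : Subgroup H) :
    Y.normalCore.index ∣ (Y.index).factorial := by
  rw [normalCore_eq_ker, index_ker, index_eq_card, ← Nat.card_perm]
  exact card_subgroup_dvd_card _

theorem card_stab_perm {α : Type*} [Finite α] (a : α) :
    Nat.card (MulAction.stabilizer (Equiv.Perm α) a) = (Nat.card α - 1).factorial := by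
  classical
  have h1 := (MulAction.stabilizer (Equiv.Perm α) a).card_mul_index
  rw [MulAction.index_stabilizer_of_transitive, Nat.card_perm] at h1
  have : Nonempty α := ⟨a⟩
  have h2 : 0 < Nat.card α := Nat.card_pos
  rw [← Nat.mul_factorial_pred h2.ne', mul_comm] at h1
  exact Nat.eq_of_mul_eq_mul_left h2 h1

theorem relIndex_core_dvd {H : Type*} [Group H] [Finite H] (Y : Subgroup H) :
    Y.normalCore.relIndex Y ∣ (Y.index - 1).factorial := by
  rw [normalCore_eq_ker, ← card_map_eq, index_eq_card, ← card_stab_perm ((1 : H) : H ⧸ Y)]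
  refine card_dvd ?_
  rintro _ ⟨y, hy, rfl⟩
  rw [MulAction.mem_stabilizer_iff]
  change y • ((1 : H) : H ⧸ Y) = _
  rw [MulAction.Quotient.smul_coe, QuotientGroup.eq]
  simpa using hy

theorem relIndex_cor_dvd (M Y : Subgroup G) : (cor M Y).relIndex M ∣ (Y.relIndex M).factorial := by
  rw [relIndex, cor_so]; exact index_core_dvd _

theorem relIndex_cor_dvd' (h : Y ≤ M) : (cor M Y).relIndex Y ∣ (Y.relIndex M - 1).factorial := by
  rw [← relIndex_subgroupOf h, cor_so]; exact relIndex_core_dvd _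

theorem relIndex_biInf_dvd {ι : Type*} (s : Finset ι) (f : ι → Subgroup G) (k : ℕ) (hn : ∀ i, X ≤ N(f i))
    (h : ∀ i, (f i).relIndex X ∣ k) : (⨅ i ∈ s, f i).relIndex X ∣ k ^ s.card := by
  classical
  induction s using Finset.induction_on with
  | empty => simp
  | insert a s ha ih =>
    rw [Finset.iInf_insert, Finset.card_insert_of_notMem ha, pow_succ', ← inf_relIndex_right,
      ← relIndex_mul (B := (⨅ i ∈ s, f i) ⊓ X) (inf_le_inf_right _ inf_le_right) inf_le_right,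
      inf_relIndex_right, inf_assoc, inf_relIndex_right]
    exact Nat.mul_dvd_mul ((relIndex_dvd_of_norm inf_le_right (hn a)).trans (h a)) ih

/-- the core in `M` of a subgroup `Y` normalised by `D ≤ M`, inside a normal subgroup `X` -/
theorem relIndex_cor_dvd_pow (hX : X ⊴ M) (hD : D ≤ N(Y)) (hY : X ≤ N(Y)) :
    (cor M Y).relIndex X ∣ (Y.relIndex X) ^ (D.relIndex M) := by
  classical
  have : Fintype (M ⧸ D.subgroupOf M) := Fintype.ofFinite _
  have key := relIndex_biInf_dvd (X := X) Finset.univ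
    (fun q : M ⧸ D.subgroupOf M => cj ((q.out : M) : G) Y) (Y.relIndex X)
    (fun q => by
      have := (cj_norms (g := ((q.out : M) : G))).2 hY
      rwa [cj_of_mem_nrm (hX.nrm q.out.2)] at this)
    (fun q => by
      have := relIndex_cj ((q.out : M) : G) Y X
      rw [cj_of_mem_nrm (hX.nrm q.out.2)] at this
      rw [this])
  rw [Finset.card_univ, ← Nat.card_eq_fintype_card, ← index_eq_card] at key
  refine dvd_trans ?_ key
  rw [← inf_relIndex_right (⨅ _ ∈ _, _)]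
  refine relIndex_dvd_of_le (fun x hx => mem_cor.2 ⟨hX.le (mem_inf.1 hx).2, fun m hm => ?_⟩) _
  have h1 := (mem_inf.1 hx).1
  simp only [Finset.mem_univ, iInf_pos, mem_iInf] at h1
  have h2 := mem_cj.1 (h1 ((⟨m, hm⟩ : M)⁻¹ : M))
  obtain ⟨d, hd⟩ := QuotientGroup.mk_out_eq_mul (D.subgroupOf M) ((⟨m, hm⟩ : M)⁻¹ : M)
  rw [hd] at h2
  have h3 := conj_mem (hD d.2) h2
  simpa [mul_assoc] using h3

/-- Wielandt's index bound -/
theorem relIndex_cor2_dvd (h : (M ⊓ N).relIndex N = (M ⊓ N).relIndex M) :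
    (cor M (cor M (M ⊓ N) ⊓ cor N (M ⊓ N))).relIndex M ∣
      ((M ⊓ N).relIndex M).factorial * (((M ⊓ N).relIndex M - 1).factorial) ^ ((M ⊓ N).relIndex M) := by
  have hA := cor_nml M (M ⊓ N)
  have hB := cor_nml N (M ⊓ N)
  have hD : M ⊓ N ≤ N(cor M (M ⊓ N) ⊓ cor N (M ⊓ N)) :=
    normsI (inf_le_left.trans hA.nrm) (inf_le_right.trans hB.nrm)
  rw [← relIndex_mul ((cor_le _ _).trans inf_le_left) hA.le, mul_comm]
  refine Nat.mul_dvd_mul (relIndex_cor_dvd _ _)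
    ((relIndex_cor_dvd_pow hA hD ((cor_le _ _).trans hD)).trans (pow_dvd_pow_of_dvd ?_ _))
  rw [inf_relIndex_left, ← h]
  exact (relIndex_dvd_of_norm (cor_le _ _) (inf_le_right.trans hB.nrm)).trans (relIndex_cor_dvd' inf_le_right)

theorem primit_of_core (hM : IsCoatom M) (hc : M.normalCore = ⊥) : Primit M := fun K hK h1 => by
  rcases hM.le_iff.1 hK.nrm with e | e
  · have := normalizer_eq_top_iff.1 e
    exact (h1 (eq_bot_of_le (normal_le_normalCore.2 hK.le) hc)).elim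
  · exact e.le

theorem primit_cj (h : Primit M) (g : G) : Primit (cj g M) := fun K hK h1 => by
  have h2 := hK.cj g⁻¹
  rw [cj_inv_cj] at h2
  have := h _ h2 (fun e => h1 (cj_eq_bot.1 e))
  rwa [← cj_nrm, cj_le_iff, inv_inv] at this

/-- a normal `p`-subgroup normalises every subnormal subgroup without `p`-quotient -/
theorem norms_of_piGen (hR : R ⊴ D) (hp : PGrp p R) (hK : Subn K D) (e : piGen {p}ᶜ K = K) : R ≤ N(K) := by
  have h1 : piGen {p}ᶜ (R ⊔ K) = K := le_antisymm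
    (Subn.piGen_sup (hK.mono le_sup_right (sup_le hR.le hK.le)) (piGrp_compl_compl.2 hp) (hK.le.trans hR.nrm))
    (e.symm.le.trans (piGen_mono _ le_sup_right))
  have := norms_piGen {p}ᶜ (le_sup_left.trans (le_nrm (R ⊔ K)))
  rwa [h1] at this

theorem selfC_subn (hX : Subn X M) : SelfC (F*(M) ⊓ N(F*(X))) M :=
  ⟨le_inf (lay_le_gfit M) (lay_norms_subn (Subn.nml_trans (gfit_nml X) hX)), inf_le_left,
    inf_le_inf_left _ (cents_norm (cen_anti (le_inf (gfit_mono_subn hX) (le_nrm _))))⟩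

theorem charP_of_subn (hM : Primit M) (hN : Primit N) (hne : M ≠ N) (hX : X ⊴ M) (hX' : Subn X N) (h1 : X ≠ ⊥)
    (hY : Y ⊴ N) (hY' : Subn Y M) (h2 : Y ≠ ⊥) : ∃ p, p.Prime ∧ CharP' p M ∧ CharP' p N := by
  obtain ⟨p, hp, a, b⟩ := bender_primit (selfC_subn hY') (selfC_subn hX') hM hN
    (inf_le_right.trans (hN _ hY.gfit (gfit_ne_bot h2))) (inf_le_right.trans (hM _ hX.gfit (gfit_ne_bot h1))) hne
  exact ⟨p, hp, charP'_iff_pGrp.2 a, charP'_iff_pGrp.2 b⟩

theorem cor2_subn (M N : Subgroup G) : Subn (cor M (cor M (M ⊓ N) ⊓ cor N (M ⊓ N))) N :=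
  Subn.nml_trans ((cor_nml _ _).mono ((cor_le _ _).trans inf_le_right) ((cor_le _ _).trans inf_le_left))
    (cor_nml _ _).subn

/-- Thompson–Wielandt: the second core is a `p`-group -/
theorem cor2_pGrp (hM : Primit M) (hN : Primit N) (hne : M ≠ N) (hc : #O[{p}](M) = #O[{p}](N))
    (h1 : O[{p}](N) ≠ ⊥) : PGrp p (cor M (cor M (M ⊓ N) ⊓ cor N (M ⊓ N))) := by
  set A := cor M (cor M (M ⊓ N) ⊓ cor N (M ⊓ N)) with hA
  set B := cor N (M ⊓ N) with hB
  refine piGrp_compl_compl.1 (piGen_eq_bot_iff.1 ?_)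
  by_contra hK
  set K := piGen {p}ᶜ A with hKe
  have eK : piGen {p}ᶜ K = K := piGen_idem _ _
  have hAM : A ⊴ M := cor_nml _ _
  have hBN : B ⊴ N := cor_nml _ _
  have hBD : B ≤ M ⊓ N := cor_le _ _
  have hKM : K ⊴ M := ⟨(piGen_le _ _).trans hAM.le, norms_piGen _ hAM.nrm⟩
  have hKB : K ⊴ B := hKM.mono ((piGen_le _ _).trans ((cor_le _ _).trans inf_le_right)) (hBD.trans inf_le_left)
  have hNK := hM K hKM hK
  have hP : O[{p}](N) ≤ M :=
    (norms_of_piGen (pcore_nml _ N) (pcore_pi _ _) (Subn.nml_trans hKB hBN.subn) eK).trans hNK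
  have hR : O[{p}](M) ⊓ N ⊴ M ⊓ N := (pcore_nml _ M).inf_right N
  have hRB : O[{p}](M) ⊓ N ≤ B := fun x hx => mem_cor.2 ⟨hx.2, fun m hm => ⟨?_, N.mul_mem (N.mul_mem hm hx.2) (N.inv_mem hm)⟩⟩
  · have hRP : O[{p}](M) ⊓ N ≤ O[{p}](N) :=
      pcore_max_subn ((pcore_pi _ _).inf_left _) (Subn.nml_trans (hR.mono hRB hBD) hBN.subn)
    have hn : O[{p}](N) ≤ N(O[{p}](M)) := hP.trans (pcore_nrm _ _)
    have hS : PGrp p (O[{p}](M) ⊔ O[{p}](N)) := (pcore_pi _ _).sup (pcore_pi _ _) hn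
    have e := hS.nil.eq_of_subnorm_le le_sup_right (H := O[{p}](N)) (by
      refine (inf_le_inf_left _ (hN _ (pcore_nml _ _) h1)).trans ?_
      rw [inf_comm, inf_sup_right hn (pcore_le _ _), inf_comm]
      exact sup_le hRP le_rfl)
    have e2 : O[{p}](M) = O[{p}](N) := eq_of_card_eq (le_sup_left.trans e.ge) hc
    exact hne (hM.eq_of_nml hN (e2 ▸ pcore_nml _ M) (pcore_nml _ N) h1)
  · have h2 : cj m⁻¹ K ⊴ B := by
      have := hKB.cj m⁻¹
      rwa [cj_of_mem_nrm (hBN.nrm (N.inv_mem hm))] at this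
    have h3 := norms_of_piGen hR ((pcore_pi _ _).inf_left _)
      (Subn.nml_trans h2 (hBN.mono hBD inf_le_right).subn) (by rw [← cj_piGen, eK]) hx
    rw [← cj_nrm, mem_cj, inv_inv] at h3
    exact hNK h3

theorem charP_pcore_ne (h : CharP' p M) (h1 : M ≠ ⊥) : O[{p}](M) ≠ ⊥ := by
  rw [← charP'_iff.1 h]; exact gfit_ne_bot h1

theorem tw_main (hM : Primit M) (e : N = cj g M) (hne : M ≠ N) (h1 : cor M (cor M (M ⊓ N) ⊓ cor N (M ⊓ N)) ≠ ⊥)
    (h2 : cor N (cor M (M ⊓ N) ⊓ cor N (M ⊓ N)) ≠ ⊥) : ∃ p, p.Prime ∧ CharP' p M ∧ CharP' p N ∧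
      PGrp p (cor M (cor M (M ⊓ N) ⊓ cor N (M ⊓ N))) ∧ PGrp p (cor N (cor M (M ⊓ N) ⊓ cor N (M ⊓ N))) := by
  have hN : Primit N := e ▸ primit_cj hM g
  have s2 := cor2_subn N M
  rw [inf_comm N M, inf_comm (cor N _)] at s2
  obtain ⟨p, hp, a, b⟩ := charP_of_subn hM hN hne (cor_nml _ _) (cor2_subn M N) h1 (cor_nml _ _) s2 h2
  have hc : #O[{p}](M) = #O[{p}](N) := by rw [e, ← cj_pcore, card_cj]
  refine ⟨p, hp, a, b, cor2_pGrp hM hN hne hc (charP_pcore_ne b (ne_bot_of_le (cor_nml _ _).le h2)), ?_⟩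
  have := cor2_pGrp hN hM hne.symm hc.symm (charP_pcore_ne a (ne_bot_of_le (cor_nml _ _).le h1))
  rwa [inf_comm N M, inf_comm (cor N _)] at this

theorem relIndex_inf_eq (e : N = cj g M) : (M ⊓ N).relIndex N = (M ⊓ N).relIndex M := by
  have h1 := card_mul_relIndex (inf_le_left : M ⊓ N ≤ M)
  have h2 := card_mul_relIndex (inf_le_right : M ⊓ N ≤ N)
  have h3 : #N = #M := by rw [e, card_cj]
  exact Nat.eq_of_mul_eq_mul_left (card_pos _) (h2.trans (h3.trans h1.symm))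

theorem tw_card (e : N = cj g M) (h : cor M (cor M (M ⊓ N) ⊓ cor N (M ⊓ N)) = ⊥ ∨
    cor N (cor M (M ⊓ N) ⊓ cor N (M ⊓ N)) = ⊥) :
    #M ∣ ((M ⊓ N).relIndex M).factorial * (((M ⊓ N).relIndex M - 1).factorial) ^ ((M ⊓ N).relIndex M) := by
  have hi := relIndex_inf_eq e
  rcases h with h | h
  · have := relIndex_cor2_dvd hi
    rwa [h, relIndex_bot_left] at this
  · have := relIndex_cor2_dvd (M := N) (N := M) (by rw [inf_comm N M, hi])
    rw [inf_comm N M, inf_comm (cor N _), h, relIndex_bot_left, hi, e, card_cj, ← e] at this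
    exact this

theorem charP_gfit (hp : p.Prime) (h : CharP' p M) : generalizedFittingSubgroup M = pCore p M := by
  rw [← gfit_so, charP'_iff.1 h, pcore_subgroupOf, piCore_singleton hp]

theorem fitting_eq_bot_of_le (hM : Primit M) (e : N = cj g M) (hne : M ≠ N) (h : F(M ⊓ N) ≤ cor M (M ⊓ N)) :
    F(M ⊓ N) = ⊥ := by
  have hN : Primit N := e ▸ primit_cj hM g
  refine eq_bot_iff.2 (fitting_le_of_forall_pcore fun p _ => ?_)
  by_contra h1
  rw [le_bot_iff] at h1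
  have hA := cor_nml M (M ⊓ N)
  have hAD := hA.mono (cor_le _ _) inf_le_left
  have hQ : O[{p}](M ⊓ N) ⊴ M := by
    have := pcore_inf_nml {p} hAD
    rw [inf_eq_left.2 ((pcore_le_fitting _ _).trans h)] at this
    rw [this]; exact hA.pcore _
  have hn : O[{p}](M ⊓ N) ≤ N(O[{p}](N)) := (pcore_le _ _).trans (inf_le_right.trans (pcore_nrm _ _))
  have hS : PGrp p (O[{p}](N) ⊔ O[{p}](M ⊓ N)) := (pcore_pi _ _).sup (pcore_pi _ _) hn
  have e1 := hS.nil.eq_of_subnorm_le le_sup_right (H := O[{p}](M ⊓ N)) (by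
    refine (inf_le_inf_left _ (hM _ hQ h1)).trans ?_
    rw [inf_comm, inf_sup_right hn hQ.le]
    exact sup_le (inf_comm M _ ▸ pcore_max ((pcore_pi _ _).inf_left _)
      (inf_comm N M ▸ (pcore_nml _ N).inf_right M)) le_rfl)
  have hQM : O[{p}](M ⊓ N) ≤ O[{p}](M) := pcore_max (pcore_pi _ _) hQ
  have e2 : O[{p}](N) = O[{p}](M) :=
    eq_of_card_eq ((le_sup_left.trans e1.ge).trans hQM) (by rw [e, ← cj_pcore, card_cj])
  exact hne (hM.eq_of_nml hN (pcore_nml _ M) (e2 ▸ pcore_nml _ N) (ne_bot_of_le hQM h1))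

/-! ### subdegree three -/

open Cfsg.Agent.P22

theorem three_pGrp (hM : Primit M) (hN : Primit N) (hne : M ≠ N) (h1 : (M ⊓ N).relIndex M = 3)
    (h2 : (M ⊓ N).relIndex N = 3) : PGrp 2 (M ⊓ N) := by
  refine piGrp_compl_compl.1 (piGen_eq_bot_iff.1 ?_)
  by_contra hK
  have key : ∀ L : Subgroup G, M ⊓ N ≤ L → (M ⊓ N).relIndex L = 3 → piGen {2}ᶜ (M ⊓ N) ⊴ L := fun L hL h => by
    have a := relIndex_cor_dvd' hL
    rw [h] at a
    have b : piGen {2}ᶜ (M ⊓ N) ≤ cor L (M ⊓ N) := piGen_min (hL.trans (cor_nml _ _).nrm) fun q hq hd => by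
      simpa using (Nat.prime_dvd_prime_iff_eq hq Nat.prime_two).1 (hd.trans a)
    rw [← piGen_eq_of_le b (cor_le _ _)]
    exact ⟨(piGen_le _ _).trans (cor_nml _ _).le, norms_piGen _ (cor_nml _ _).nrm⟩
  exact hne (hM.eq_of_nml hN (key M inf_le_left h1) (key N inf_le_right h2) hK)

theorem three_s3l {T : Subgroup G} (hT : Syl 2 T M) (h1 : T.relIndex M = 3) (hn : ¬ M ≤ N(T)) : S3L M := by
  have e : O[{2}](M) = cor M T := le_antisymm (le_cor (pcore_nml _ _) (pcore_le_syl hT))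
    (pcore_max (hT.pi.mono (cor_le _ _)) (cor_nml _ _))
  have a := relIndex_cor_dvd' hT.le
  rw [h1] at a
  unfold S3L
  rw [e, ← relIndex_mul (cor_le M T) hT.le, h1]
  rcases (Nat.dvd_prime Nat.prime_two).1 a with b | b
  · rw [relIndex_eq_one] at b
    have := (cor_nml M T).nrm
    rw [le_antisymm (cor_le M T) b] at this
    exact (hn this).elim
  · rw [b]

theorem charP_cj (h : CharP' p M) (g : G) : CharP' p (cj g M) := by
  unfold CharP' at h ⊢
  rwa [← cj_pcore, ← cj_cen, ← cj_inf, cj_le_cj]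

theorem three_small {T : Subgroup G} (h : S3Am M N T) (hM : ¬ CharP' 2 M) (hN : ¬ CharP' 2 N) :
    O[{2}](M) ⊓ O[{2}](N) = ⊥ := by
  have hT : T ≤ N(O[{2}](M) ⊓ O[{2}](N)) :=
    normsI (h.t₁.le.trans (pcore_nrm _ _)) (h.t₂.le.trans (pcore_nrm _ _))
  refine h.core _ (inf_le_left.trans (pcore_le_syl h.t₁)) ?_ ?_
  · rw [← h.s₁.nml_sup h.t₁ (subcent_nml (pcore_nrm _ _)) hM]
    nth_rw 2 [h.s₁.nml_sup h.t₁ (subcent_nml (pcore_nrm _ _)) hM]
    exact sup_le hT (cents_norm (centsS inf_le_left inf_le_right))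
  · rw [← h.s₂.nml_sup h.t₂ (subcent_nml (pcore_nrm _ _)) hN]
    nth_rw 2 [h.s₂.nml_sup h.t₂ (subcent_nml (pcore_nrm _ _)) hN]
    exact sup_le hT (cents_norm (centsS inf_le_right inf_le_right))

theorem equiv_s3 {H : Type*} [Group H] [Finite H] (T : Subgroup H) (h1 : T.index = 3) (h2 : T.normalCore = ⊥)
    (h3 : Nat.card H = 6) : Nonempty (H ≃* Equiv.Perm (Fin 3)) := by
  classical
  have : Fintype (H ⧸ T) := Fintype.ofFinite _
  have e : (H ⧸ T) ≃ Fin 3 := Finite.equivFinOfCardEq h1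
  rw [normalCore_eq_ker, MonoidHom.ker_eq_bot_iff] at h2
  refine ⟨(MulEquiv.ofBijective (MulAction.toPermHom H (H ⧸ T)) ?_).trans e.permCongrHom⟩
  refine (Nat.bijective_iff_injective_and_card _).2 ⟨h2, ?_⟩
  rw [h3, Nat.card_perm, ← index_eq_card, h1]; rfl

theorem equiv_d12 {T : Subgroup G} (h : S3Am M N T) (hi : O[{2}](M) ⊓ O[{2}](N) = ⊥) (h1 : #O[{2}](M) = 2)
    (h2 : #O[{2}](N) = 2) : Nonempty (M ≃* DihedralGroup 6) := by
  obtain ⟨t, ht, t1⟩ := exists_ne_one (ne_bot_of_prime_card (h2 ▸ Nat.prime_two))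
  obtain ⟨q, hq, q1⟩ := exists_ne_one (ne_bot_of_prime_card (h1 ▸ Nat.prime_two))
  have t2 : t * t = 1 := by have := pow_card ht; rwa [h2, pow_two] at this
  have q2 : orderOf q = 2 := by
    have := pow_card hq
    rw [h1] at this
    exact orderOf_eq_prime this q1
  have htT : t ∈ T := pcore_le_syl h.t₂ ht
  obtain ⟨x, hx, x3, hinv⟩ := h.s₁.exists_three h.t₁ htT (fun a => t1 (eq_one_of_mem_inf hi a ht)) t2
  have hc := cents_two h1 (pcore_nrm {2} M)
  have cx : Commute q x := mem_cen.1 (hc hx) q hq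
  have ct : Commute q t := mem_cen.1 (hc (h.t₁.le htT)) q hq
  have o6 : orderOf (q * x) = 6 := by
    rw [cx.orderOf_mul_eq_mul_orderOf_of_coprime (by rw [q2, x3]; norm_num), q2, x3]
  have qi : q⁻¹ = q := inv_eq_of_mul_eq_one_right (by rw [← pow_two, ← q2, pow_orderOf_eq_one])
  have inv6 : t * (q * x) * t⁻¹ = (q * x)⁻¹ := by
    rw [← mul_assoc, ← ct.eq, mul_assoc, mul_assoc, ← mul_assoc t, hinv, cx.eq, mul_inv_rev, qi]
  let c : M := ⟨q * x, M.mul_mem (pcore_le _ _ hq) hx⟩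
  let s : M := ⟨t, h.t₁.le htT⟩
  have oc : orderOf c = 6 := by rw [← orderOf_coe]; exact o6
  have := H10.nonempty_equiv_dihedral (c := c) (s := s) (Subtype.ext t2) (Subtype.ext inv6) (fun a => by
    obtain ⟨k, hk⟩ := mem_zpowers_iff.1 a
    have a1 : s * c * s⁻¹ = c := by rw [← hk]; group
    have a2 : c ^ 2 = 1 := by
      rw [pow_two]; nth_rw 1 [← a1]
      rw [show s * c * s⁻¹ = c⁻¹ from Subtype.ext inv6, inv_mul_cancel]
    have := orderOf_dvd_of_pow_eq_one a2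
    rw [oc] at this
    exact absurd this (by norm_num)) (by rw [oc, h.s₁.card, h1])
  rwa [oc] at this

/-- Sims' theorem -/
theorem sims_three (hM : Primit M) (e : N = cj g M) (hne : M ≠ N) (h1 : (M ⊓ N).relIndex M = 3) :
    #M = 3 ∨ Nonempty (M ≃* Equiv.Perm (Fin 3)) ∨ Nonempty (M ≃* DihedralGroup 6) ∨ IsS4 M ∨ IsS4C2 M := by
  have hN : Primit N := e ▸ primit_cj hM g
  have h2 : (M ⊓ N).relIndex N = 3 := (relIndex_inf_eq e).trans h1
  have hp := three_pGrp hM hN hne h1 h2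
  have t₁ : Syl 2 (M ⊓ N) M := syl_of_not_dvd inf_le_left hp (by rw [h1]; norm_num)
  have t₂ : Syl 2 (M ⊓ N) N := syl_of_not_dvd inf_le_right hp (by rw [h2]; norm_num)
  by_cases hT : M ⊓ N = ⊥
  · left; rwa [hT, relIndex_bot_left] at h1
  right
  obtain ⟨k, hk, ek⟩ := (e ▸ t₁.cj g : Syl 2 (cj g (M ⊓ N)) N).syl_trans t₂
  rw [cj_cj] at ek
  have e' : N = cj (k * g) M := by rw [← cj_cj, ← e, cj_of_mem hk]
  have hu : k * g ∈ N(M ⊓ N) := cj_eq_self.1 ek.symm
  have n₁ : ∀ X, X ≠ ⊥ → X ≤ M ⊓ N → N(M ⊓ N) ≤ N(X) → ¬ M ≤ N(X) := fun X a b c d =>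
    hne (by rw [e', cj_of_mem (hM X ⟨b.trans inf_le_left, d⟩ a (c hu))])
  have n₂ : ∀ X, X ≠ ⊥ → X ≤ M ⊓ N → N(M ⊓ N) ≤ N(X) → ¬ N ≤ N(X) := fun X a b c d =>
    hne (by
      have := cj_of_mem (N.inv_mem (hN X ⟨b.trans inf_le_right, d⟩ a (c hu)))
      rw [← this]; nth_rw 1 [e']; rw [cj_inv_cj])
  have am : S3Am M N (M ⊓ N) := ⟨three_s3l t₁ h1 (n₁ _ hT le_rfl le_rfl), three_s3l t₂ h2 (n₂ _ hT le_rfl le_rfl),
    t₁, t₂, fun X a b c => by
      by_contra d
      exact hne (hM.eq_of_nml hN ⟨a.trans inf_le_left, b⟩ ⟨a.trans inf_le_right, c⟩ d)⟩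
  by_cases hc : CharP' 2 M
  · have hZ : Ω[2](Z(M ⊓ N)) ≠ ⊥ := PiGrp.Ohm_ne_bot (hp.inf_left _) (hp.center_ne_bot hT)
    have hZ1 : Ω[2](Z(M ⊓ N)) ≤ M ⊓ N := (Ohm_le _ _).trans inf_le_left
    have hZ2 : N(M ⊓ N) ≤ N(Ω[2](Z(M ⊓ N))) := norms_Ohm _ (norms_center le_rfl)
    rcases (am.main ⟨hc, fun a => n₁ _ hZ hZ1 hZ2 (cents_norm a)⟩
      ⟨e ▸ charP_cj hc g, fun a => n₂ _ hZ hZ1 hZ2 (cents_norm a)⟩).2 with a | a
    · exact .inr (.inr (.inl a.1))
    · exact .inr (.inr (.inr a.1))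
  have hi := three_small am hc fun a => hc (by have := charP_cj a g⁻¹; rwa [e, cj_inv_cj] at this)
  have hcard : #O[{2}](N) = #O[{2}](M) := by rw [e, ← cj_pcore, card_cj]
  have hd : #O[{2}](M) ∣ 2 := by
    have a := card_inf_mul_relIndex O[{2}](N) O[{2}](M)
    rw [inf_comm, hi, card_bot', one_mul] at a
    have b := relIndex_dvd_of_norm (pcore_le_syl t₁) (inf_le_right.trans (pcore_nrm {2} N))
    rwa [a, (am.s₂.idx t₂).1] at b
  rcases (Nat.dvd_prime Nat.prime_two).1 hd with a | a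
  · left
    refine equiv_s3 ((M ⊓ N).subgroupOf M) h1 ?_ (by rw [am.s₁.card, a])
    rw [← cor_so, eq_bot_of_le (pcore_max (hp.mono (cor_le _ _)) (cor_nml M _)) (eq_bot_iff_card'.2 a),
      bot_subgroupOf]
  · exact .inr (.inl (equiv_d12 am hi a (hcard.trans a)))

/-! ### primitive permutation groups -/

theorem tw_setup {Ω : Type*} [MulAction G Ω] [FaithfulSMul G Ω] (hprim : MulAction.IsPreprimitive G Ω) (a b : Ω)
    {d : ℕ} (hd : Nat.card (MulAction.orbit (MulAction.stabilizer G a) b) = d) (h2 : 2 ≤ d) :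
    Primit (MulAction.stabilizer G a) ∧ (∃ g, MulAction.stabilizer G b = cj g (MulAction.stabilizer G a)) ∧
      MulAction.stabilizer G a ≠ MulAction.stabilizer G b ∧
      (MulAction.stabilizer G a ⊓ MulAction.stabilizer G b).relIndex (MulAction.stabilizer G a) = d := by
  have h3 : (MulAction.stabilizer G a ⊓ MulAction.stabilizer G b).relIndex (MulAction.stabilizer G a) = d := by
    rw [inf_relIndex_left, ← hd, Nat.card_coe_set_eq, ← MulAction.index_stabilizer]; rfl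
  have hne : MulAction.stabilizer G a ≠ MulAction.stabilizer G b := fun e => by
    rw [← e, inf_idem, relIndex_self] at h3
    omega
  have : Nontrivial Ω := ⟨a, b, fun e => hne (e ▸ rfl)⟩
  obtain ⟨g, rfl⟩ := MulAction.exists_smul_eq G a b
  refine ⟨primit_of_core (MulAction.IsPreprimitive.isCoatom_stabilizer_of_isPreprimitive G a) ?_,
    ⟨g, P_smul g a⟩, hne, h3⟩
  refine eq_bot_iff.2 fun x hx => FaithfulSMul.eq_of_smul_eq_smul (α := Ω) fun c => ?_
  obtain ⟨k, rfl⟩ := MulAction.exists_smul_eq G a c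
  have := hx k⁻¹
  rw [MulAction.mem_stabilizer_iff, inv_inv, mul_smul, mul_smul, inv_smul_eq_iff] at this
  rw [this, one_smul]

end Cfsg.Agent.H1
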