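import Mathlib
import Cfsg.Agent.H1.TW
import Cfsg.Agent.H2.Misc
import Cfsg.Agent.H2.Pump
import Cfsg.Agent.H4.Transfer2
import Cfsg.Agent.H10.AutPSL2
import Cfsg.Agent.H10.PSL2Max
import Cfsg.Agent.H10.SmallIso2
import Cfsg.Agent.H10.Congr
import Cfsg.Agent.S3331
import Cfsg.Agent.S1008
import Cfsg.Agent.S0483
import Cfsg.Agent.S5892
import Cfsg.Agent.S5891
import Cfsg.Agent.S3224
import Cfsg.Agent.S2119

/-! Wong's theorem on primitive groups with a suborbit of length three: the small stabilisers. -/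

set_option autoImplicit false
set_option linter.unusedSectionVars false

namespace Cfsg.Agent.H1.Wo

open Cfsg Subgroup Cfsg.Agent.FT
open scoped MatrixGroups

variable {G : Type*} [Group G] [Finite G] {M K N X S : Subgroup G} {x z : G}

/-- a solvable core-free maximal subgroup of an insoluble group -/
structure WS (M : Subgroup G) : Prop where
  co : IsCoatom M
  pr : Primit M
  sol : Sol M
  ns : ¬ Group.IsSolvable G

theorem WS.sup (h : WS M) (hN : N.Normal) (h1 : N ≠ ⊥) : N ⊔ M = ⊤ := by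
  rcases h.co.le_iff.1 (le_sup_right : M ≤ N ⊔ M) with e | e
  · exact e
  · have := h.pr N ⟨le_sup_left.trans e.le, (normalizer_eq_top_iff.2 hN).ge.trans' le_top⟩ h1
    rw [normalizer_eq_top_iff.2 hN, top_le_iff] at this
    exact (h.co.1 this).elim

theorem WS.nosol (h : WS M) (hN : N.Normal) (hs : Sol N) : N = ⊥ := by
  by_contra h1
  have := hs.sup h.sol ((normalizer_eq_top_iff.2 hN).ge.trans' le_top)
  rw [h.sup hN h1] at this
  exact h.ns (sol_top.1 this)

theorem WS.cen_bot (h : WS M) (hN : N.Normal) (h1 : N ≠ ⊥) : C(N) = ⊥ := by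
  by_contra h2
  have a : Z(N) = ⊥ := h.nosol inferInstance (ab_center N).sol
  have b := h.sup (N := C(N)) inferInstance h2
  have := h.sol
  have : Group.IsSolvable (G ⧸ C(N)) := Group.isSolvable_of_surjective (f := (QuotientGroup.mk' C(N)).comp M.subtype)
    fun q => by
      obtain ⟨g, rfl⟩ := QuotientGroup.mk_surjective q
      obtain ⟨a, ha, m, hm, rfl⟩ := (mem_sup_norm (A := C(N)) (B := M)
        ((normalizer_eq_top_iff.2 inferInstance).ge.trans' le_top)).1 (b ▸ mem_top g)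
      exact ⟨⟨m, hm⟩, by simp [(QuotientGroup.eq_one_iff (N := C(N)) _).2 ha]⟩
  refine h1 (h.nosol hN (Group.isSolvable_of_isSolvable_injective (f := (QuotientGroup.mk' C(N)).comp N.subtype) ?_))
  exact (injective_iff_map_eq_one _).2 fun x hx =>
    Subtype.ext (mem_bot.1 (a ▸ ⟨x.2, (QuotientGroup.eq_one_iff (N := C(N)) _).1 hx⟩))

theorem WS.nrm (h : WS M) (hX : X ⊴ M) (h1 : X ≠ ⊥) : N(X) = M := le_antisymm (h.pr X hX h1) hX.nrm

theorem WS.cen1 (h : WS M) (hz : z ∈ M) (h1 : z ≠ 1) (hc : M ≤ C[z]) : C[z] = M := by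
  refine le_antisymm (le_trans ?_ (h.pr ⟪z⟫ ⟨zpowers_le.2 hz, ?_⟩ (zpowers_ne_bot' h1))) hc
  · rw [← cen_zpowers]; exact cen_le_nrm _
  · rw [← cen_zpowers] at hc; exact cents_norm hc

theorem WS.core_char (h : WS M) (hK : K.Normal) (L : Subgroup K) [L.Characteristic] (hs : Group.IsSolvable L) :
    L = ⊥ := by
  have := h.nosol (N := L.map K.subtype) inferInstance
    (Group.isSolvable_of_surjective (f := (subtypeEquiv L).toMonoidHom) (subtypeEquiv L).surjective)
  exact (map_eq_bot_iff_of_injective _ K.subtype_injective).1 this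

theorem WS.nsol (h : WS M) (hK : K.Normal) (h2 : K.index = 2) : ¬ Group.IsSolvable K := fun a => by
  rw [h.nosol hK a, index_bot] at h2
  have : Fact (Nat.Prime 2) := ⟨Nat.prime_two⟩
  have := isCyclic_of_prime_card h2
  exact h.ns (Group.isSolvable_of_comm fun a b => mul_comm' a b)

theorem three_case (ns : ¬ Group.IsSolvable G) (h2 : pCore 2 G = ⊥) (h3 : #X = 3) (hC : C(X) = X) :
    Nonempty (G ≃* alternatingGroup (Fin 5)) ∨ Nonempty (G ≃* PSL(2, ZMod 7)) := by
  rcases S3331.result X h3 hC with ⟨N, _, a, -, b⟩ | ⟨N, _, a, b, ⟨e⟩⟩ | e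
  · refine (ns ?_).elim
    have : IsZGroup (G ⧸ N) := IsZGroup.of_squarefree (by
      rcases b with b | ⟨⟨e⟩⟩
      · rw [b]; decide +kernel
      · rw [Nat.card_congr e.toEquiv, Nat.card_perm, Nat.card_fin]; decide +kernel)
    exact Group.isSolvable_of_ker_le_range N.subtype (QuotientGroup.mk' N) (by simp)
  · have : N = ⊥ := by
      refine eq_bot_of_le (le_sSup (s := {N : Subgroup G | N.Normal ∧ IsPGroup 2 N})
        ⟨inferInstance, fun n => ⟨1, Subtype.ext ?_⟩⟩) h2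
      simpa using b n n.2
    subst this
    exact .inl ⟨QuotientGroup.quotientBot.symm.trans e⟩
  · exact .inr e

/-- conjugation on a normal subgroup, transported along an isomorphism -/
theorem exists_aut {H : Type*} [Group H] (hK : K.Normal) (hC : C(K) = ⊥) (e : K ≃* H) :
    ∃ f : G →* MulAut H, Function.Injective f :=
  ⟨(MulAut.congr e).toMonoidHom.comp MulAut.conjNormal, (MulAut.congr e).injective.comp
    ((injective_iff_map_eq_one _).2 fun g hg => mem_bot.1 (hC ▸ fun k hk =>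
      (mul_inv_eq_iff_eq_mul.1 (congrArg Subtype.val (DFunLike.congr_fun hg ⟨k, hk⟩) :)).symm))⟩

theorem ext_S5 (hK : K.Normal) (h2 : K.index = 2) (hC : C(K) = ⊥) (e : K ≃* alternatingGroup (Fin 5)) :
    Nonempty (G ≃* Equiv.Perm (Fin 5)) := by
  obtain ⟨f, hf⟩ := exists_aut hK hC e
  have e2 := MulEquiv.ofBijective _ (S2119.result 5 (by norm_num) (by norm_num))
  refine ⟨(MulEquiv.ofBijective f (hf.bijective_of_nat_card_le ?_)).trans e2.symm⟩
  rw [← Nat.card_congr e2.toEquiv, ← K.card_mul_index, Nat.card_congr e.toEquiv, h2,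
    ← (alternatingGroup (Fin 5)).card_mul_index, alternatingGroup.index_eq_two]

theorem ext_pgl {p : ℕ} [Fact p.Prime] (hp : Nat.gcd 2 (p - 1) = 2) (hK : K.Normal) (h2 : K.index = 2) (hC : C(K) = ⊥) (e : K ≃* PSL(2, ZMod p)) :
    Nonempty (G ≃* GL (Fin 2) (ZMod p) ⧸ center (GL (Fin 2) (ZMod p))) := by
  obtain ⟨f, hf⟩ := exists_aut hK hC e
  have e2 : (GL (Fin 2) (ZMod p) ⧸ center (GL (Fin 2) (ZMod p))) ≃* MulAut PSL(2, ZMod p) :=
    (QuotientGroup.quotientMulEquivOfEq (H10.ker_pDiag (by simp)).symm).trans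
      (QuotientGroup.quotientKerEquivOfSurjective _ fun θ => by
        obtain ⟨g, σ, rfl⟩ := H10.aut_PSL2 θ
        exact ⟨g, by rw [Subsingleton.elim σ 1, map_one, mul_one]⟩)
  refine ⟨(MulEquiv.ofBijective f (hf.bijective_of_nat_card_le ?_)).trans e2.symm⟩
  rw [← Nat.card_congr e2.toEquiv, ← K.card_mul_index, Nat.card_congr e.toEquiv, h2]
  have b := H10.card_PSL_two (F := ZMod p)
  rw [← H10.card_PGL_two, ZMod.card, hp, mul_comm] at b
  exact b.ge

theorem cyc_two {S : Type*} [Group S] [Finite S] (hS : IsPGroup 2 S) {x : S} (hx : orderOf x = 2)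
    (hC : #C[x] = 4) : ∃ y : S, 2 * orderOf y = Nat.card S := by
  rcases S3224.result hS x hx hC with ⟨n, ⟨e⟩⟩ | ⟨n, -, h, y, -, hy, -⟩ | h
  · exact ⟨e.symm (.r 1), by rw [e.symm.orderOf_eq, DihedralGroup.orderOf_r_one, Nat.card_congr e.toEquiv,
      DihedralGroup.nat_card]⟩
  · exact ⟨y, by rw [hy, h, pow_succ']⟩
  · exact ⟨x, by rw [hx, h]⟩

/-- an involution with a centraliser of order four in a Sylow subgroup -/
theorem cyc_two' (S : Sylow 2 G) (hx : orderOf x = 2) (hS : x ∈ (S : Subgroup G)) (hC : #((S : Subgroup G) ⊓ C[x]) = 4) :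
    #(C[(⟨x, hS⟩ : S)]) = 4 ∧ ∃ y ∈ (S : Subgroup G), 2 * orderOf y = #(S : Subgroup G) := by
  have a : #(C[(⟨x, hS⟩ : S)]) = 4 := by
    rw [← hC, ← card_so (inf_le_left : _ ≤ (S : Subgroup G)), inf_subgroupOf_left]
    congr 2; ext y
    simp [mem_subgroupOf, mem_centralizer_singleton_iff, Subtype.ext_iff]
  obtain ⟨y, hy⟩ := cyc_two S.isPGroup' (x := ⟨x, hS⟩) ((orderOf_coe _).symm.trans hx) a
  exact ⟨a, y, y.2, by rwa [orderOf_coe]⟩

theorem perfect_of (h : WS M) (hM : M ≤ ⁅(⊤ : Subgroup G), ⊤⁆) : Group.IsPerfect G := by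
  refine ⟨?_⟩
  have := h.sup (N := commutator G) inferInstance fun e => h.ns
    (Group.isSolvable_of_comm fun a b => commutatorElement_eq_one_iff_mul_comm.1
      (mem_bot.1 (e ▸ commutator_mem_commutator (mem_top a) (mem_top b))))
  rwa [sup_eq_left.2 (show M ≤ commutator G from hM)] at this

theorem gw (hO : oddCore G = ⊥) [Group.IsPerfect G] (S : Sylow 2 G) {n : ℕ} (hn : 2 ≤ n)
    (e : (S : Subgroup G) ≃* DihedralGroup n) :
    (∃ (F : Type) (_ : Field F) (_ : Fintype F), Odd (Fintype.card F) ∧ 5 ≤ Fintype.card F ∧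
      Nonempty (G ≃* PSL(2, F))) ∨ Nat.card G = 2520 := by
  have f : G ≃* G ⧸ oddCore G := QuotientGroup.quotientBot.symm.trans (QuotientGroup.quotientMulEquivOfEq hO.symm)
  rcases S0483.result S n hn ⟨e⟩ with ⟨F, _, _, a, b, ⟨g⟩⟩ | ⟨⟨g⟩⟩
  · exact .inl ⟨F, _, _, a, by obtain ⟨k, hk⟩ := a; omega, ⟨f.trans g⟩⟩
  · right
    have := two_mul_nat_card_alternatingGroup (α := Fin 7)
    rw [Nat.card_perm, Nat.card_fin, ← Nat.card_congr (f.trans g).toEquiv] at this
    norm_num [Nat.factorial] at this; omega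

theorem WS.odd_bot (h : WS M) (hK : K.Normal) : oddCore K = ⊥ :=
  haveI : (oddCore K).Characteristic := H2.pPrimeCore_characteristic
  h.core_char hK _ (odd_order_solvable H2.odd_card_oddCore)

theorem WS.odd_bot' (h : WS M) : oddCore G = ⊥ :=
  h.nosol inferInstance (odd_order_solvable H2.odd_card_oddCore)

theorem psl_zmod {F : Type} [Field F] [Fintype F] {p : ℕ} [Fact p.Prime] (h : Fintype.card F = p) (e : G ≃* PSL(2, F)) :
    Nonempty (G ≃* PSL(2, ZMod p)) :=
  ⟨e.trans (H10.pslCongr (FiniteField.ringEquivOfCardEq (by simpa using h)))⟩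

theorem transfer_or (S : Sylow 2 G) {y : G} (hy : y ∈ (S : Subgroup G)) (h2 : 2 * orderOf y = #(S : Subgroup G))
    (hx : orderOf x = 2) : (∃ K : Subgroup G, K.Normal ∧ K.index = 2 ∧ x ∉ K) ∨
      ∃ g, g * x * g⁻¹ ∈ ⟪y⟫ ∧ (S : Subgroup G) ≤ C[g * x * g⁻¹] := by
  have hi : ⟪y⟫.relIndex S = 2 := by
    have := card_mul_relIndex (zpowers_le.2 hy)
    rw [card_zpowers', ← h2, mul_comm] at this
    exact Nat.eq_of_mul_eq_mul_right (orderOf_pos y) this
  by_cases h : ∀ g : G, g * x * g⁻¹ ∉ ⟪y⟫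
  · exact .inl (H4.thompson_transfer (H4.odd_index_sylow S) hi (hx ▸ pow_orderOf_eq_one x) h)
  push Not at h
  obtain ⟨g, hg⟩ := h
  refine .inr ⟨g, hg, ?_⟩
  rw [← cen_zpowers]
  exact P22.cents_two (by rw [card_zpowers', orderOf_conj, hx]) ((cyc_zpowers y).norms_sub (zpowers_le.2 hg)
    ((syl_top Nat.prime_two S).pi.nml_of_relIndex Nat.prime_two (zpowers_le.2 hy) hi).nrm)

theorem perfect_of_sq (h1 : ∀ K : Subgroup G, K.index ≠ 2) (h2 : ∀ g : G, g ^ 2 ∈ commutator G) : Group.IsPerfect G := by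
  have : Fact (Nat.Prime 2) := ⟨Nat.prime_two⟩
  obtain ⟨k, hk⟩ := IsPGroup.iff_card.1 (show IsPGroup 2 (G ⧸ commutator G) from fun q => by
    obtain ⟨g, rfl⟩ := QuotientGroup.mk_surjective q
    exact ⟨1, (QuotientGroup.eq_one_iff _).2 (h2 g)⟩)
  rcases k with _ | k
  · exact ⟨index_eq_one.1 hk⟩
  obtain ⟨L, hL⟩ := Sylow.exists_subgroup_card_pow_prime (G := G ⧸ commutator G) 2 (n := k) (hk ▸ pow_dvd_pow 2 k.le_succ)
  refine (h1 (L.comap (QuotientGroup.mk' _)) ?_).elim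
  have := L.card_mul_index
  rw [hL, hk, pow_succ] at this
  rw [index_comap_of_surjective _ (QuotientGroup.mk'_surjective _), Nat.eq_of_mul_eq_mul_left (by positivity) this]

theorem cub {n c : ℕ} (h : c = n * (n - 1) * (n + 1)) (hc : c < 60) : n ≤ 3 := by
  by_contra h1
  obtain ⟨m, rfl⟩ : ∃ m, n = m + 4 := ⟨n - 4, by omega⟩
  rw [show m + 4 - 1 = m + 3 by omega] at h
  nlinarith [Nat.zero_le (m * m * m), Nat.zero_le (m * m)]

theorem gcd_odd {q : ℕ} (h : Odd q) : Nat.gcd 2 (q - 1) = 2 := by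
  obtain ⟨k, rfl⟩ := h
  simp

/-- a maximal subgroup of order less than thirty of `PSL(2, q)` -/
theorem psl_max {F : Type} [Field F] [Fintype F] (ho : Odd (Fintype.card F)) (h5 : 5 ≤ Fintype.card F)
    (e : G ≃* PSL(2, F)) (hM : IsCoatom M) (hc : #M = 12 ∨ #M = 24) :
    (∃ k, (2 * k + 1 = Fintype.card F ∨ 2 * k = Fintype.card F + 1) ∧ Nonempty (M ≃* DihedralGroup k)) ∨
      Fintype.card F = 9 ∨ Nonempty (M ≃* alternatingGroup (Fin 4)) ∨ (#M = 24 ∧ (Fintype.card F).Prime) := by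
  obtain ⟨p, _⟩ := CharP.exists F
  have : Fact p.Prime := ⟨CharP.char_is_prime F p⟩
  have f := e.subgroupMap M
  have c := Nat.card_congr f.toEquiv
  rcases S5892.result p ho h5 (M.map (e : G →* PSL(2, F))) ((OrderIso.isCoatom_iff e.mapSubgroup M).2 hM) with h | ⟨-, k, h, ⟨g⟩⟩ | ⟨-, -, k, h, ⟨g⟩⟩ |
    ⟨E, _, _, h, ⟨g⟩⟩ | ⟨E, _, _, r, r1, -, h, ⟨g⟩⟩ | ⟨-, -, ⟨g⟩⟩ | ⟨-, -, -, ⟨g⟩⟩ | ⟨h, -, ⟨g⟩⟩
  · exfalso
    erw [← c] at h
    obtain ⟨k, hk⟩ := ho
    rw [hk, Nat.add_sub_cancel] at h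
    have : k < 4 := by rcases hc with a | a <;> nlinarith
    interval_cases k <;> omega
  · exact .inl ⟨k, .inl (by omega), ⟨f.trans g⟩⟩
  · exact .inl ⟨k, .inr h, ⟨f.trans g⟩⟩
  · have a := (Nat.card_congr (f.trans g).toEquiv).trans H10.card_PGL_two
    have b := cub a (by omega)
    right; left
    interval_cases Fintype.card E <;> omega
  · have a := H10.card_PSL_two (F := E)
    rw [gcd_odd ((Nat.odd_pow_iff r1.ne_zero).1 (h ▸ ho)), ← Nat.card_congr (f.trans g).toEquiv] at a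
    have b := cub a (by omega)
    have : Fintype.card E = 3 := by interval_cases Fintype.card E <;> omega
    obtain ⟨g'⟩ := H10.PSL2_three_equiv (F := E) (by simpa using this)
    exact .inr (.inr (.inl ⟨(f.trans g).trans g'⟩))
  · have := two_mul_nat_card_alternatingGroup (α := Fin 5)
    rw [Nat.card_perm, Nat.card_fin, ← Nat.card_congr (f.trans g).toEquiv] at this
    norm_num [Nat.factorial] at this; omega
  · exact .inr (.inr (.inl ⟨f.trans g⟩))
  · refine .inr (.inr (.inr ⟨?_, h ▸ Fact.out⟩))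
    rw [Nat.card_congr (f.trans g).toEquiv, Nat.card_perm, Nat.card_fin]; rfl

/-- the embedding given by an isomorphism onto a subgroup -/
theorem exists_emb {A : Type*} [Group A] (e : M ≃* A) : ∃ f : A →* G, Function.Injective f ∧ f.range = M :=
  ⟨M.subtype.comp e.symm.toMonoidHom, M.subtype_injective.comp e.symm.injective, by
    rw [MonoidHom.range_comp, MonoidHom.range_eq_top.2 e.symm.surjective, ← MonoidHom.range_eq_map, range_subtype]⟩

theorem WS.small (h : WS M) (hc : #M = 3 ∨ Nonempty (M ≃* Equiv.Perm (Fin 3))) :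
    Nonempty (G ≃* alternatingGroup (Fin 5)) := by
  have c6 : #M = 3 ∨ #M = 6 := hc.imp_right fun ⟨e⟩ => by
    rw [Nat.card_congr e.toEquiv, Nat.card_perm, Nat.card_fin]; rfl
  obtain ⟨X, h1, h2⟩ : ∃ X : Subgroup G, #X = 3 ∧ C(X) = X := by
    rcases hc with hc | ⟨⟨e⟩⟩
    · exact ⟨M, hc, le_antisymm ((cen_le_nrm M).trans (h.pr M (Nml.refl M) (ne_bot_of_prime_card (hc ▸ Nat.prime_three))))
        (cyc_of_prime (hc ▸ Nat.prime_three)).ab.le_cen⟩
    obtain ⟨f, hf, rfl⟩ := exists_emb e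
    let r : Equiv.Perm (Fin 3) := finRotate 3
    have o3 : orderOf (f r) = 3 := by rw [orderOf_injective f hf]; exact orderOf_eq_prime (by decide) (by decide)
    have n : N(⟪f r⟫) ≤ f.range := h.pr _ ⟨zpowers_le.2 ⟨r, rfl⟩, by
      rintro _ ⟨s, rfl⟩
      refine mem_nrm_of_cj_le ?_
      rw [cj_zpowers, zpowers_le, ← map_inv, ← map_mul, ← map_mul]
      rcases (by decide : ∀ s : Equiv.Perm (Fin 3), s * r * s⁻¹ = r ∨ s * r * s⁻¹ = r⁻¹) s with a | a <;> simp [a]⟩
      (ne_bot_of_prime_card (by rw [card_zpowers', o3]; exact Nat.prime_three))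
    refine ⟨⟪f r⟫, by rw [card_zpowers', o3], le_antisymm (fun g hg => ?_) (ab_zpowers _).le_cen⟩
    obtain ⟨s, rfl⟩ := n (cen_le_nrm _ hg)
    rw [cen_zpowers, mem_cen1, ← map_mul, ← map_mul, hf.eq_iff] at hg
    rcases (by decide : ∀ s : Equiv.Perm (Fin 3), s * r = r * s → s = 1 ∨ s = r ∨ s = r⁻¹) s hg with a | a | a <;>
      simp [a]
  have : Fact (Nat.Prime 2) := ⟨Nat.prime_two⟩
  rcases three_case h.ns (h.nosol (haveI := H2.pCore_characteristic (p := 2) (G := G); inferInstance) (pGrp_of_isPGroup Nat.prime_two H2.pCore_isPGroup).sol) h1 h2 with e | ⟨⟨e⟩⟩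
  · exact e
  have : Fact (Nat.Prime 7) := ⟨by norm_num⟩
  have a := H10.card_PSL_two (F := ZMod 7)
  rw [← Nat.card_congr e.toEquiv, ZMod.card] at a
  have := H10.isSimpleGroup_PSL_fin (F := ZMod 7) (n := 2) le_rfl (by simp)
  have : IsSimpleGroup G := e.isSimpleGroup
  rcases (S1008.result (G := G) (by norm_num at a; omega)).1 M h.co with ⟨⟨e⟩⟩ | b
  · rw [Nat.card_congr e.toEquiv, Nat.card_perm, Nat.card_fin] at c6
    simp [Nat.factorial] at c6
  · omega

theorem WS.d12 (h : WS M) (e : M ≃* DihedralGroup 6) : Nonempty (G ≃* Equiv.Perm (Fin 5)) ∨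
    Nonempty (G ≃* GL (Fin 2) (ZMod 7) ⧸ center (GL (Fin 2) (ZMod 7))) ∨ Nonempty (G ≃* PSL(2, ZMod 11)) ∨
      Nonempty (G ≃* PSL(2, ZMod 13)) := by
  have : Fact (Nat.Prime 2) := ⟨Nat.prime_two⟩
  have c12 : #M = 12 := by rw [Nat.card_congr e.toEquiv, DihedralGroup.nat_card]
  obtain ⟨f, hf, hM⟩ := exists_emb e
  have mem : ∀ {g}, g ∈ M → ∃ d, f d = g := fun hg => by rwa [← hM] at hg
  have mf : ∀ d, f d ∈ M := fun d => hM ▸ ⟨d, rfl⟩
  have o2 : orderOf (f (.r 3)) = 2 := by rw [orderOf_injective f hf]; exact orderOf_eq_prime (by decide) (by decide)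
  have cz : C[f (.r 3)] = M := h.cen1 (mf _) (by rw [← map_one f, hf.ne_iff]; decide) fun g hg => by
    obtain ⟨d, rfl⟩ := mem hg
    rw [mem_cen1, ← map_mul, ← map_mul, hf.eq_iff]; exact (by decide : ∀ d : DihedralGroup 6, d * .r 3 = .r 3 * d) d
  obtain ⟨T, hT, zT⟩ := (pGrp_of_card_prime Nat.prime_two ((card_zpowers' _).trans o2)).exists_syl (zpowers_le.2 (mf _))
  obtain ⟨S, hS, TS⟩ := hT.pi.exists_syl le_top
  obtain ⟨S, rfl⟩ := (syl_top_iff Nat.prime_two).1 hS
  have c4 : #T = 4 := by rw [hT.card_syl Nat.prime_two, c12]; decide +kernel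
  have eT : (S : Subgroup G) ⊓ M = T := hT.max (hS.pi.inf_left _) (le_inf TS hT.le) inf_le_right
  obtain ⟨-, y, hy, h2⟩ := cyc_two' S o2 (TS (zT (mem_zpowers _))) (by rw [cz, eT, c4])
  rcases transfer_or S hy h2 o2 with ⟨K, hK, k2, zK⟩ | ⟨g, -, hg⟩
  · have o3 : orderOf (f (.r 2)) = 3 := by
      rw [orderOf_injective f hf]; exact @orderOf_eq_prime _ _ _ _ ⟨Nat.prime_three⟩ (by decide) (by decide)
    have sq : ∀ d, f (d * d) ∈ K := fun d => map_mul f d d ▸ mul_self_mem_of_index_two k2 _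
    have XK : ⟪f (.r 2)⟫ ≤ K := zpowers_le.2 (sq (.r 1))
    have n : N(⟪f (.r 2)⟫) ≤ M := h.pr _ ⟨zpowers_le.2 (mf _), fun g hg => by
      obtain ⟨s, rfl⟩ := mem hg
      refine mem_nrm_of_cj_le ?_
      rw [cj_zpowers, zpowers_le, ← map_inv, ← map_mul, ← map_mul]
      rcases (by decide : ∀ s : DihedralGroup 6, s * .r 2 * s⁻¹ = .r 2 ∨ s * .r 2 * s⁻¹ = (.r 2)⁻¹) s with a | a <;>
        rw [a] <;> simp only [map_inv, inv_mem_iff, mem_zpowers]⟩
      (ne_bot_of_prime_card (by rw [card_zpowers', o3]; exact Nat.prime_three))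
    have kb : K ≠ ⊥ := ne_bot_of_le XK (ne_bot_of_prime_card (by rw [card_zpowers', o3]; exact Nat.prime_three))
    have key : C(⟪f (.r 2)⟫.subgroupOf K) ≤ ⟪f (.r 2)⟫.subgroupOf K := fun g hg => by
      rw [← so_cen XK, mem_subgroupOf] at hg
      obtain ⟨s, hs⟩ := mem (n (cen_le_nrm _ hg))
      have gK := g.2
      rw [mem_subgroupOf, ← hs]
      rw [← hs] at gK hg
      rw [cen_zpowers, mem_cen1, ← map_mul, ← map_mul, hf.eq_iff] at hg
      rcases (by decide : ∀ s : DihedralGroup 6, s * .r 2 = .r 2 * s → s ^ 3 = .r 3 ∨ s = 1 ∨ s = .r 2 ∨ s = (.r 2)⁻¹)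
        s hg with a | a | a | a
      · exact (zK (a ▸ map_pow f s 3 ▸ K.pow_mem gK 3)).elim
      all_goals rw [a]; simp only [map_inv, inv_mem_iff, mem_zpowers, map_one, one_mem]
    have := H2.pCore_characteristic (p := 2) (G := K)
    rcases three_case (X := ⟪f (.r 2)⟫.subgroupOf K) (h.nsol hK k2) (h.core_char hK _
      (pGrp_of_isPGroup Nat.prime_two H2.pCore_isPGroup).sol) (by rw [card_so XK, card_zpowers', o3])
      (le_antisymm key ((ab_zpowers _).so XK).le_cen) with ⟨⟨e⟩⟩ | ⟨⟨e⟩⟩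
    · exact .inl (ext_S5 hK k2 (h.cen_bot hK kb) e)
    · have : Fact (Nat.Prime 7) := ⟨by norm_num⟩
      exact .inr (.inl (ext_pgl (by norm_num) hK k2 (h.cen_bot hK kb) e))
  have s4 : #(S : Subgroup G) = 4 := by
    have a := card_dvd hg
    rw [← cj_cen1, card_cj, cz, c12] at a
    obtain ⟨k, hk⟩ := hS.pi.card
    have b := card_dvd TS
    rw [hk] at a b ⊢
    rw [c4] at b
    have := (Nat.pow_dvd_pow_iff_le_right one_lt_two).1 (show 2 ^ 2 ∣ 2 ^ k from b)
    rcases k with _ | _ | _ | k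
    · omega
    · omega
    · rfl
    · exact absurd ((show 2 ^ 3 ∣ _ from pow_dvd_pow 2 (by omega)).trans a) (by norm_num)
  have eS : T = S := eq_of_card_eq TS (c4.trans s4.symm)
  have : Group.IsPerfect G := perfect_of_sq (fun K k2 => by
    have hK := normal_of_index_eq_two k2
    have a := hS.inf_nml (nml_top_iff.2 hK)
    refine h.nsol hK k2 (sol_of_npc_two (npc_of_cyc_two a (cyc_of_card_dvd_prime Nat.prime_two ?_)))
    have b := card_mul_relIndex (inf_le_left : (S : Subgroup G) ⊓ K ≤ S)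
    have c : ¬ (S : Subgroup G) ≤ K := fun c => by
      have := index_dvd_of_le c
      rw [k2] at this
      exact (H4.odd_index_sylow S).not_two_dvd_nat this
    obtain ⟨m, hm⟩ := hS.pi.dvd_relIndex c
    rw [inf_relIndex_left, hm, s4] at b
    exact ⟨m, by linarith⟩) fun g => by
      have : commutator G ≠ ⊥ := fun e => h.ns (Group.isSolvable_of_comm fun a b =>
        commutatorElement_eq_one_iff_mul_comm.1 (mem_bot.1 (e ▸ commutator_mem_commutator (mem_top a) (mem_top b))))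
      obtain ⟨a, ha, m, hm, rfl⟩ := (mem_sup_norm (A := commutator G) (B := M)
        ((normalizer_eq_top_iff.2 inferInstance).ge.trans' le_top)).1 (h.sup inferInstance this ▸ mem_top g)
      obtain ⟨d, rfl⟩ := mem hm
      obtain ⟨u, v, e⟩ := (by decide : ∀ d : DihedralGroup 6, ∃ u v, d * d = u * v * u⁻¹ * v⁻¹) d
      rw [← QuotientGroup.eq_one_iff]
      simp only [QuotientGroup.mk_pow, QuotientGroup.mk_mul, (QuotientGroup.eq_one_iff _).2 ha, one_mul]
      rw [sq, ← QuotientGroup.mk_mul, QuotientGroup.eq_one_iff, ← map_mul, e, map_mul, map_mul, map_mul, map_inv, map_inv]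
      exact commutator_mem_commutator (mem_top _) (mem_top _)
  have : Nontrivial (S : Subgroup G) := Finite.one_lt_card_iff_nontrivial.1 (by omega)
  have : IsKleinFour (S : Subgroup G) := ⟨s4, (Monoid.exponent_eq_prime_iff Nat.prime_two).2 fun s s1 => by
    obtain ⟨d, hd⟩ := mem (hT.le (eS ▸ s.2 : s.1 ∈ T))
    have a := pow_card_eq_one' (x := s)
    rw [s4, Subtype.ext_iff, coe_pow, ← hd, ← map_pow, coe_one, ← map_one f, hf.eq_iff] at a
    refine orderOf_eq_prime (Subtype.ext ?_) s1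
    rw [coe_pow, ← hd, ← map_pow, (by decide : ∀ d : DihedralGroup 6, d ^ 4 = 1 → d ^ 2 = 1) d a, map_one, coe_one]⟩
  obtain ⟨e2⟩ := IsKleinFour.nonempty_mulEquiv (G₁ := (S : Subgroup G)) (G₂ := DihedralGroup 2)
  have n8 : ¬ 8 ∣ Nat.card G := fun a => by
    have := S.pow_dvd_card_of_pow_dvd_card (n := 3) a
    rw [s4] at this; norm_num at this
  rcases gw h.odd_bot' S le_rfl e2 with ⟨F, _, _, ho, h5, ⟨e3⟩⟩ | a
  swap
  · exact (n8 (by rw [a]; norm_num)).elim
  rcases psl_max ho h5 e3 h.co (.inl c12) with ⟨k, a, ⟨g⟩⟩ | a | ⟨⟨g⟩⟩ | a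
  · have b := Nat.card_congr g.toEquiv
    rw [c12, DihedralGroup.nat_card] at b
    have : Fact (Nat.Prime 11) := ⟨by norm_num⟩
    have : Fact (Nat.Prime 13) := ⟨by norm_num⟩
    rcases a with a | a
    exacts [.inr (.inr (.inr (psl_zmod (by omega) e3))), .inr (.inr (.inl (psl_zmod (by omega) e3)))]
  · have b := H10.card_PSL_two (F := F)
    rw [a, ← Nat.card_congr e3.toEquiv] at b
    exact (n8 (by norm_num at b; omega)).elim
  · have b := (by decide : ∀ a : alternatingGroup (Fin 4), a ^ 2 = 1 ∨ a ^ 3 = 1) ((e.symm.trans g) (.r 1))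
    simp only [← map_pow, map_eq_one_iff _ (e.symm.trans g).injective] at b
    exact absurd b (by decide)
  · omega

end Cfsg.Agent.H1.Wo
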