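import Mathlib
import Cfsg.Agent.H1.Wo1
import Cfsg.Agent.H1.Chain
import Cfsg.Agent.H23.GL23
import Cfsg.Agent.H27.Kazarin
import Cfsg.Agent.S0942
import Cfsg.Agent.S0947
import Cfsg.Agent.S4735
import Cfsg.Agent.S0915

/-! An involution centraliser which is `GL(2, 3)` modulo its odd core. -/

set_option autoImplicit false
set_option linter.unusedSectionVars false

namespace Cfsg.Agent.H1.Wo

open Cfsg Finset Cfsg.Agent.H23 Cfsg.Agent.H23.GL23 Cfsg.Agent.H24.D1
open scoped ComplexConjugate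

variable {G : Type*} [Group G] [Finite G]

theorem small_deg [IsSimpleGroup G] {χ : G → ℂ} (hχ : IsIrrCharacter G χ) (h1 : χ ≠ fun _ => 1)
    (hd : charDegree χ < 16) {O R : Subgroup G} (hn : R ≤ Subgroup.normalizer (O : Set G)) (hi : O ⊓ R = ⊥)
    (hR : Nat.card R = 16) (hc : ∀ r ∈ R, r ≠ 1 → ∀ u ∈ O, χ (u * r) = χ r) : O = ⊥ := by
  classical
  have := Fintype.ofFinite G
  have hk := H6.charKer_eq_bot_of_simple hχ h1
  obtain ⟨n, ρ, -, rfl⟩ := hχ
  have c1 : ρ.character 1 = n := by simp [Representation.char_one]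
  have e : ∀ X : Subgroup G, ∑ x : X, ρ.character x =
      Nat.card X * Module.finrank ℂ (Representation.invariants (ρ.comp X.subtype)) := fun X => by
    have := H6.classInner_character_one (ρ.comp X.subtype)
    rw [classInner, inv_mul_eq_iff_eq_mul₀ (by simp)] at this
    simp only [map_one, mul_one] at this
    exact this
  have hb : Function.Bijective fun p : R × O => (⟨p.2 * p.1, Subgroup.mul_mem_sup p.2.2 p.1.2⟩ : ↥(O ⊔ R)) := by
    refine ⟨fun p q h => ?_, fun x => ?_⟩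
    · have a : (p.2 : G) * p.1 = q.2 * q.1 := congrArg Subtype.val h
      have b : ((q.2 : G))⁻¹ * p.2 = q.1 * (p.1 : G)⁻¹ := by
        rw [inv_mul_eq_iff_eq_mul, ← mul_assoc, ← a]; simp
      have c : ((q.2 : G))⁻¹ * p.2 ∈ O ⊓ R := Subgroup.mem_inf.2 ⟨mul_mem (inv_mem q.2.2) p.2.2, b ▸ mul_mem q.1.2 (inv_mem p.1.2)⟩
      rw [hi, Subgroup.mem_bot] at c
      rw [c, eq_comm, mul_inv_eq_one] at b
      exact Prod.ext (Subtype.ext b.symm) (Subtype.ext (inv_mul_eq_one.1 c).symm)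
    · obtain ⟨a, ha, b, hb, h⟩ := (FT.mem_sup_norm hn).1 x.2
      exact ⟨(⟨b, hb⟩, ⟨a, ha⟩), Subtype.ext h.symm⟩
  have s1 := Fintype.sum_bijective _ hb (fun p => ρ.character (p.2 * p.1)) (fun x => ρ.character x) fun _ => rfl
  have s2 := Nat.card_congr (Equiv.ofBijective _ hb)
  rw [Fintype.sum_prod_type, ← add_sum_erase _ _ (mem_univ 1), sum_congr rfl (g := fun r : R => Nat.card O * ρ.character r)
    fun r hr => by
      rw [sum_congr rfl fun (u : O) _ => hc r r.2 (fun h => (mem_erase.1 hr).1 (Subtype.ext h)) u u.2]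
      simp, ← mul_sum, e, ← s2, Nat.card_prod, hR] at s1
  have s3 := add_sum_erase _ (fun r : R => ρ.character r) (mem_univ 1)
  simp only [Subgroup.coe_one, mul_one, e, hR, c1] at s1 s3
  have s4 := Submodule.finrank_le (Representation.invariants (ρ.comp O.subtype))
  have o : (Nat.card O : ℂ) ≠ 0 := by simp
  have hd' : n < 16 := by rwa [charDegree, c1, Complex.natCast_re, Nat.floor_natCast] at hd
  rw [Module.finrank_fin_fun] at s4
  have s5 : Module.finrank ℂ (Representation.invariants (ρ.comp O.subtype)) + 16 *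
      Module.finrank ℂ (Representation.invariants (ρ.comp R.subtype)) = n + 16 *
      Module.finrank ℂ (Representation.invariants (ρ.comp (O ⊔ R).subtype)) := by
    apply Nat.cast_injective (R := ℂ)
    apply mul_left_cancel₀ o
    push_cast at s1 s3 ⊢
    linear_combination s1 - Nat.card O * s3
  have s6 := Submodule.eq_top_of_finrank_eq (S := Representation.invariants (ρ.comp O.subtype))
    (by rw [Module.finrank_fin_fun]; omega)
  refine eq_bot_iff.2 fun u hu => hk ▸ (H6.mem_charKer_character ρ u).2 (LinearMap.ext fun w => ?_)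
  exact (s6.ge (Submodule.mem_top (x := w)) :) ⟨u, hu⟩

/-- the principal block at an involution -/
theorem block_sum {H : Type*} [Group H] [Finite H] {t : G} (ht : orderOf t = 2) (π : CC t →* H)
    (hs : Function.Surjective π) (hk : π.ker = pPrimeCore 2 (CC t)) (hH : Group.IsSolvable H)
    {M : Ideal AlgInt} (hM : IsPModular 2 M) :
    ∑ᶠ ζ ∈ principalBlock M G, ‖(ζ : G → ℂ) t‖ ^ 2 = Nat.card H := by
  have : Fact (Nat.Prime 2) := ⟨Nat.prime_two⟩
  have a := (S0947.result 2 M hM t ⟨1, ht⟩ (by rintro rfl; simp at ht) 1 (by simp)).1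
  have b := (S4735.result 2 M hM (1 : CC t)).2.1
  have e := (QuotientGroup.quotientMulEquivOfEq hk.symm).trans (QuotientGroup.quotientKerEquivOfSurjective π hs)
  have c : principalBlock M (CC t ⧸ pPrimeCore 2 (CC t)) = Set.univ := Set.eq_univ_of_forall fun ψ =>
    S0915.result 2 M hM (isPSolvable_of_isSolvable Nat.prime_two
      (Group.isSolvable_of_isSolvable_injective (f := e.toMonoidHom) e.injective)) H2.pPrimeCore_quotient_self (H8.irrOne _) ψ
  have := Fintype.ofFinite (CC t ⧸ pPrimeCore 2 (CC t))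
  rw [c, finsum_mem_univ, finsum_eq_sum_of_fintype (α := IrrCharacter (_ ⧸ _))] at b
  simp only [Complex.normSq_eq_norm_sq, QuotientGroup.mk_one] at b
  rw [Subgroup.coe_one, mul_one] at a
  rw [a, b, ← Nat.card_congr e.toEquiv, H6.sum_irr_norm_sq, Subgroup.centralizer_eq_top_iff_subset.2 (by simp),
    Subgroup.card_top]

/-- noncentral involutions -/
def NI (n : ℕ) : Prop := ml n n = 28 ∧ n ≠ 28 ∧ n ≠ 56

instance : DecidablePred NI := fun _ => inferInstanceAs (Decidable (_ ∧ _))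

theorem k1 : ∀ n ∈ L, NI n → ∀ k ∈ L, NI k → ∃ m ∈ L, ml m n = ml k m := by decide +kernel
theorem k2 : ∀ i ∈ [2, 3], (L.map fun m => (L.map fun n => if NI m ∧ NI n then th i (ml m n) else 0).sum).sum = 96 := by
  decide +kernel
theorem k3 : ∀ i < 5, ∀ n ∈ L, (n = 56 ∨ NI n) → th i (ml 56 n) = 0 ∧ th i (ml n 56) = 0 := by decide +kernel

theorem ar3 {m o : ℕ} {x w : ℤ} (hm : Odd m) (h1 : m * (x - 2) ^ 2 = 96 * o ^ 2 * (x * (x + 1)))
    (h2 : (w - x - 1) * ((x - 8) * (w + 9) + 72) = 0) : |w - x| < 16 ∨ |x| < 16 ∨ |x + 1| < 16 ∨ |w| < 16 := by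
  by_contra h
  simp only [not_or, not_lt, le_abs] at h
  obtain ⟨k, rfl⟩ := hm
  rcases mul_eq_zero.1 h2 with a | a
  · omega
  have : x = 16 ∨ x = 17 := by
    rcases h with ⟨-, b | b, c | c, d | d⟩
    any_goals omega
    any_goals nlinarith
    have : x ≤ 18 := by nlinarith
    interval_cases x <;> omega
  rcases this with rfl | rfl <;> push_cast at h1 <;> omega

set_option maxHeartbeats 1000000 in
theorem odd_triv [IsSimpleGroup G] {t : G} (ht : orderOf t = 2) (π : CC t →* K) (hs : Function.Surjective π)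
    (hk : π.ker = pPrimeCore 2 (CC t)) (hodd : Odd (CC t).index) (h1 : ∀ s : G, orderOf s = 2 → IsConj t s)
    {v : CC t} (hv : orderOf v = 2) (hvt : (v : G) ≠ t) (hf : ∀ u ∈ π.ker, Commute v u → u = 1) : π.ker = ⊥ := by
  classical
  have := Fintype.ofFinite G
  have := Fintype.ofFinite K
  have : Fact (Nat.Prime 2) := ⟨Nat.prime_two⟩
  by_contra hne
  have oo : Odd (Nat.card π.ker) := hk ▸ H2.odd_card_oddCore
  have od : ∀ u ∈ π.ker, u ^ 2 = 1 → u = 1 := fun u hu h => by
    have a := orderOf_dvd_of_pow_eq_one h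
    rcases (Nat.dvd_prime Nat.prime_two).1 a with b | b
    · exact orderOf_eq_one_iff.1 b
    · exact (oo.not_two_dvd_nat ((dvd_of_eq b.symm).trans (Subgroup.orderOf_dvd_natCard _ hu))).elim
  let t' : CC t := ⟨t, mem_CC.2 (Commute.refl t)⟩
  have ct : ∀ g : CC t, Commute t' g := fun g => Subtype.ext (mem_CC.1 g.2)
  have t2 : t' ^ 2 = 1 := Subtype.ext (ht ▸ pow_orderOf_eq_one t)
  have t0 : t' ≠ 1 := fun h => by rw [show t = 1 from congrArg Subtype.val h] at ht; simp at ht
  have k28 : ∀ g, en (π g) = 28 ↔ g ∈ π.ker := fun g => by rw [← en_one, en_inj.eq_iff]; rfl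
  have sq : ∀ g, ml (en (π g)) (en (π g)) = 28 ↔ g ^ 2 ∈ π.ker := fun g => by rw [← en_mul, ← map_mul, k28, sq]
  have ex : ∀ n ∈ L, ∃ h, en (π h) = n := fun n hn => by
    obtain ⟨a, rfl⟩ := exists_en hn
    obtain ⟨a, rfl⟩ := hs a
    exact ⟨a, rfl⟩
  have e56 : en (π t') = 56 := by
    obtain ⟨a, ha⟩ := ex 14 (by decide)
    refine f5 _ (en_mem _) ((sq _).2 (t2 ▸ one_mem _)) (fun h => t0 (od _ ((k28 _).1 h) t2)) (.inl ?_)
    rw [← ha, ← en_mul, ← en_mul, ← map_mul, ← map_mul, (ct a).eq]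
  have k56 : ∀ g, en (π g) = 56 ↔ t'⁻¹ * g ∈ π.ker := fun g => by
    rw [← e56, en_inj.eq_iff, MonoidHom.mem_ker, map_mul, map_inv, inv_mul_eq_one, eq_comm]
  have ni : ∀ g : CC t, orderOf g = 2 → (g : G) ≠ t → NI (en (π g)) := fun g hg h => by
    have g2 : g ^ 2 = 1 := hg ▸ pow_orderOf_eq_one g
    refine ⟨(sq _).2 (g2 ▸ one_mem _), fun a => ?_, fun a => h ?_⟩
    · rw [od _ ((k28 _).1 a) g2] at hg; simp at hg
    · exact congrArg Subtype.val (inv_mul_eq_one.1 (od _ ((k56 _).1 a) (by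
        rw [(ct g).inv_left.mul_pow, inv_pow, t2, g2]; simp))).symm
  have iv : ∀ u ∈ π.ker, v * u * v⁻¹ = u⁻¹ := fun n hn =>
    congrArg Subtype.val (congrFun (MonoidHom.FixedPointFree.coe_eq_inv_of_involutive
      (φ := MulAut.conjNormal (H := π.ker) v) (fun g h => Subtype.ext
        (hf _ g.2 (mul_inv_eq_iff_eq_mul.1 (congrArg Subtype.val h :)))) fun g => by
      rw [← MulAut.mul_apply, ← map_mul, ← _root_.sq, show v ^ 2 = 1 from hv ▸ pow_orderOf_eq_one v]; simp) ⟨n, hn⟩)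
  have ab : ∀ u ∈ π.ker, ∀ w ∈ π.ker, u * w * u⁻¹ = w := fun u hu w hw => by
    have a := iv _ (mul_mem hu hw)
    rw [show v * (u * w) * v⁻¹ = (v * u * v⁻¹) * (v * w * v⁻¹) by group, iv u hu, iv w hw, ← mul_inv_rev, inv_inj] at a
    rw [← a]; simp
  have inv : ∀ a, NI (en (π a)) → ∀ u ∈ π.ker, a * u * a⁻¹ = u⁻¹ := fun a ha u hu => by
    obtain ⟨m, m0, h⟩ := k1 _ (en_mem _) (ni v hv hvt) _ (en_mem _) ha
    obtain ⟨m, rfl⟩ := ex m m0
    rw [← en_mul, ← en_mul, en_inj.eq_iff, ← map_mul, ← map_mul] at h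
    have b : (m * v * m⁻¹)⁻¹ * a ∈ π.ker := by
      rw [MonoidHom.mem_ker, map_mul, map_inv, map_mul, h]; simp
    have c := iv _ (π.normal_ker.conj_mem' u hu m)
    calc a * u * a⁻¹ = m * v * m⁻¹ * ((m * v * m⁻¹)⁻¹ * a * u * ((m * v * m⁻¹)⁻¹ * a)⁻¹) * (m * v * m⁻¹)⁻¹ := by group
      _ = m * (v * (m⁻¹ * u * m) * v⁻¹) * m⁻¹ := by rw [ab _ b u hu]; group
      _ = _ := by rw [c]; group
  have cj : ∀ h : CC t, IsConj t h ↔ (h : G) = t ∨ NI (en (π h)) := fun h => by
    refine ⟨fun a => or_iff_not_imp_left.2 (ni h ((Subgroup.orderOf_coe h).symm.trans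
      ((orderOf_isConj a).symm.trans ht))), ?_⟩
    rintro (a | a)
    · rw [a]
    have b := (sq h).1 a.1
    refine h1 _ ((Subgroup.orderOf_coe h).trans (orderOf_eq_prime (od _ b ?_) fun c => a.2.1 (c ▸ (k28 _).2 (one_mem _))))
    rw [_root_.sq, mul_eq_one_iff_eq_inv, ← inv h a _ b]; group
  have pm : ∀ g, (∀ u ∈ π.ker, g * u * g⁻¹ = u) ∨ ∀ u ∈ π.ker, g * u * g⁻¹ = u⁻¹ := by
    let P : Subgroup (CC t) := ⟨⟨⟨{g | (∀ u ∈ π.ker, g * u * g⁻¹ = u) ∨ ∀ u ∈ π.ker, g * u * g⁻¹ = u⁻¹},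
      fun {a b} ha hb => by
        have : ∀ u, a * b * u * (a * b)⁻¹ = a * (b * u * b⁻¹) * a⁻¹ := fun u => by group
        rcases ha with ha | ha <;> rcases hb with hb | hb <;> [left; right; right; left] <;> intro u hu <;>
          simp only [this, hb u hu, ha u hu, ha _ (inv_mem hu), inv_inv]⟩, .inl (by simp)⟩,
      fun {a} ha => ha.imp (fun h u hu => by nth_rw 1 [← h u hu]; group) fun h u hu => by
        nth_rw 1 [← inv_inv u, ← h _ (inv_mem hu)]; group⟩
    have a : ∀ h, ml (en (π h)) (en (π h)) = 28 → h ∈ P := fun h hh => by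
      by_cases a : en (π h) = 28
      · exact .inl (ab h ((k28 h).1 a))
      by_cases b : en (π h) = 56
      · refine .inl fun u hu => ?_
        calc h * u * h⁻¹ = t' * (t'⁻¹ * h * u * (t'⁻¹ * h)⁻¹) * t'⁻¹ := by group
          _ = u := by rw [ab _ ((k56 h).1 b) u hu, (ct u).eq]; simp
      exact .inr (inv h ⟨hh, a, b⟩)
    intro g
    obtain ⟨x, x0, hx, y, y0, hy, h⟩ := f9 _ (en_mem (π g))
    obtain ⟨x, rfl⟩ := ex x x0
    obtain ⟨y, rfl⟩ := ex y y0
    exact (mul_mem_cancel_left (H := P) (mul_mem (a x hx) (a y hy))).1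
      (a (x * y * g) (by simpa only [map_mul, en_mul] using h))
  have o0 : (Nat.card π.ker : ℂ) ≠ 0 := Nat.cast_ne_zero.2 Nat.card_pos.ne'
  have cH : Nat.card (CC t) = 48 * Nat.card π.ker := by
    rw [← π.ker.card_mul_index, Subgroup.index_ker, MonoidHom.range_eq_top.2 hs, Subgroup.card_top, card_K, mul_comm]
  have sm0 : ∀ F : K → ℂ, ∑ h, F (π h) = Nat.card π.ker * ∑ k, F k := fun F => by
    rw [← sum_fiberwise (s := univ) (g := π), mul_sum]
    refine sum_congr rfl fun k _ => ?_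
    rw [sum_congr rfl fun h hh => congrArg F (mem_filter.1 hh).2, sum_const, nsmul_eq_mul,
      MonoidHom.card_fiber_eq_of_mem_range π (hs k) ⟨1, map_one π⟩]
    congr 2
    rw [Nat.card_eq_fintype_card, Fintype.card_subtype]; congr
  have sm : ∀ F : ℕ → ℤ√(-2), ∑ h : CC t, em (F (en (π h))) = Nat.card π.ker * em (L.map F).sum := fun F => by
    rw [← sum_en, map_sum]; exact sm0 fun g => em (F (en g))
  have ip : ∀ F F' : ℕ → ℤ√(-2), classInner (fun h : CC t => em (F (en (π h))))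
      (fun h => em (F' (en (π h)))) = 48⁻¹ * em (L.map fun n => F n * star (F' n)).sum :=
    fun F F' => by
      simp only [classInner, cH, em_star, ← map_mul, sm fun n => F n * star (F' n)]
      push_cast; field_simp
  have hTI : ∀ g : G, g ∉ CC t → ∀ s ∈ {s | t ∈ Subgroup.zpowers s},
      g * s * g⁻¹ ∈ {s | t ∈ Subgroup.zpowers s} → s = 1 := fun g hg s h1 ⟨k, hk⟩ => absurd (by
    have a1 : g⁻¹ * t * g⁻¹⁻¹ ∈ Subgroup.zpowers s := ⟨k, by
      simp only [← hk, conj_zpow]; group⟩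
    have a2 := (H20.eq_pow_half_of_mem_zpowers ((orderOf_isConj (isConj_iff.2 ⟨_, rfl⟩)).symm.trans
      ht) a1).2.trans (H20.eq_pow_half_of_mem_zpowers ht h1).2.symm
    exact (inv_mem_iff (x := g)).1 (mem_CC.2 (mul_inv_eq_iff_eq_mul.1 a2).symm)) hg
  have hT : ∀ i, ∀ x : CC t, (x : G) ∉ {s | t ∈ Subgroup.zpowers s} → em (th i (en (π x))) = 0 :=
    fun i x hx => by
    by_cases hi : i < 5
    swap
    · obtain ⟨i, rfl⟩ := Nat.exists_eq_add_of_le' (not_lt.1 hi)
      exact map_zero em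
    have a : ∀ k : ℕ, en (π (x ^ k)) ≠ 56 := fun k h => hx (by
      have b := pow_card_eq_one' (x := (⟨_, (k56 _).1 h⟩ : π.ker))
      obtain ⟨j, hj⟩ := oo
      rw [Subtype.ext_iff, Subgroup.coe_pow, (ct _).inv_left.mul_pow, hj, inv_pow, pow_succ t', pow_mul, t2, one_pow,
        one_mul, Subgroup.coe_one, inv_mul_eq_one, ← pow_mul] at b
      exact ⟨_, (zpow_natCast _ _).trans (congrArg Subtype.val b).symm⟩)
    rw [f4 _ (en_mem _) (by simpa using a 1) (by simpa [pow_succ, en_mul] using a 2)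
      (by simpa [pow_succ, en_mul] using a 3) (by simpa [pow_succ, en_mul] using a 4) i hi, map_zero]
  have t1 : (1 : G) ∉ {s | t ∈ Subgroup.zpowers s} := fun h => by
    rw [show t = 1 by simpa using h] at ht; simp at ht
  obtain ⟨μ, v1, v2, v3, v4⟩ := Gram.exists_mult _ hTI (fun i h => em (th i (en (π h))))
    (fun i => H6.isGen_comp π (gen_th i)) hT fun i => hT i 1 t1
  have g1 : ∀ i < 5, ∀ j < 5, ∑ χ, μ χ i * μ χ j = gr i j := fun i hi j hj => by
    apply Int.cast_injective (α := ℂ)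
    rw [v3, ip, f1 i hi j hj]; simp [map_ofNat]
  have g2 : ∀ i < 5, μ (H8.irrOne G) i = w0 i := fun i hi => by
    apply Int.cast_injective (α := ℂ)
    have := ip (th i) 1
    simp only [Pi.one_apply, map_one, f2 i hi] at this
    rw [← v2]
    exact this.trans (by simp [map_ofNat])
  obtain ⟨M, hM⟩ := H27.exists_pModular Nat.prime_two
  have bl : ∀ χ ∈ principalBlock M G, ∀ r : CC t, (∃ k, orderOf (r : G) = 2 ^ k) → r ≠ 1 → ∀ u ∈ π.ker,
      χ.1 (u * r) = χ.1 r := fun χ hχ r hr r1 u hu => by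
    rcases pm r with a | a
    · have tr : t ∈ Subgroup.zpowers (r : G) := by
        obtain ⟨k, hk⟩ := hr
        obtain ⟨⟨s, hs⟩, s2⟩ := exists_prime_orderOf_dvd_card' (G := Subgroup.zpowers r) 2 (by
          rw [Nat.card_zpowers, ← Subgroup.orderOf_coe, hk]
          exact dvd_pow_self 2 fun h => r1 (by simpa [h] using hk))
        rw [Subgroup.orderOf_mk] at s2
        obtain ⟨j, rfl⟩ := hs
        by_contra h
        refine hne (eq_bot_iff.2 fun w hw => od w hw ?_)
        rw [_root_.sq, mul_eq_one_iff_eq_inv, ← inv _ (ni _ s2 fun e => h ⟨j, by simpa using e⟩) w hw,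
          (Commute.zpow_left (mul_inv_eq_iff_eq_mul.1 (a w hw)) j).eq]
        simp
      have le : CC (r : G) ≤ CC t := fun g hg => by
        obtain ⟨j, hj⟩ := tr
        exact mem_CC.2 (hj ▸ (mem_CC.1 hg).zpow_left j)
      have cm : ∀ w ∈ π.ker, Commute (r : G) w := fun w hw =>
        congrArg Subtype.val (mul_inv_eq_iff_eq_mul.1 (a w hw))
      rw [← (cm u hu).eq]
      refine S0942.result 2 M hM _ hr _ (H2.le_pPrimeCore_map_subtype (K := π.ker.map (CC t).subtype) ?_
        (le.trans ?_) ?_ ⟨u, hu, rfl⟩) χ hχ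
      · rintro _ ⟨w, hw, rfl⟩; exact mem_CC.2 (cm w hw)
      · simpa [Subgroup.normalizer_eq_top_iff.2 π.normal_ker, ← MonoidHom.range_eq_map] using Subgroup.le_normalizer_map (H := π.ker) (CC t).subtype
      · rw [Subgroup.card_map_of_injective (CC t).subtype_injective]; exact Nat.coprime_two_right.2 oo
    · obtain ⟨j, hj⟩ := oo
      have b := congrArg Subtype.val (pow_card_eq_one' (x := (⟨u, hu⟩ : π.ker)))
      rw [Subgroup.coe_pow, hj] at b
      have c : u * r = u ^ (j + 1) * r * (u ^ (j + 1))⁻¹ := by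
        rw [mul_assoc, mul_inv_eq_iff_eq_mul.1 (a _ (inv_mem (pow_mem hu (j + 1)))), inv_inv, ← mul_assoc, ← pow_add,
          show j + 1 + (j + 1) = 2 * j + 1 + 1 by ring, pow_succ, b]
        simp
      rw [← Subgroup.coe_mul, c]
      exact H6.isClassFunction_of_irr χ.2 _ _
  have g3 : ∀ χ ∈ principalBlock M G, χ.1 t = (2 * μ χ 0 + 2 * μ χ 1 - 3 * μ χ 2 + μ χ 3 + 4 * μ χ 4 : ℤ) :=
    fun χ hχ => by
    have a : ∑ h : CC t, GL23.em (if en (π h) = 56 then 48 else 0) * conj (χ.1 h) =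
        Nat.card π.ker * 48 * conj (χ.1 t) := by
      rw [sum_congr rfl (g := fun h => GL23.em (if en (π h) = 56 then 48 else 0) * conj (χ.1 t)) fun h _ => by
        split_ifs with a
        · rw [← bl χ hχ t' ⟨1, ht⟩ t0 _ ((k56 h).1 a), ← Subgroup.coe_mul, ← (ct _).eq]; simp
        · simp, ← sum_mul, sm fun n => if n = 56 then 48 else 0,
        show (L.map fun n => if n = 56 then (48 : ℤ√(-2)) else 0).sum = 48 by decide +kernel, map_ofNat]
    simp only [← f3 _ (en_mem _), map_add, map_sub, map_mul, map_ofNat, add_mul, sub_mul, mul_assoc,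
      sum_add_distrib, sum_sub_distrib, ← mul_sum] at a
    apply star_injective
    push_cast
    simp only [star_add, star_sub, star_mul', star_ofNat, star_intCast]
    simp only [← v2, classInner, cH]
    rw [starRingEnd_apply (χ.1 t)] at a
    push_cast
    field_simp
    linear_combination -a
  have g4 : ∀ χ, 2 * μ χ 0 + 2 * μ χ 1 - 3 * μ χ 2 + μ χ 3 + 4 * μ χ 4 ≠ 0 → χ ∈ principalBlock M G := by
    have a := block_sum ht π hs hk (H6.isSolvable_of_card_dvd (a := 4) (b := 1) Nat.prime_two Nat.prime_three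
      (by rw [card_K]; norm_num)) hM
    rw [finsum_mem_eq_finite_toFinset_sum _ (Set.toFinite _), card_K, sum_congr rfl fun χ hχ => by
      rw [g3 χ ((Set.Finite.mem_toFinset _).1 hχ), Complex.norm_intCast, sq_abs]] at a
    have b : ∑ χ, (2 * μ χ 0 + 2 * μ χ 1 - 3 * μ χ 2 + μ χ 3 + 4 * μ χ 4) ^ 2 = 48 := by
      rw [sum_congr rfl (g := fun χ => ∑ i ∈ range 5, ∑ j ∈ range 5, [2, 2, -3, 1, 4].getD i 0 *
        [2, 2, -3, 1, 4].getD j 0 * (μ χ i * μ χ j)) fun χ _ => by simp [sum_range_succ]; ring, sum_comm,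
        sum_congr rfl fun i hi => by rw [sum_comm, sum_congr rfl fun j hj => by
          rw [← mul_sum, g1 i (mem_range.1 hi) j (mem_range.1 hj)]]]
      decide
    rw [← sum_sdiff (subset_univ (principalBlock M G).toFinite.toFinset)] at b
    norm_cast at a
    intro χ hχ
    by_contra h
    exact hχ (pow_eq_zero_iff two_ne_zero |>.1 ((sum_eq_zero_iff_of_nonneg fun _ _ => sq_nonneg _).1
      (add_eq_right.1 (b.trans a.symm)) χ (by simpa using h)))
  obtain ⟨R⟩ : Nonempty (Sylow 2 (CC t)) := inferInstance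
  have big : ∀ χ, χ ≠ H8.irrOne G → χ ∈ principalBlock M G → 16 ≤ charDegree χ.1 := fun χ h hχ => by
    by_contra hd
    refine hne ((Subgroup.map_eq_bot_iff_of_injective _ (CC t).subtype_injective).1 (small_deg χ.2
      (fun e => h (Subtype.ext e)) (not_le.1 hd) (R := R.1.map (CC t).subtype) ?_ ?_ ?_ ?_))
    · exact (Subgroup.map_subtype_le _).trans (by
        simpa [Subgroup.normalizer_eq_top_iff.2 π.normal_ker, ← MonoidHom.range_eq_map] using Subgroup.le_normalizer_map (H := π.ker) (CC t).subtype)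
    · rw [← Subgroup.map_inf _ _ _ (CC t).subtype_injective, Subgroup.map_eq_bot_iff_of_injective _ (CC t).subtype_injective]
      obtain ⟨k, hk⟩ := IsPGroup.iff_card.1 R.isPGroup'
      exact (Subgroup.disjoint_of_coprime_natCard (hk ▸ (Nat.coprime_two_right.2 oo).pow_right k)).eq_bot
    · rw [Subgroup.card_map_of_injective (CC t).subtype_injective, R.card_eq_multiplicity, cH,
        Nat.factorization_mul (by norm_num) Nat.card_pos.ne', Finsupp.add_apply,
        Nat.factorization_eq_zero_of_not_dvd oo.not_two_dvd_nat]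
      decide +kernel
    · rintro _ ⟨r, hr, rfl⟩ r1 _ ⟨u, hu, rfl⟩
      obtain ⟨k, hk⟩ := IsPGroup.iff_orderOf.1 R.isPGroup' ⟨r, hr⟩
      exact bl χ hχ r ⟨k, by simpa using hk⟩ (fun e => r1 (by simp [e])) u hu
  obtain ⟨l, l1, l2⟩ := Gram.go_perm (v := fun (χ : {χ // χ ≠ H8.irrOne G}) => μ χ) (s := univ) (fun χ i hi => by
    have := single_le_sum (f := fun χ => μ χ i * μ χ i) (fun _ _ => mul_self_nonneg _) (mem_univ χ.1)
    rw [g1 i hi i hi] at this
    have a : gr i i ≤ 3 := by interval_cases i <;> decide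
    have : -2 < μ χ i := by nlinarith
    have : μ χ i < 2 := by nlinarith
    simp; omega) (fun i hi j hj => by
      rw [← g1 i hi j hj, Fintype.sum_eq_add_sum_subtype_ne _ (H8.irrOne G), g2 i hi, g2 j hj]
      ring) f8
  have key : ∀ i < 5, ∀ F : IrrCharacter G → ℂ, ∑ χ, μ χ i * F χ =
      w0 i * F (H8.irrOne G) + (l.map fun χ : {χ // χ ≠ H8.irrOne G} => μ χ i * F χ).sum := fun i hi F => by
    rw [Fintype.sum_eq_add_sum_subtype_ne _ (H8.irrOne G), g2 i hi, l2 _ fun χ h => by simp [h i hi]]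
  have t2' : t * t = 1 := by rw [← _root_.sq, ← ht, pow_orderOf_eq_one]
  have ord : ∀ i ∈ [2, 3], (Nat.card G : ℂ) * ∑ χ : IrrCharacter G,
      μ χ i * (χ.1 t * χ.1 t / charDegree χ.1) = 4608 * Nat.card π.ker ^ 3 := fun i hi => by
    have := H6.order_formula (CC t) t2' t2' (fun h => em (th i (en (π h)))) fun c hc a _ h => by
      by_contra h'
      have hc' := of_not_not (mt (hT i c) hc)
      exact t1 (hTI a h' c hc' (by simpa [h] using hc') ▸ hc')
    have i5 : i < 5 := by simp at hi; omega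
    have b : ∀ x y : CC t, (if IsConj t x ∧ IsConj t y then em (th i (en (π (x * y)))) else 0) =
        em (if NI (en (π x)) ∧ NI (en (π y)) then th i (ml (en (π x)) (en (π y))) else 0) := fun x y => by
      have a : ∀ {x : CC t}, (x : G) = t → en (π x) = 56 := fun h => by rw [← e56]; congr 2; exact Subtype.ext h
      simp only [cj, map_mul, en_mul]
      by_cases c : NI (en (π x)) ∧ NI (en (π y))
      · rw [if_pos c, if_pos ⟨.inr c.1, .inr c.2⟩]
      rw [if_neg c]
      split_ifs with d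
      · rcases d with ⟨d | d, e⟩
        · rw [a d, (k3 i i5 _ (en_mem _) (e.imp_left a)).1]
        · rw [a (e.resolve_right fun e => c ⟨d, e⟩), (k3 i i5 _ (en_mem _) (.inr d)).2]
      · simp
    have c := sm fun m => (L.map fun n => if NI m ∧ NI n then th i (ml m n) else 0).sum
    simp only [v1, cH, H6.pairSumIn, sum_filter, Fintype.sum_prod_type, b, H8.irr_one_eq] at this
    rw [sum_congr rfl fun x _ => sm fun n => if NI (en (π x)) ∧ NI n then th i (ml (en (π x)) n) else 0,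
      ← mul_sum, c, k2 i hi, map_ofNat] at this
    apply mul_left_cancel₀ o0
    push_cast at this
    linear_combination this / 48
  obtain _ | ⟨⟨s1, p1, q1⟩, _ | ⟨⟨s2, p2, q2⟩, _ | ⟨⟨s3, p3, q3⟩, _ | ⟨⟨s4, p4, q4⟩, _ | ⟨⟨s5, p5, q5⟩,
    _ | ⟨⟨s6, p6, q6⟩, _ | ⟨⟨s7, p7, q7⟩, _ | _⟩⟩⟩⟩⟩⟩⟩ := l1
  rename_i c1 c2 c3 c4 c5 c6 c7
  have d2 := (v4 2).symm.trans (key 2 (by norm_num) _)
  have d3 := (v4 3).symm.trans (key 3 (by norm_num) _)
  have o2 := ord 2 (by simp)
  have o3 := ord 3 (by simp)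
  rw [key _ (by norm_num)] at o2 o3
  simp only [Nat.forall_lt_succ_right, Nat.not_lt_zero, false_imp_iff, implies_true, true_and,
    List.getD_cons_zero, List.getD_cons_succ] at q1 q2 q3 q4 q5 q6 q7
  have b2 := g4 c2 (by simp only [q2]; omega)
  have b3 := g4 c3 (by simp only [q3]; omega)
  have b4 := g4 c4 (by simp only [q4]; omega)
  have b7 := g4 c7 (by simp only [q7]; omega)
  simp only [List.map_cons, List.map_nil, List.sum_cons, List.sum_nil, g3 _ b2, g3 _ b3, g3 _ b4, g3 _ b7,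
    q1, q2, q3, q4, q5, q6, q7, w0, List.getD_cons_zero, List.getD_cons_succ, deg_irrOne, H8.irrOne_apply,
    mul_zero, mul_one, mul_neg, Int.cast_zero, zero_mul, add_zero, zero_add, sub_zero] at d2 d3 o2 o3
  have n2 := big _ c2.2 b2
  have n3 := big _ c3.2 b3
  have n4 := big _ c4.2 b4
  have n7 := big _ c7.2 b7
  have e2 : 1 + s4 * charDegree c4.1.1 + s7 * charDegree c7.1.1 = 0 := by
    apply Int.cast_injective (α := ℂ); push_cast at d2 ⊢; linear_combination -d2
  have e3 : s2 * charDegree c2.1.1 + s3 * charDegree c3.1.1 + s7 * charDegree c7.1.1 = 0 := by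
    apply Int.cast_injective (α := ℂ); push_cast at d3 ⊢; linear_combination -d3
  have m2 : (charDegree c2.1.1 : ℂ) ≠ 0 := by simpa using (deg_pos c2.1).ne'
  have m3 : (charDegree c3.1.1 : ℂ) ≠ 0 := by simpa using (deg_pos c3.1).ne'
  have m4 : (charDegree c4.1.1 : ℂ) ≠ 0 := by simpa using (deg_pos c4.1).ne'
  have m7 : (charDegree c7.1.1 : ℂ) ≠ 0 := by simpa using (deg_pos c7.1).ne'
  have := ar3 (o := Nat.card π.ker) hodd (x := s7 * charDegree c7.1.1) (w := -s2 * charDegree c2.1.1) ?_ ?_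
  · simp only [abs_lt] at this
    rcases p2 with rfl | rfl <;> rcases p3 with rfl | rfl <;> rcases p4 with rfl | rfl <;> rcases p7 with rfl | rfl <;> omega
  · apply Int.cast_injective (α := ℂ)
    rw [← (CC t).card_mul_index, cH] at o2
    rcases p4 with rfl | rfl <;> rcases p7 with rfl | rfl <;> push_cast at d2 o2 ⊢ <;>
      field_simp at o2 <;> grind
  · apply Int.cast_injective (α := ℂ)
    have := mul_left_cancel₀ (Nat.cast_ne_zero.2 Nat.card_pos.ne') (o2.trans o3.symm)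
    rcases p2 with rfl | rfl <;> rcases p3 with rfl | rfl <;> rcases p4 with rfl | rfl <;> rcases p7 with rfl | rfl <;>
      push_cast at d2 d3 this ⊢ <;> field_simp at this <;> grind

end Cfsg.Agent.H1.Wo
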