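import Mathlib
import Cfsg.Agent.H1.Wo3
import Cfsg.Agent.H3.Two
import Cfsg.Agent.FT.Hall

/-! An involution centraliser which is `GL(2, 3)` modulo an odd core of order prime to three. -/

set_option autoImplicit false
set_option linter.unusedSectionVars false

namespace Cfsg.Agent.H1.Six

open Cfsg Finset Cfsg.Agent.H23 Cfsg.Agent.H23.GL23 Cfsg.Agent.H24.D1 Cfsg.Agent.H1.Wo
open scoped ComplexConjugate

variable {G : Type*} [Group G] [Finite G]

theorem k4 : ∀ n ∈ L, ¬ NI (ml n n) := by decide +kernel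

set_option maxHeartbeats 1000000 in
theorem odd_triv6 [IsSimpleGroup G] {t : G} (ht : orderOf t = 2) (π : CC t →* K) (hs : Function.Surjective π)
    (hk : π.ker = pPrimeCore 2 (CC t)) (hodd : Odd (CC t).index) (h1 : ∀ s : G, orderOf s = 2 → IsConj t s)
    (h3 : (Nat.card π.ker).Coprime 3) : π.ker = ⊥ := by
  classical
  have := Fintype.ofFinite G
  have := Fintype.ofFinite K
  have : Fact (Nat.Prime 2) := ⟨Nat.prime_two⟩
  by_contra hne
  have oo : Odd (Nat.card π.ker) := hk ▸ H2.odd_card_oddCore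
  have od : ∀ u ∈ π.ker, u ^ 2 = 1 → u = 1 := fun u hu h => by
    have a := orderOf_dvd_of_pow_eq_one h
    rcases (Nat.dvd_prime Nat.prime_two).1 a with b | b
    · exact orderOf_eq_one_iff.1 b
    · exact (oo.not_two_dvd_nat ((dvd_of_eq b.symm).trans (Subgroup.orderOf_dvd_natCard _ hu))).elim
  let t' : CC t := ⟨t, mem_CC.2 (Commute.refl t)⟩
  have ct : ∀ g : CC t, Commute t' g := fun g => Subtype.ext (mem_CC.1 g.2)
  have t2 : t' ^ 2 = 1 := Subtype.ext (ht ▸ pow_orderOf_eq_one t)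
  have t0 : t' ≠ 1 := fun h => by rw [show t = 1 from congrArg Subtype.val h] at ht; simp at ht
  have k28 : ∀ g, en (π g) = 28 ↔ g ∈ π.ker := fun g => by rw [← en_one, en_inj.eq_iff]; rfl
  have sq : ∀ g, ml (en (π g)) (en (π g)) = 28 ↔ g ^ 2 ∈ π.ker := fun g => by rw [← en_mul, ← map_mul, k28, sq]
  have ex : ∀ n ∈ L, ∃ h, en (π h) = n := fun n hn => by
    obtain ⟨a, rfl⟩ := exists_en hn
    obtain ⟨a, rfl⟩ := hs a
    exact ⟨a, rfl⟩
  have e56 : en (π t') = 56 := by
    obtain ⟨a, ha⟩ := ex 14 (by decide)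
    refine f5 _ (en_mem _) ((sq _).2 (t2 ▸ one_mem _)) (fun h => t0 (od _ ((k28 _).1 h) t2)) (.inl ?_)
    rw [← ha, ← en_mul, ← en_mul, ← map_mul, ← map_mul, (ct a).eq]
  have k56 : ∀ g, en (π g) = 56 ↔ t'⁻¹ * g ∈ π.ker := fun g => by
    rw [← e56, en_inj.eq_iff, MonoidHom.mem_ker, map_mul, map_inv, inv_mul_eq_one, eq_comm]
  have ni : ∀ g : CC t, orderOf g = 2 → (g : G) ≠ t → NI (en (π g)) := fun g hg h => by
    have g2 : g ^ 2 = 1 := hg ▸ pow_orderOf_eq_one g
    refine ⟨(sq _).2 (g2 ▸ one_mem _), fun a => ?_, fun a => h ?_⟩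
    · rw [od _ ((k28 _).1 a) g2] at hg; simp at hg
    · exact congrArg Subtype.val (inv_mul_eq_one.1 (od _ ((k56 _).1 a) (by
        rw [(ct g).inv_left.mul_pow, inv_pow, t2, g2]; simp))).symm
  have cj : ∀ h : CC t, IsConj t h ↔ (h : G) = t ∨ h ^ 2 = 1 ∧ NI (en (π h)) := fun h => by
    refine ⟨fun a => or_iff_not_imp_left.2 fun n => ?_, ?_⟩
    · have o := (Subgroup.orderOf_coe h).symm.trans ((orderOf_isConj a).symm.trans ht)
      exact ⟨o ▸ pow_orderOf_eq_one h, ni h o n⟩
    rintro (a | a)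
    · rw [a]
    exact h1 _ ((Subgroup.orderOf_coe h).trans (orderOf_eq_prime a.1 fun c => a.2.2.1 (c ▸ (k28 _).2 (one_mem _))))
  have o0 : (Nat.card π.ker : ℂ) ≠ 0 := Nat.cast_ne_zero.2 Nat.card_pos.ne'
  have cH : Nat.card (CC t) = 48 * Nat.card π.ker := by
    rw [← π.ker.card_mul_index, Subgroup.index_ker, MonoidHom.range_eq_top.2 hs, Subgroup.card_top, card_K, mul_comm]
  have sm0 : ∀ F : K → ℂ, ∑ h, F (π h) = Nat.card π.ker * ∑ k, F k := fun F => by
    rw [← sum_fiberwise (s := univ) (g := π), mul_sum]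
    refine sum_congr rfl fun k _ => ?_
    rw [sum_congr rfl fun h hh => congrArg F (mem_filter.1 hh).2, sum_const, nsmul_eq_mul,
      MonoidHom.card_fiber_eq_of_mem_range π (hs k) ⟨1, map_one π⟩]
    congr 2
    rw [Nat.card_eq_fintype_card, Fintype.card_subtype]; congr
  have sm : ∀ F : ℕ → ℤ√(-2), ∑ h : CC t, em (F (en (π h))) = Nat.card π.ker * em (L.map F).sum := fun F => by
    rw [← sum_en, map_sum]; exact sm0 fun g => em (F (en g))
  have ip : ∀ F F' : ℕ → ℤ√(-2), classInner (fun h : CC t => em (F (en (π h))))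
      (fun h => em (F' (en (π h)))) = 48⁻¹ * em (L.map fun n => F n * star (F' n)).sum :=
    fun F F' => by
      simp only [classInner, cH, em_star, ← map_mul, sm fun n => F n * star (F' n)]
      push_cast; field_simp
  have hTI : ∀ g : G, g ∉ CC t → ∀ s ∈ {s | t ∈ Subgroup.zpowers s},
      g * s * g⁻¹ ∈ {s | t ∈ Subgroup.zpowers s} → s = 1 := fun g hg s h1 ⟨k, hk⟩ => absurd (by
    have a1 : g⁻¹ * t * g⁻¹⁻¹ ∈ Subgroup.zpowers s := ⟨k, by
      simp only [← hk, conj_zpow]; group⟩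
    have a2 := (H20.eq_pow_half_of_mem_zpowers ((orderOf_isConj (isConj_iff.2 ⟨_, rfl⟩)).symm.trans
      ht) a1).2.trans (H20.eq_pow_half_of_mem_zpowers ht h1).2.symm
    exact (inv_mem_iff (x := g)).1 (mem_CC.2 (mul_inv_eq_iff_eq_mul.1 a2).symm)) hg
  have hT : ∀ i, ∀ x : CC t, (x : G) ∉ {s | t ∈ Subgroup.zpowers s} → em (th i (en (π x))) = 0 :=
    fun i x hx => by
    by_cases hi : i < 5
    swap
    · obtain ⟨i, rfl⟩ := Nat.exists_eq_add_of_le' (not_lt.1 hi)
      exact map_zero em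
    have a : ∀ k : ℕ, en (π (x ^ k)) ≠ 56 := fun k h => hx (by
      have b := pow_card_eq_one' (x := (⟨_, (k56 _).1 h⟩ : π.ker))
      obtain ⟨j, hj⟩ := oo
      rw [Subtype.ext_iff, Subgroup.coe_pow, (ct _).inv_left.mul_pow, hj, inv_pow, pow_succ t', pow_mul, t2, one_pow,
        one_mul, Subgroup.coe_one, inv_mul_eq_one, ← pow_mul] at b
      exact ⟨_, (zpow_natCast _ _).trans (congrArg Subtype.val b).symm⟩)
    rw [f4 _ (en_mem _) (by simpa using a 1) (by simpa [pow_succ, en_mul] using a 2)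
      (by simpa [pow_succ, en_mul] using a 3) (by simpa [pow_succ, en_mul] using a 4) i hi, map_zero]
  have t1 : (1 : G) ∉ {s | t ∈ Subgroup.zpowers s} := fun h => by
    rw [show t = 1 by simpa using h] at ht; simp at ht
  obtain ⟨μ, v1, v2, v3, v4⟩ := Gram.exists_mult _ hTI (fun i h => em (th i (en (π h))))
    (fun i => H6.isGen_comp π (gen_th i)) hT fun i => hT i 1 t1
  have g1 : ∀ i < 5, ∀ j < 5, ∑ χ, μ χ i * μ χ j = gr i j := fun i hi j hj => by
    apply Int.cast_injective (α := ℂ)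
    rw [v3, ip, f1 i hi j hj]; simp [map_ofNat]
  have g2 : ∀ i < 5, μ (H8.irrOne G) i = w0 i := fun i hi => by
    apply Int.cast_injective (α := ℂ)
    have := ip (th i) 1
    simp only [Pi.one_apply, map_one, f2 i hi] at this
    rw [← v2]
    exact this.trans (by simp [map_ofNat])
  obtain ⟨M, hM⟩ := H27.exists_pModular Nat.prime_two
  have pO : FT.PiGrp {2}ᶜ π.ker := (FT.p'grp_iff Nat.prime_two).2 oo.not_two_dvd_nat
  have bA : ∀ χ ∈ principalBlock M G, ∀ a : CC t, (∃ k, orderOf a = 2 ^ k) → a ≠ 1 → ∀ b ∈ π.ker, Commute a b →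
      χ.1 (a * b) = χ.1 a := fun χ hχ a ⟨k, hk'⟩ a1 b hb c => by
    by_cases tr : t ∈ Subgroup.zpowers (a : G)
    · have le : CC (a : G) ≤ CC t := fun g hg => by
        obtain ⟨j, hj⟩ := tr
        exact mem_CC.2 (hj ▸ (mem_CC.1 hg).zpow_left j)
      refine S0942.result 2 M hM _ ⟨k, by simpa using hk'⟩ _ (H2.le_pPrimeCore_map_subtype
        (K := π.ker.map (CC t).subtype ⊓ CC (a : G)) inf_le_right (FT.normsI (le.trans ?_) (Subgroup.le_normalizer))
        ?_ ⟨⟨b, hb, rfl⟩, mem_CC.2 (congrArg Subtype.val c)⟩) χ hχ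
      · simpa [Subgroup.normalizer_eq_top_iff.2 π.normal_ker, ← MonoidHom.range_eq_map] using Subgroup.le_normalizer_map (H := π.ker) (CC t).subtype
      · refine Nat.Coprime.coprime_dvd_left (Subgroup.card_dvd_of_le inf_le_left) ?_
        rw [Subgroup.card_map_of_injective (CC t).subtype_injective]; exact Nat.coprime_two_right.2 oo
    have o2 : orderOf a = 2 := by
      obtain _ | _ | k := k
      · exact (a1 (by simpa using hk')).elim
      · exact hk'
      have o : orderOf (a ^ 2 ^ (k + 1)) = 2 := by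
        rw [H3.orderOf_pow_pow Nat.prime_two hk' (by omega)]; simp
      refine (k4 _ (en_mem (π (a ^ 2 ^ k))) ?_).elim
      rw [← en_mul, ← map_mul, ← pow_add, ← two_mul, ← pow_succ']
      exact ni _ o fun e => tr ⟨((2 ^ (k + 1) : ℕ) : ℤ), (zpow_natCast _ _).trans e⟩
    obtain ⟨g, hg⟩ := isConj_iff.1 (h1 a ((Subgroup.orderOf_coe a).trans o2)).symm
    have m : g * b * g⁻¹ ∈ CC t := mem_CC.2 (by
      have := Commute.map (show Commute (a : G) b from congrArg Subtype.val c) (MulAut.conj g)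
      rwa [MulAut.conj_apply, hg] at this)
    have m2 : (⟨_, m⟩ : CC t) ∈ pPrimeCore 2 (CC t) := by
      rw [← hk, MonoidHom.mem_ker, ← orderOf_eq_one_iff]
      refine Nat.eq_one_of_dvd_coprimes (show (Nat.card π.ker).Coprime 48 from (by norm_num : 2 ^ 4 * 3 = 48) ▸
        ((Nat.coprime_two_right.2 oo).pow_right 4).mul_right h3) ((orderOf_map_dvd _ _).trans ?_)
        (card_K ▸ orderOf_dvd_natCard _)
      rw [Subgroup.orderOf_mk, FT.orderOf_conj, Subgroup.orderOf_coe]
      exact Subgroup.orderOf_dvd_natCard _ hb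
    have := S0942.result 2 M hM t ⟨1, ht⟩ _ ⟨_, m2, rfl⟩ χ hχ
    rw [← H6.isClassFunction_of_irr χ.2 _ g, ← H6.isClassFunction_of_irr χ.2 (a : G) g, ← conj_mul, hg]
    exact this
  have bl : ∀ χ ∈ principalBlock M G, ∀ r : CC t, (∃ k, orderOf (r : G) = 2 ^ k) → r ≠ 1 → ∀ u ∈ π.ker,
      χ.1 (u * r) = χ.1 r := fun χ hχ r ⟨k, hr⟩ r1 u hu => by
    have pr : FT.PiElt {2} r := by
      rw [FT.PiElt, ← Subgroup.orderOf_coe, hr]; exact FT.piNat_self_pow Nat.prime_two k
    have pπ : FT.PiElt {2} (π r) := FT.PiNat.of_dvd pr (orderOf_map_dvd π r)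
    have eπ : π (u * r) = π r := by rw [map_mul, hu, one_mul]
    have nr : Subgroup.zpowers r ≤ Subgroup.normalizer (π.ker : Set (CC t)) := by
      rw [Subgroup.normalizer_eq_top_iff.2 π.normal_ker]; exact le_top
    have xm : u * r ∈ π.ker ⊔ Subgroup.zpowers r := Subgroup.mul_mem_sup hu (Subgroup.mem_zpowers r)
    have ea : π (FT.constt {2} (u * r)) = π r := by rw [FT.constt_map, eπ, pπ.constt_eq]
    have eb : FT.constt {2}ᶜ (u * r) ∈ π.ker := by rw [MonoidHom.mem_ker, FT.constt_map, eπ, pπ.constt_compl]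
    obtain ⟨g, hg, e⟩ := (FT.Hall.sup_right pO pr.zpowers nr).syl_elt (FT.constt_mem {2} xm) (FT.piElt_constt _ _)
    have pa := FT.piElt_constt {2} (u * r)
    have cm := FT.constt_comm {2} {2}ᶜ (u * r)
    have dec := FT.constt_mul_compl {2} (u * r)
    generalize FT.constt {2} (u * r) = a at *
    have e2 : g * a * g⁻¹ = r := by
      obtain ⟨o, ho, w, hw, rfl⟩ := (FT.mem_sup_norm nr).1 hg
      refine (inv_mul_eq_one.1 ((pr.of_mem_zpowers (mul_mem (inv_mem (Subgroup.mem_zpowers r)) e)).eq_one_of_mem pO ?_)).symm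
      rw [MonoidHom.mem_ker]
      simp only [map_mul, map_inv, ea, show π o = 1 from ho, one_mul]
      rw [← map_mul, H3.comm_of_mem_zpowers hw (Subgroup.mem_zpowers r), map_mul]; simp
    rw [← Subgroup.coe_mul, ← dec, Subgroup.coe_mul, bA χ hχ a (FT.PiNat.exists_pow pa (orderOf_pos a).ne')
      (fun z => r1 (by rw [← e2, z]; simp)) _ eb cm, ← e2]
    exact (H6.isClassFunction_of_irr χ.2 _ _).symm
  have g3 : ∀ χ ∈ principalBlock M G, χ.1 t = (2 * μ χ 0 + 2 * μ χ 1 - 3 * μ χ 2 + μ χ 3 + 4 * μ χ 4 : ℤ) :=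
    fun χ hχ => by
    have a : ∑ h : CC t, GL23.em (if en (π h) = 56 then 48 else 0) * conj (χ.1 h) =
        Nat.card π.ker * 48 * conj (χ.1 t) := by
      rw [sum_congr rfl (g := fun h => GL23.em (if en (π h) = 56 then 48 else 0) * conj (χ.1 t)) fun h _ => by
        split_ifs with a
        · rw [← bl χ hχ t' ⟨1, ht⟩ t0 _ ((k56 h).1 a), ← Subgroup.coe_mul, ← (ct _).eq]; simp
        · simp, ← sum_mul, sm fun n => if n = 56 then 48 else 0,
        show (L.map fun n => if n = 56 then (48 : ℤ√(-2)) else 0).sum = 48 by decide +kernel, map_ofNat]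
    simp only [← f3 _ (en_mem _), map_add, map_sub, map_mul, map_ofNat, add_mul, sub_mul, mul_assoc,
      sum_add_distrib, sum_sub_distrib, ← mul_sum] at a
    apply star_injective
    push_cast
    simp only [star_add, star_sub, star_mul', star_ofNat, star_intCast]
    simp only [← v2, classInner, cH]
    rw [starRingEnd_apply (χ.1 t)] at a
    push_cast
    field_simp
    linear_combination -a
  have g4 : ∀ χ, 2 * μ χ 0 + 2 * μ χ 1 - 3 * μ χ 2 + μ χ 3 + 4 * μ χ 4 ≠ 0 → χ ∈ principalBlock M G := by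
    have a := block_sum ht π hs hk (H6.isSolvable_of_card_dvd (a := 4) (b := 1) Nat.prime_two Nat.prime_three
      (by rw [card_K]; norm_num)) hM
    rw [finsum_mem_eq_finite_toFinset_sum _ (Set.toFinite _), card_K, sum_congr rfl fun χ hχ => by
      rw [g3 χ ((Set.Finite.mem_toFinset _).1 hχ), Complex.norm_intCast, sq_abs]] at a
    have b : ∑ χ, (2 * μ χ 0 + 2 * μ χ 1 - 3 * μ χ 2 + μ χ 3 + 4 * μ χ 4) ^ 2 = 48 := by
      rw [sum_congr rfl (g := fun χ => ∑ i ∈ range 5, ∑ j ∈ range 5, [2, 2, -3, 1, 4].getD i 0 *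
        [2, 2, -3, 1, 4].getD j 0 * (μ χ i * μ χ j)) fun χ _ => by simp [sum_range_succ]; ring, sum_comm,
        sum_congr rfl fun i hi => by rw [sum_comm, sum_congr rfl fun j hj => by
          rw [← mul_sum, g1 i (mem_range.1 hi) j (mem_range.1 hj)]]]
      decide
    rw [← sum_sdiff (subset_univ (principalBlock M G).toFinite.toFinset)] at b
    norm_cast at a
    intro χ hχ
    by_contra h
    exact hχ (pow_eq_zero_iff two_ne_zero |>.1 ((sum_eq_zero_iff_of_nonneg fun _ _ => sq_nonneg _).1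
      (add_eq_right.1 (b.trans a.symm)) χ (by simpa using h)))
  obtain ⟨R⟩ : Nonempty (Sylow 2 (CC t)) := inferInstance
  have big : ∀ χ, χ ≠ H8.irrOne G → χ ∈ principalBlock M G → 16 ≤ charDegree χ.1 := fun χ h hχ => by
    by_contra hd
    refine hne ((Subgroup.map_eq_bot_iff_of_injective _ (CC t).subtype_injective).1 (small_deg χ.2
      (fun e => h (Subtype.ext e)) (not_le.1 hd) (R := R.1.map (CC t).subtype) ?_ ?_ ?_ ?_))
    · exact (Subgroup.map_subtype_le _).trans (by
        simpa [Subgroup.normalizer_eq_top_iff.2 π.normal_ker, ← MonoidHom.range_eq_map] using Subgroup.le_normalizer_map (H := π.ker) (CC t).subtype)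
    · rw [← Subgroup.map_inf _ _ _ (CC t).subtype_injective, Subgroup.map_eq_bot_iff_of_injective _ (CC t).subtype_injective]
      obtain ⟨k, hk⟩ := IsPGroup.iff_card.1 R.isPGroup'
      exact (Subgroup.disjoint_of_coprime_natCard (hk ▸ (Nat.coprime_two_right.2 oo).pow_right k)).eq_bot
    · rw [Subgroup.card_map_of_injective (CC t).subtype_injective, R.card_eq_multiplicity, cH,
        Nat.factorization_mul (by norm_num) Nat.card_pos.ne', Finsupp.add_apply,
        Nat.factorization_eq_zero_of_not_dvd oo.not_two_dvd_nat]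
      decide +kernel
    · rintro _ ⟨r, hr, rfl⟩ r1 _ ⟨u, hu, rfl⟩
      obtain ⟨k, hk⟩ := IsPGroup.iff_orderOf.1 R.isPGroup' ⟨r, hr⟩
      exact bl χ hχ r ⟨k, by simpa using hk⟩ (fun e => r1 (by simp [e])) u hu
  obtain ⟨l, l1, l2⟩ := Gram.go_perm (v := fun (χ : {χ // χ ≠ H8.irrOne G}) => μ χ) (s := univ) (fun χ i hi => by
    have := single_le_sum (f := fun χ => μ χ i * μ χ i) (fun _ _ => mul_self_nonneg _) (mem_univ χ.1)
    rw [g1 i hi i hi] at this
    have a : gr i i ≤ 3 := by interval_cases i <;> decide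
    have : -2 < μ χ i := by nlinarith
    have : μ χ i < 2 := by nlinarith
    simp; omega) (fun i hi j hj => by
      rw [← g1 i hi j hj, Fintype.sum_eq_add_sum_subtype_ne _ (H8.irrOne G), g2 i hi, g2 j hj]
      ring) f8
  have key : ∀ i < 5, ∀ F : IrrCharacter G → ℂ, ∑ χ, μ χ i * F χ =
      w0 i * F (H8.irrOne G) + (l.map fun χ : {χ // χ ≠ H8.irrOne G} => μ χ i * F χ).sum := fun i hi F => by
    rw [Fintype.sum_eq_add_sum_subtype_ne _ (H8.irrOne G), g2 i hi, l2 _ fun χ h => by simp [h i hi]]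
  have t2' : t * t = 1 := by rw [← _root_.sq, ← ht, pow_orderOf_eq_one]
  obtain ⟨k0, e0⟩ := exists_en (n := 55) (by decide)
  obtain ⟨β, hβ⟩ : ∃ β, β = #{h : CC t | h ^ 2 = 1 ∧ π h = k0} := ⟨_, rfl⟩
  have sm' : ∀ F : ℕ → ℤ√(-2), (∀ n, ¬ NI n → F n = 0) →
      ∑ h : CC t, (if h ^ 2 = 1 then em (F (en (π h))) else 0) = β * em (L.map F).sum := fun F hF => by
    rw [← sum_en, map_sum, mul_sum, ← sum_fiberwise (s := univ) (g := π)]
    refine sum_congr rfl fun k _ => ?_
    rw [sum_congr rfl (g := fun h => if h ^ 2 = 1 then em (F (en k)) else 0) fun h hh => by rw [(mem_filter.1 hh).2],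
      ← sum_filter, sum_const, nsmul_eq_mul]
    by_cases n : NI (en k)
    swap
    · simp [hF _ n]
    obtain ⟨m, m0, h⟩ := k1 _ (en_mem k) n _ (en_mem k0) (e0 ▸ by decide)
    obtain ⟨m, rfl⟩ := ex m m0
    rw [← en_mul, ← en_mul, en_inj.eq_iff] at h
    rw [hβ]
    congr 2
    refine card_equiv (MulAut.conj m).toEquiv fun x => ?_
    simp only [mem_filter, mem_univ, true_and, MulEquiv.toEquiv_eq_coe, EquivLike.coe_coe, MulAut.conj_apply, conj_pow,
      map_mul, map_inv, mul_inv_eq_iff_eq_mul, ← h, mul_right_inj, one_mul, mul_eq_left, and_comm]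
  have ord : ∀ i ∈ [2, 3], (Nat.card G : ℂ) * ∑ χ : IrrCharacter G,
      μ χ i * (χ.1 t * χ.1 t / charDegree χ.1) = 4608 * Nat.card π.ker * β ^ 2 := fun i hi => by
    have := H6.order_formula (CC t) t2' t2' (fun h => em (th i (en (π h)))) fun c hc a _ h => by
      by_contra h'
      have hc' := of_not_not (mt (hT i c) hc)
      exact t1 (hTI a h' c hc' (by simpa [h] using hc') ▸ hc')
    have i5 : i < 5 := by simp at hi; omega
    have b : ∀ x y : CC t, (if IsConj t x ∧ IsConj t y then em (th i (en (π (x * y)))) else 0) =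
        if x ^ 2 = 1 then if y ^ 2 = 1 then
          em (if NI (en (π x)) ∧ NI (en (π y)) then th i (ml (en (π x)) (en (π y))) else 0) else 0 else 0 := fun x y => by
      have a : ∀ {x : CC t}, (x : G) = t → en (π x) = 56 := fun h => by rw [← e56]; congr 2; exact Subtype.ext h
      simp only [cj, map_mul, en_mul]
      by_cases c : (x ^ 2 = 1 ∧ NI (en (π x))) ∧ y ^ 2 = 1 ∧ NI (en (π y))
      · rw [if_pos c.1.1, if_pos c.2.1, if_pos (And.intro c.1.2 c.2.2), if_pos ⟨.inr c.1, .inr c.2⟩]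
      have z : (if x ^ 2 = 1 then if y ^ 2 = 1 then
          em (if NI (en (π x)) ∧ NI (en (π y)) then th i (ml (en (π x)) (en (π y))) else 0) else 0 else 0) = 0 := by
        split_ifs with a1 a2 a3
        exacts [(c ⟨⟨a1, a3.1⟩, a2, a3.2⟩).elim, map_zero _, rfl, rfl]
      rw [z]
      split_ifs with d
      · rcases d with ⟨d | d, e⟩
        · rw [a d, (k3 i i5 _ (en_mem _) (e.imp a And.right)).1, map_zero]
        · rw [a (e.resolve_right fun e => c ⟨d, e⟩), (k3 i i5 _ (en_mem _) (.inr d.2)).2, map_zero]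
      · rfl
    have c := sm' (fun m => (L.map fun n => if NI m ∧ NI n then th i (ml m n) else 0).sum) fun m hm => by simp [hm]
    simp only [v1, cH, H6.pairSumIn, sum_filter, Fintype.sum_prod_type, b, H8.irr_one_eq] at this
    rw [sum_congr rfl (g := fun x => β * if x ^ 2 = 1 then
        em (L.map fun n => if NI (en (π x)) ∧ NI n then th i (ml (en (π x)) n) else 0).sum else 0) fun x _ => by
        split_ifs
        · exact sm' (fun n => if NI (en (π x)) ∧ NI n then th i (ml (en (π x)) n) else 0) fun n hn => by simp [hn]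
        · simp,
      ← mul_sum, c, k2 i hi, map_ofNat] at this
    apply mul_left_cancel₀ o0
    push_cast at this
    linear_combination this / 48
  obtain _ | ⟨⟨s1, p1, q1⟩, _ | ⟨⟨s2, p2, q2⟩, _ | ⟨⟨s3, p3, q3⟩, _ | ⟨⟨s4, p4, q4⟩, _ | ⟨⟨s5, p5, q5⟩,
    _ | ⟨⟨s6, p6, q6⟩, _ | ⟨⟨s7, p7, q7⟩, _ | _⟩⟩⟩⟩⟩⟩⟩ := l1
  rename_i c1 c2 c3 c4 c5 c6 c7
  have d2 := (v4 2).symm.trans (key 2 (by norm_num) _)
  have d3 := (v4 3).symm.trans (key 3 (by norm_num) _)
  have o2 := ord 2 (by simp)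
  have o3 := ord 3 (by simp)
  rw [key _ (by norm_num)] at o2 o3
  simp only [Nat.forall_lt_succ_right, Nat.not_lt_zero, false_imp_iff, implies_true, true_and,
    List.getD_cons_zero, List.getD_cons_succ] at q1 q2 q3 q4 q5 q6 q7
  have b2 := g4 c2 (by simp only [q2]; omega)
  have b3 := g4 c3 (by simp only [q3]; omega)
  have b4 := g4 c4 (by simp only [q4]; omega)
  have b7 := g4 c7 (by simp only [q7]; omega)
  simp only [List.map_cons, List.map_nil, List.sum_cons, List.sum_nil, g3 _ b2, g3 _ b3, g3 _ b4, g3 _ b7,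
    q1, q2, q3, q4, q5, q6, q7, w0, List.getD_cons_zero, List.getD_cons_succ, deg_irrOne, H8.irrOne_apply,
    mul_zero, mul_one, mul_neg, Int.cast_zero, zero_mul, add_zero, zero_add, sub_zero] at d2 d3 o2 o3
  have n2 := big _ c2.2 b2
  have n3 := big _ c3.2 b3
  have n4 := big _ c4.2 b4
  have n7 := big _ c7.2 b7
  have e2 : 1 + s4 * charDegree c4.1.1 + s7 * charDegree c7.1.1 = 0 := by
    apply Int.cast_injective (α := ℂ); push_cast at d2 ⊢; linear_combination -d2
  have e3 : s2 * charDegree c2.1.1 + s3 * charDegree c3.1.1 + s7 * charDegree c7.1.1 = 0 := by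
    apply Int.cast_injective (α := ℂ); push_cast at d3 ⊢; linear_combination -d3
  have m2 : (charDegree c2.1.1 : ℂ) ≠ 0 := by simpa using (deg_pos c2.1).ne'
  have m3 : (charDegree c3.1.1 : ℂ) ≠ 0 := by simpa using (deg_pos c3.1).ne'
  have m4 : (charDegree c4.1.1 : ℂ) ≠ 0 := by simpa using (deg_pos c4.1).ne'
  have m7 : (charDegree c7.1.1 : ℂ) ≠ 0 := by simpa using (deg_pos c7.1).ne'
  have := ar3 (o := β) hodd (x := s7 * charDegree c7.1.1) (w := -s2 * charDegree c2.1.1) ?_ ?_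
  · simp only [abs_lt] at this
    rcases p2 with rfl | rfl <;> rcases p3 with rfl | rfl <;> rcases p4 with rfl | rfl <;> rcases p7 with rfl | rfl <;> omega
  · apply Int.cast_injective (α := ℂ)
    rw [← (CC t).card_mul_index, cH] at o2
    rcases p4 with rfl | rfl <;> rcases p7 with rfl | rfl <;> push_cast at d2 o2 ⊢ <;>
      field_simp at o2 <;> grind
  · apply Int.cast_injective (α := ℂ)
    have := mul_left_cancel₀ (Nat.cast_ne_zero.2 Nat.card_pos.ne') (o2.trans o3.symm)
    rcases p2 with rfl | rfl <;> rcases p3 with rfl | rfl <;> rcases p4 with rfl | rfl <;> rcases p7 with rfl | rfl <;>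
      push_cast at d2 d3 this ⊢ <;> field_simp at this <;> grind

end Cfsg.Agent.H1.Six
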