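import Mathlib
import Cfsg.Agent.H1.Six6
import Cfsg.Agent.H1.Wo1
import Cfsg.Agent.H10.Polyhedral
import Cfsg.Agent.S3189
import Cfsg.Agent.S3285
import Cfsg.Agent.S2475

/-! The cases of an abelian Sylow subgroup. -/

set_option autoImplicit false
set_option linter.unusedSectionVars false

namespace Cfsg.Agent.H1.Six

open Cfsg Subgroup Cfsg.Agent.FT Cfsg.Agent.H3 Cfsg.Agent.H28
open scoped commutatorElement MatrixGroups

variable {G : Type*} [Group G] [Finite G] {t y a b c d e f g k r s u v w x z : G} {Q A B M N O P K S T X : Subgroup G}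

theorem St.card2 (h : St t y Q S) (hu : u ∈ S) (n : u ∉ Q) : #S = 2 * #Q :=
  card_of_relIndex h.QS (relIndex_eq_two_iff_exists_notMem_and.2 ⟨u, hu, n, fun b hb =>
    (em (b ∈ Q)).symm.imp_left fun m => h.ix b hb u hu m n⟩)

namespace Hp

variable (h : Hp t y)
include h

theorem tS (hS : Syl 2 S C[t]) : t ∈ S := hS.mem_of_cen (self_mem_cen1 t) (p2 h.tt) (le_cen1.1 hS.le)

theorem tyI (hS : Syl 2 S C[t]) (yn : y ∈ N(S)) : S ≤ C(S) ∧ #S = 8 ∧ ∀ a ∈ S, a * a = 1 := by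
  have k : St t y S S := ⟨h.dt (h.tS hS) hS.le hS.pi yn, le_rfl, hS.le, le_nrm S, fun a ha _ _ n => (n ha).elim,
    fun a ha n => (n ha).elim, h.sylH hS⟩
  refine k.ty1 h.one h.oy h.cy fun zq => ?_
  obtain ⟨v, hv, vv, v1⟩ := h.inv hS
  rcases k.two h.one h.star zq with z | z | ⟨_, -, ⟨u, hu, n⟩, -⟩
  exacts [v1 (z hv), v1 (z.1 v hv vv), n hu]

variable [IsSimpleGroup G]

theorem oc : oddCore G = ⊥ := (IsSimpleGroup.eq_bot_or_eq_top_of_normal (oddCore G) inferInstance).resolve_right fun e =>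
  (H2.odd_card_oddCore (G := G)).not_two_dvd_nat (h.ot ▸ orderOf_dvd_card' (e ▸ mem_top t))

theorem no2 (K : Subgroup G) : K.index ≠ 2 := fun e => by
  rcases IsSimpleGroup.eq_bot_or_eq_top_of_normal K (normal_of_index_eq_two e) with rfl | rfl
  · have := orderOf_dvd_natCard y
    rw [h.oy, ← index_bot, e] at this
    omega
  · simp at e

theorem na : ¬ ∀ a b : G, a * b = b * a := fun e => by
  obtain ⟨g, -, z⟩ := h.zs
  exact z (by rw [e g, mul_inv_cancel_right])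

theorem caseZ3 (hN : N ⊴ C[t]) (n : Nil N) (p : PiGrp {3}ᶜ N) (i : N.relIndex C[t] = 3) : False := by
  have hS := (n.pcore_hall {2}).of_relIndex hN.le (i ▸ p'nat_of_not_dvd (by norm_num))
  have yn := norms_pcore {2} hN.nrm h.yt
  obtain ⟨ab, c8, sq⟩ := h.tyI hS yn
  have fx := (h.dt (h.tS hS) hS.le hS.pi yn).fx
  obtain ⟨S, e⟩ := (syl_top_iff Nat.prime_two).1 (h.sylH hS)
  rw [← e] at ab c8 sq fx yn
  have sol : Sol C[t] := sup_zpowers_eq_of_prime (i ▸ Nat.prime_three) hN.le h.yt (fun z => h.y1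
    ((h.p3 (mem_zpowers y)).eq_one_of_mem p z)) ▸ n.sol.sup (sol_of_prime (h.cy3 ▸ Nat.prime_three))
      (zpowers_le.2 (hN.nrm h.yt))
  have r := S3189.result (fun z => h.na fun a b => z.1.1 a b) S ⟨ab_iff.2 ab, fun a ha => (_root_.sq a).trans (sq a ha)⟩ c8
    fun s hs => by
      obtain ⟨g, rfl⟩ := h.one t s h.tt h.t1 (by rw [← _root_.sq, ← hs, pow_orderOf_eq_one]) fun z => by simp [z] at hs
      exact cj_cen1 g t ▸ sol.cj g
  have m := (h.p3 (mem_zpowers y)).mem_of_relIndex yn (norms_cent le_rfl) (r ▸ p'nat_of_not_dvd (by norm_num))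
  have := card_le_of_le (show (S : Subgroup G) ≤ ⟪t⟫ from fun a ha => fx a ha (mem_cen.1 m a ha))
  rw [c8, card_zpowers', h.ot] at this
  omega

theorem caseA5 (f : C[t] →* alternatingGroup (Fin 5)) (hf : Function.Surjective f) (p : PGrp 2 (pker f))
    (tk : t ∈ pker f) : Spor.IsoJ1 G := by
  have pd : pmap f C[t] = ⊤ := by rw [pmap_dom, MonoidHom.range_eq_top.2 hf]
  obtain ⟨M, -, ⟨e⟩⟩ := H10.exists_A4_of_A5 (topEquiv (G := alternatingGroup (Fin 5)))
  obtain ⟨V, -, kV, nV, -⟩ := H10.exists_kleinFour_of_A4 e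
  obtain ⟨c, hc, oc⟩ := exists_elt_of_prime_dvd (H := M) Nat.prime_three (by
    have := two_mul_nat_card_alternatingGroup (α := Fin 4)
    rw [Nat.card_perm, Nat.card_fin, ← card_of_equiv e] at this
    norm_num [Nat.factorial] at this; omega)
  have hV : Syl 2 V (pmap f C[t]) := pd ▸ syl_of_not_dvd le_top (pGrp_of_card (n := 2) Nat.prime_two kV.card_four) (by
    have := FT.card_mul_relIndex (le_top (a := V))
    rw [card_top', H10.card_A5, kV.card_four] at this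
    omega)
  have hS := hV.inf_ppre le_rfl (p.inf_right _)
  rw [inf_eq_right.2 (ppre_le f V)] at hS
  obtain ⟨⟨a, ha⟩, rfl⟩ := hf c
  have rt := constt_mem {3} ha
  have fr : pfun f (constt {3} a) = f ⟨a, ha⟩ := by
    rw [pfun_constt f _ ha, pfun_of_mem f ha, ((piElt_of_orderOf_prime (π := {3}) Nat.prime_three oc).2 rfl).constt_eq]
  have rn : constt {3} a ∈ N(ppre f V) := zpowers_le.1 (norms_ppre (zpowers_le.2 rt) (by
    rw [pmap_zpowers f rt, fr]; exact zpowers_le.2 (nV (le_nrm M hc))))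
  obtain ⟨g, hg, m⟩ := h.s3.syl_elt rt (piElt_constt _ a)
  have yn : y ∈ N(cj g (ppre f V)) := zpowers_le.1 (by
    rw [eq_zpowers_of_prime (h.cy3 ▸ Nat.prime_three) m (conj_ne_one.2 fun z => by
      rw [z, pfun_one] at fr; simp [← fr] at oc), ← cj_zpowers]
    exact cj_norms.2 (zpowers_le.2 rn))
  have hS' := hS.cj_mem hg
  obtain ⟨ab, c8, -⟩ := h.tyI hS' yn
  rw [card_cj, card_ppre hV.le, kV.card_four] at c8
  have k : ⟪t⟫ = pker f := eq_of_card_eq (zpowers_le.2 tk) (by rw [card_zpowers', h.ot]; omega)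
  have tS := h.tS hS'
  have i : ⟪t⟫ ⊓ ⁅C[t], C[t]⁆ = ⊥ := eq_bot_iff.2 fun a ha => (abelian_Sylow_dp hS' (ab_iff.2 ab)).inf.le
    ⟨⟨zpowers_le.2 tS ha.1, ha.2⟩, zpowers_le.2 (show t ∈ _ ⊓ _ from ⟨tS, le_cen1.1 inf_le_left⟩) ha.1⟩
  have pT : pmap f ⁅C[t], C[t]⁆ = ⊤ := by
    rw [pmap_comm f le_rfl le_rfl, pd]; exact commutator_alternatingGroup_eq_top (by simp)
  obtain ⟨S, e⟩ := (syl_top_iff Nat.prime_two).1 (h.sylH hS')
  rcases S3285.result (fun z => h.na (IsSimpleGroup.comm_iff_isSolvable.2 z)) (fun N _ => h.no2 N) t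
    ⟨h.ot, S, e.ge tS, fun x hx => mem_cen1.1 (hS'.le (e.le hx))⟩ 5 ⁅C[t], C[t]⁆
    ⟨(pmapEquiv (der_le _) (k ▸ i)).trans ((MulEquiv.subgroupCongr pT).trans topEquiv)⟩
    ⟨zpowers_le.2 (self_mem_cen1 t), der_le _, fun a ha b hb =>
      (mem_cen1.1 (cen1_le_cen1_of_mem_zpowers ha (der_le _ hb))).symm, i, by
      rw [k, ← ppre_pmap f (der_le _), pT, ppre_top]⟩ with z | z
  exacts [by simp at z, z.2]

theorem caseK (k : St t y Q S) (hu : u ∈ S) (n : u ∉ Q) (hS : Syl 2 S C[t]) (l : Q ≤ ⟪t⟫) :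
    ∃ (F : Type) (_ : Field F) (_ : Fintype F), (Fintype.card F = 11 ∨ Fintype.card F = 13) ∧ Nonempty (G ≃* PSL(2, F)) := by
  obtain rfl := le_antisymm l (zpowers_le.2 k.tQ)
  have c4 := k.card2 hu n
  rw [card_zpowers', h.ot] at c4
  obtain ⟨v, hv, vv, v1⟩ := h.inv hS
  have sq : ∀ a ∈ S, a * a = 1 := fun a ha => by
    by_cases m : a ∈ ⟪t⟫
    · exact k.t2 m
    have z := k.ix a ha v hv m v1
    rw [← mul_inv_cancel_right a v, inv_eq_of_mul_eq_one_right vv, mul_assoc, ← mul_assoc v,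
      mem_cen1.1 (cen1_le_cen1_of_mem_zpowers z (k.st hv)), mul_assoc (a * v), vv, mul_one, k.t2 z]
  obtain ⟨S, rfl⟩ := (syl_top_iff Nat.prime_two).1 k.syl
  have : Nontrivial (S : Subgroup G) := Finite.one_lt_card_iff_nontrivial.1 (by omega)
  have : IsKleinFour (S : Subgroup G) := ⟨c4, (Monoid.exponent_eq_prime_iff Nat.prime_two).2 fun g hg =>
    o2 (Subtype.ext (sq g g.2)) hg⟩
  have : Group.IsPerfect G := ⟨(IsSimpleGroup.eq_bot_or_eq_top_of_normal _ inferInstance).resolve_left fun e =>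
    h.na fun a b => commutatorElement_eq_one_iff_mul_comm.1
      (mem_bot.1 (e ▸ commutator_mem_commutator (mem_top a) (mem_top b)))⟩
  obtain ⟨e⟩ := IsKleinFour.nonempty_mulEquiv (G₁ := (S : Subgroup G)) (G₂ := DihedralGroup 2)
  rcases Wo.gw h.oc S le_rfl e with ⟨F, _, _, o, l5, ⟨e⟩⟩ | z
  · refine ⟨F, inferInstance, inferInstance, ?_, ⟨e⟩⟩
    obtain ⟨p, _⟩ := CharP.exists F
    have pp : Fact p.Prime := ⟨CharP.char_is_prime F p⟩
    have sp := Set.ext_iff.1 (S2475.result (F := F) p (by omega))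
    rw [Wo.gcd_odd o] at sp
    have six : ∀ m, 6 ∣ m → m ∈ Set.range (orderOf : PSL(2, F) → ℕ) → m = 6 := fun m d ⟨g, hg⟩ => by
      rw [← hg, ← e.symm.orderOf_eq] at d ⊢
      exact h.six d
    obtain ⟨j, hj⟩ := o
    rcases (sp 6).1 ⟨e (t * y), by
      rw [e.orderOf_eq, (show Commute t y from (mem_cen1.1 h.yt).symm).orderOf_mul_eq_mul_orderOf_of_coprime
        (by rw [h.ot, h.oy]; norm_num), h.ot, h.oy]⟩ with z | z | z
    · exact absurd ((Nat.dvd_prime pp.out).1 z) fun x => x.elim (by norm_num) fun x => absurd (x ▸ pp.out) (by norm_num)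
    · have := six _ z ((sp _).2 (.inr (.inl dvd_rfl)))
      omega
    · have := six _ z ((sp _).2 (.inr (.inr dvd_rfl)))
      omega
  · have := S.pow_dvd_card_of_pow_dvd_card (n := 3) (by rw [z]; norm_num)
    omega

end Hp

end Cfsg.Agent.H1.Six
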