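import Mathlib
import Cfsg.Agent.H1.Wo1
import Cfsg.Agent.H3.QD
import Cfsg.Agent.H19.CoxA
import Cfsg.Agent.H23.GL23
import Cfsg.Agent.S3277

/-! A characterisation of `GL(2, 3)`. -/

set_option autoImplicit false
set_option linter.unusedSectionVars false

namespace Cfsg.Agent.H1.Wo

open Cfsg Subgroup Cfsg.Agent.FT Cfsg.Agent.H3

variable {G : Type*} [Group G] [Finite G] {z v w : G}

theorem two_of_npc (hO : oddCore G = ⊥) {D : Subgroup G} (hD : D.Normal) (h : NPC 2 D) : PGrp 2 D := by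
  have a := pcore_mono_nml {2}ᶜ (nml_top_iff.2 hD)
  rw [pcore_top, piCore_compl_singleton Nat.prime_two, show pPrimeCore 2 G = ⊥ from hO, le_bot_iff] at a
  have b := h.relIndex
  rwa [a, relIndex_bot_left] at b

theorem quot_S4 (hO : oddCore G = ⊥) (h2 : ¬ IsPGroup 2 G) (h16 : 16 ∣ Nat.card G) (hz : orderOf z = 2)
    (zc : ∀ g, Commute z g) (hv : orderOf v = 2) (hvz : v ≠ z)
    (hC : ∀ g, Commute g v → g = 1 ∨ g = z ∨ g = v ∨ g = v * z) (hw : w ^ 2 = 1) (hwv : w * v * w⁻¹ = v * z) :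
    ∃ φ : G →* Equiv.Perm (Fin 4), Function.Surjective φ ∧ (∀ g, φ g = 1 ↔ g = 1 ∨ g = z) ∧
      ∀ g, Commute (φ g) (φ v) → φ g = 1 ∨ φ g = φ v ∨ φ g = φ w ∨ φ g = φ w * φ v := by
  classical
  have : Fact (Nat.Prime 2) := ⟨Nat.prime_two⟩
  have z2 : z ^ 2 = 1 := hz ▸ pow_orderOf_eq_one z
  have v2 : v ^ 2 = 1 := hv ▸ pow_orderOf_eq_one v
  have z1 : z ≠ 1 := by rintro rfl; simp at hz
  have v1 : v ≠ 1 := by rintro rfl; simp at hv
  have nz : ⟪z⟫.Normal := ⟨fun n hn g => by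
    obtain ⟨i, rfl⟩ := hn
    simp [← ((zc g).zpow_left i).eq]⟩
  let φ := QuotientGroup.mk' ⟪z⟫
  have φs : Function.Surjective φ := QuotientGroup.mk'_surjective _
  have k1 : ∀ g, φ g = 1 ↔ g = 1 ∨ g = z := fun g => (QuotientGroup.eq_one_iff g).trans (mem_zpowers_two z2)
  have k2 : ∀ a b, φ a = φ b → a = b ∨ a = b * z := fun a b h => by
    have := (k1 (b⁻¹ * a)).1 (by simp [h])
    rwa [inv_mul_eq_one, inv_mul_eq_iff_eq_mul, eq_comm] at this
  have φz : φ z = 1 := (k1 z).2 (.inr rfl)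
  have cv : ∀ g, Commute (φ g) (φ v) → φ g = 1 ∨ φ g = φ v ∨ φ g = φ w ∨ φ g = φ w * φ v := fun g h => by
    rcases k2 (g * v * g⁻¹) v (by simp [h.eq]) with a | a
    · rcases hC g (mul_inv_eq_iff_eq_mul.1 a) with rfl | rfl | rfl | rfl <;> simp [φz]
    · have b : Commute (w⁻¹ * g) v := by
        rw [Commute, SemiconjBy, ← mul_inv_eq_iff_eq_mul]
        calc w⁻¹ * g * v * (w⁻¹ * g)⁻¹ = w⁻¹ * (g * v * g⁻¹) * w := by group
          _ = v := by rw [a, ← hwv]; group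
      rcases hC _ b with c | c | c | c <;> rw [inv_mul_eq_iff_eq_mul] at c <;> simp [c, φz]
  have c2 : #⟪z⟫ = 2 := (card_zpowers' z).trans hz
  have cQ : Nat.card G = 2 * Nat.card (G ⧸ ⟪z⟫) := by rw [← c2, ← index_eq_card, card_mul_index]
  have pz : PGrp 2 ⟪z⟫ := pGrp_of_card_prime Nat.prime_two c2
  have q2 : ¬ PGrp 2 (⊤ : Subgroup (G ⧸ ⟪z⟫)) := fun h => h2 (by
    obtain ⟨k, hk⟩ := h.card
    rw [card_top] at hk
    exact IsPGroup.of_card (n := k + 1) (by rw [cQ, hk, pow_succ']))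
  have qO : oddCore (G ⧸ ⟪z⟫) = ⊥ := by
    have a : Odd #(oddCore (G ⧸ ⟪z⟫)) := H2.odd_card_oddCore
    have le : ⟪z⟫ ≤ (oddCore (G ⧸ ⟪z⟫)).comap φ := zpowers_le.2 (by simp [mem_comap, φz])
    have b := two_of_npc hO (D := (oddCore (G ⧸ ⟪z⟫)).comap φ) inferInstance (npc_of_cyc_two (syl_of_not_dvd le pz (by
      have := relIndex_ker ((oddCore (G ⧸ ⟪z⟫)).comap φ) φ
      rw [QuotientGroup.ker_mk', map_comap_eq_self_of_surjective φs] at this
      rw [this]; exact a.not_two_dvd_nat)) (cyc_zpowers z))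
    obtain ⟨k, hk⟩ := IsPGroup.iff_card.1 (b.isPGroup.map φ)
    rw [map_comap_eq_self_of_surjective φs] at hk
    rcases k with _ | k
    · exact card_eq_one.1 hk
    · exact (a.not_two_dvd_nat (hk ▸ dvd_pow_self 2 k.succ_ne_zero)).elim
  obtain ⟨S, hS, vS⟩ := (pGrp_of_card_prime Nat.prime_two ((card_zpowers' v).trans hv)).exists_syl le_top
  obtain ⟨S, rfl⟩ := (syl_top_iff Nat.prime_two).1 hS
  have vS := zpowers_le.1 vS
  have zS : z ∈ (S : Subgroup G) := zpowers_le.1 (hS.ge_of_nml pz (nml_top_iff.2 nz))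
  obtain ⟨n, hn⟩ := hS.pi.card
  have n4 : 4 ≤ n := (Nat.pow_dvd_pow_iff_le_right one_lt_two).1 (hn ▸ S.pow_dvd_card_of_pow_dvd_card (n := 4) h16)
  obtain ⟨m, rfl⟩ : ∃ m, n = m + 1 := ⟨n - 1, by omega⟩
  obtain ⟨a, b, h⟩ := (maxCl_of_cen1' Nat.prime_two hn (by omega) vS (by
    refine le_trans (Nat.card_le_card_of_injective _ (Set.inclusion_injective (t := ({1, z, v, v * z} : Finset G))
      fun g hg => by simpa using hC g (mem_cen1.1 hg.2))) ?_
    simpa using Finset.card_le_four)).mc (by omega)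
  have ez : z = a ^ 2 ^ (m - 1) := (h.mem_z_iff.1 (h.center ▸ ⟨zS, fun g _ => (zc g).symm⟩)).resolve_left z1
  have h := h.out vS fun e => hvz ((h.eq_z e v2 v1).trans ez.symm)
  have no2 : ∀ E : Subgroup (G ⧸ ⟪z⟫), E.Normal → #E ≠ 2 := fun E hE c => by
    obtain ⟨e, he, e1⟩ := (bot_or_exists_ne_one E).resolve_left (ne_bot_of_prime_card (c ▸ Nat.prime_two))
    obtain ⟨c', rfl⟩ := φs e
    have ce := P22.cents_two c (A := ⊤) (normalizer_eq_top_iff.2 hE).ge
    have cc : ∀ g, g * c' * g⁻¹ = c' ∨ g * c' * g⁻¹ = c' * z := fun g =>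
      k2 _ _ (by simp [← ce (mem_top (φ g)) _ he])
    have sq : ∀ g, g ^ 2 ∈ C[c'] := fun g => by
      rw [mem_cen1, ← mul_inv_eq_iff_eq_mul, show g ^ 2 * c' * (g ^ 2)⁻¹ = g * (g * c' * g⁻¹) * g⁻¹ by rw [sq]; group]
      rcases cc g with a | a <;> rw [a]
      · exact a
      · rw [← mul_assoc, mul_assoc _ z, (zc _).eq, ← mul_assoc, a, mul_assoc, ← _root_.sq, z2, mul_one]
    have cS : c' ∈ (S : Subgroup G) := hS.ge_of_nml (pGrp_of_isPGroup Nat.prime_two
      ((IsPGroup.of_card (n := 1) c).comap_of_ker_isPGroup φ (by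
        rw [QuotientGroup.ker_mk']; exact pz.isPGroup))) (nml_top_iff.2 inferInstance) he
    have ca : c' ∈ ⟪a⟫ := by
      by_contra x
      have := ((h.out cS x).commute_iff (pow_mem (mem_zpowers a) 2)).1 (mem_cen1.1 (sq a))
      refine h.a_pow_four (by omega) ?_
      rcases h.mem_z_iff.1 this with y | y <;> rw [show 4 = 2 * 2 from rfl, pow_mul, y]
      exacts [one_pow 2, h.z_sq]
    have nc : C[c'].Normal := ⟨fun n hn g => by
      rw [mem_cen1] at hn ⊢
      have : Commute n (g⁻¹ * c' * g⁻¹⁻¹) := by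
        rcases cc g⁻¹ with a | a <;> rw [a]
        exacts [hn, Commute.mul_right hn (zc n).symm]
      simpa [mul_assoc] using (this.map (MulAut.conj g)).eq⟩
    have p := two_of_npc hO nc (npc_of_cyc_two (hS.inf_nml (nml_top_iff.2 nc)) (by
      rw [h.cen1_of_mem ca (ez ▸ fun x => e1 ((QuotientGroup.eq_one_iff _).2 x))]; exact cyc_zpowers a))
    refine h2 fun g => ?_
    obtain ⟨k, hk⟩ := p.isPGroup ⟨_, sq g⟩
    exact ⟨k + 1, by rw [pow_succ', pow_mul]; exact congrArg Subtype.val hk⟩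
  have φv : φ v ≠ 1 := fun e => ((k1 v).1 e).elim v1 hvz
  have φv2 : φ v ^ 2 = 1 := by rw [← map_pow, v2, map_one]
  have φw2 : φ w ^ 2 = 1 := by rw [← map_pow, hw, map_one]
  have cw : Commute (φ w) (φ v) := mul_inv_eq_iff_eq_mul.1 (by simpa [φz] using congrArg φ hwv)
  have nw : ∀ g, Commute g v → φ w ≠ φ g := fun g hg e => by
    have : Commute w v := by
      rcases k2 _ _ e with rfl | rfl
      exacts [hg, hg.mul_left (zc v)]
    rw [this.eq] at hwv
    exact z1 (by simpa using hwv.symm)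
  have eC : (C[φ v] : Set (G ⧸ ⟪z⟫)) = ({1, φ v, φ w, φ w * φ v} : Finset _) := by
    ext q
    obtain ⟨g, rfl⟩ := φs q
    simp only [SetLike.mem_coe, mem_cen1, Finset.coe_insert, Finset.coe_singleton, Set.mem_insert_iff,
      Set.mem_singleton_iff]
    refine ⟨cv g, ?_⟩
    rintro (e | e | e | e) <;> rw [e]
    exacts [by simp, cw, cw.mul_left rfl]
  have c24 : Nat.card (G ⧸ ⟪z⟫) = 24 := by
    by_contra hne
    obtain ⟨e⟩ := S3277.result (φ v) (orderOf_eq_prime φv2 φv) (by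
      refine (Nat.card_congr (Equiv.setCongr eC)).trans ?_
      have a1 := nw 1 (Commute.one_left _)
      have a2 := nw v rfl
      have a3 := nw v⁻¹ (Commute.refl v).inv_left
      rw [map_one] at a1
      rw [map_inv, Ne, ← mul_eq_one_iff_eq_inv] at a3
      simp only [Finset.coe_sort_coe, Nat.card_eq_fintype_card, Fintype.card_coe]
      rw [Finset.card_eq_four]
      exact ⟨_, _, _, _, φv.symm, a1.symm, Ne.symm a3, a2.symm, by simpa using a1, by simpa using φv, rfl⟩)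
      (fun c hc => by
        rcases (by simpa using eC.le hc : c = 1 ∨ c = φ v ∨ c = φ w ∨ c = φ w * φ v) with rfl | rfl | rfl | rfl
        exacts [one_pow 2, φv2, φw2, by rw [cw.mul_pow, φv2, φw2, mul_one]])
      (fun x => q2 (two_of_npc qO inferInstance ((npc_top_iff Nat.prime_two).2 x))) fun E hE he => ⟨no2 E hE, fun c4 => by
        have kE : IsKleinFour E := klein_iff.2 ⟨c4, he.2⟩
        let T := S.mapSurjective φs
        have hT := syl_top Nat.prime_two T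
        have ES := hT.ge_of_nml (klein_pGrp kE) (nml_top_iff.2 hE)
        obtain ⟨x1, x2, x3, x4⟩ := h.map_ker φ (k := m - 1) (by omega) fun x _ => ez ▸ QuotientGroup.eq_one_iff x
        have h' : MC T (φ a) (φ v) (m - 1) := ⟨by omega, x1, x2, by
          rw [← MonoidHom.map_zpowers, ← MonoidHom.map_zpowers, ← Subgroup.map_sup, h.sup]; rfl, x3 ▸ one_mem _, .inl x4⟩
        have y := h'.cen_le ES (klein_not_cyc kE)
        have nC := nml_top_iff.2 (inferInstance : C(E).Normal)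
        have eE : C(E) = E := le_antisymm ((le_inf (hT.ge_of_nml (two_of_npc qO inferInstance
          (npc_of_syl_center (hT.inf_nml nC) (cen_anti y))) nC) le_rfl).trans y) (klein_ab kE).le_cen
        have u := E.card_mul_index
        rcases h'.idx_four hT ES kE with ⟨x, -⟩ | ⟨x, -⟩ <;>
          rw [eE, normalizer_eq_top_iff.2 hE, relIndex_top_right] at x <;> rw [x, c4] at u
        exacts [q2 (pGrp_of_card (n := 3) Nat.prime_two (card_top.trans u.symm)), hne u.symm]⟩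
    have := two_mul_nat_card_alternatingGroup (α := Fin 5)
    rw [Nat.card_perm, Nat.card_fin, ← Nat.card_congr e.toEquiv, ← cQ] at this
    rw [this] at h16
    norm_num [Nat.factorial] at h16
  obtain ⟨e⟩ := H10.NoCycNormal.equiv_S4 (fun N hN hc => by
    by_contra x
    obtain ⟨P, hP⟩ := exists_syl 2 N
    obtain ⟨k, hk⟩ := (two_of_npc qO hN (npc_of_cyc_two hP (Cyc.mono hc hP.le))).card
    obtain ⟨⟨y, hy⟩, y2⟩ := exists_prime_orderOf_dvd_card' (G := N) 2 (hk ▸ dvd_pow_self 2 fun e => x (by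
      simpa [e] using hk))
    exact no2 ⟪y⟫ (nml_top_iff.1 (Cyc.nml_sub hc (zpowers_le.2 hy) (nml_top_iff.2 hN)))
      ((card_zpowers' y).trans ((orderOf_mk _ _).symm.trans y2))) c24
  refine ⟨e.toMonoidHom.comp φ, e.surjective.comp φs, fun g => by simpa using k1 g, fun g hg => ?_⟩
  rcases cv g (Commute.of_map e.injective hg) with a | a | a | a <;> simp [a]

open Equiv in
theorem s4a : ∀ a b : Perm (Fin 4), a * a = 1 → a ≠ 1 →
    (∀ g, g * a = a * g → g = 1 ∨ g = a ∨ g = b ∨ g = b * a) → ∃ c, c * a * c⁻¹ = swap 0 1 := by decide +kernel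

open Equiv in
theorem s4b : ∀ a : Perm (Fin 4), a ≠ 1 → ∃ c d, c * a * c⁻¹ = swap 0 1 * swap 2 3 ∨
    c * a * c⁻¹ * (d * a * d⁻¹) = swap 0 1 * swap 2 3 := by decide +kernel

open Equiv H23.GL23 in
theorem gl23 (hO : oddCore G = ⊥) (h2 : ¬ IsPGroup 2 G) (h16 : 16 ∣ Nat.card G) (hz : orderOf z = 2)
    (zc : ∀ g, Commute z g) (hv : orderOf v = 2) (hvz : v ≠ z)
    (hC : ∀ g, Commute g v → g = 1 ∨ g = z ∨ g = v ∨ g = v * z) (hw : w ^ 2 = 1) (hwv : w * v * w⁻¹ = v * z) :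
    Nonempty (G ≃* GL (Fin 2) (ZMod 3)) := by
  obtain ⟨φ, φs, k1, cv⟩ := quot_S4 hO h2 h16 hz zc hv hvz hC hw hwv
  have z2 : z * z = 1 := by rw [← sq, ← hz, pow_orderOf_eq_one]
  have v2 : v * v = 1 := by rw [← sq, ← hv, pow_orderOf_eq_one]
  have z1 : z ≠ 1 := by rintro rfl; simp at hz
  have φz : φ z = 1 := (k1 z).2 (.inr rfl)
  have k2 : ∀ a b, φ a = φ b → a = b ∨ a = b * z := fun a b h => by
    have := (k1 (b⁻¹ * a)).1 (by simp [h])
    rwa [inv_mul_eq_one, inv_mul_eq_iff_eq_mul, eq_comm] at this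
  have c48 : Nat.card G = 48 := by
    have : φ.ker = ⟪z⟫ := Subgroup.ext fun g => (k1 g).trans (mem_zpowers_two (by rw [sq, z2])).symm
    rw [← φ.ker.card_mul_index, index_ker, MonoidHom.range_eq_top.2 φs, card_top, this, card_zpowers', hz,
      Nat.card_perm, Nat.card_fin]; rfl
  obtain ⟨c, hc⟩ := s4a (φ v) (φ w) (by rw [← map_mul, v2, map_one])
    (fun e => ((k1 v).1 e).elim (by rintro rfl; simp at hv) hvz) fun g hg => by
      obtain ⟨g, rfl⟩ := φs g; exact cv g hg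
  obtain ⟨c, rfl⟩ := φs c
  have lift : ∀ s : G, s * s = 1 → ∀ σ : Perm (Fin 4), (φ s * (σ * φ s * σ⁻¹)) ^ 3 = 1 →
      ∃ s', s' * s' = 1 ∧ φ s' = σ * φ s * σ⁻¹ ∧ s * s' * s = s' * s * s' := fun s hs σ h => by
    obtain ⟨g, rfl⟩ := φs σ
    have a : g * s * g⁻¹ * (g * s * g⁻¹) = 1 := by rw [conj_mul, hs]; simp
    have br : ∀ s' : G, s' * s' = 1 → (s * s') ^ 3 = 1 → s * s' * s = s' * s * s' := fun s' h1 h2 => by
      rw [← inv_eq_of_mul_eq_one_right (show s * s' * s * (s' * s * s') = 1 by rw [← h2, pow_three]; group)]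
      simp [inv_eq_of_mul_eq_one_right h1, inv_eq_of_mul_eq_one_right hs, mul_assoc]
    rcases (k1 ((s * (g * s * g⁻¹)) ^ 3)).1 (by simpa using h) with b | b
    · exact ⟨_, a, by simp, br _ a b⟩
    · have a' : g * s * g⁻¹ * z * (g * s * g⁻¹ * z) = 1 := by rw [(zc _).mul_mul_mul_comm, a, z2, mul_one]
      refine ⟨_, a', by simp [φz], br _ a' ?_⟩
      rw [← mul_assoc, (zc _).symm.mul_pow, b, pow_three, ← mul_assoc, z2, mul_one]
  obtain ⟨s0, q0, p0, n0⟩ : ∃ s : G, s * s = 1 ∧ φ s = swap 0 1 ∧ ∀ g, Commute g s → φ g = 1 ∨ φ g = φ s :=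
    ⟨c * v * c⁻¹, by rw [conj_mul, v2]; simp, by simpa using hc, fun g hg => by
      rcases hC (c⁻¹ * g * c) (by simpa [mul_assoc] using hg.map (MulAut.conj c⁻¹)) with a | a | a | a <;>
        rw [show g = c * (c⁻¹ * g * c) * c⁻¹ by group, a] <;> simp [φz]⟩
  obtain ⟨s1, q1, p1, b1⟩ := lift s0 q0 (swap 0 2) (by rw [p0]; decide)
  rw [p0] at p1
  obtain ⟨s2, q2, p2, b2⟩ := lift s1 q1 (swap 1 3) (by rw [p1]; decide +kernel)
  rw [p1] at p2
  have p1 : φ s1 = swap 1 2 := p1.trans (by decide)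
  have p2 : φ s2 = swap 2 3 := p2.trans (by decide)
  have r : s0 * s2 * (s0 * s2) = z := ((k1 _).1 (by simp only [map_mul, p0, p2]; decide)).resolve_left fun e => by
    have := n0 s2 (by
      rw [Commute, SemiconjBy, ← inv_eq_of_mul_eq_one_right e, mul_inv_rev, inv_eq_of_mul_eq_one_right q0,
        inv_eq_of_mul_eq_one_right q2])
    rw [p0, p2] at this
    exact absurd this (by decide)
  obtain ⟨a0, e0⟩ := exists_en (n := 12) (by decide)
  obtain ⟨a1, e1⟩ := exists_en (n := 73) (by decide)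
  obtain ⟨a2, e2⟩ := exists_en (n := 55) (by decide)
  let s : ℕ → K × G := fun i => [(a0, s0), (a1, s1), (a2, s2)].getD i 1
  let u : K × G := (a0 * a2 * (a0 * a2), z)
  have u1 : en u.1 = 56 := by simp only [u, en_mul, e0, e2]; decide
  have uc : ∀ g, Commute u g := fun g => Prod.ext (en_inj (by
    simp only [Prod.fst_mul, en_mul, u1]
    exact (by decide : ∀ n ∈ L, ml 56 n = ml n 56) _ (en_mem _))) (zc _)
  have nu : ⟪u⟫.Normal := ⟨fun n hn g => by
    obtain ⟨i, rfl⟩ := hn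
    simp [← ((uc g).zpow_left i).eq]⟩
  have u2 : u ^ 2 = 1 := by
    rw [sq]; exact Prod.ext (en_inj (by simp only [Prod.fst_mul, en_mul, u1, Prod.fst_one, en_one]; decide)) z2
  let π := QuotientGroup.mk' ⟪u⟫
  have sq' : ∀ i < 3, s i * s i = 1 := fun i hi => by
    interval_cases i <;> refine Prod.ext (en_inj ?_) (by assumption) <;>
      simp only [s, List.getD_cons_zero, List.getD_cons_succ, Prod.fst_mul, en_mul, e0, e1, e2, Prod.fst_one,
        en_one] <;> decide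
  have cx : H19.CoxA (fun i => π (s i)) 3 := ⟨fun i hi => by rw [← map_mul, sq' i hi, map_one], fun i hi => by
      simp only [← map_mul]
      congr 1
      have : i < 2 := by omega
      interval_cases i <;> refine Prod.ext (en_inj ?_) (by assumption) <;>
        simp only [s, List.getD_cons_zero, List.getD_cons_succ, Prod.fst_mul, en_mul, e0, e1, e2] <;> decide,
    fun i j h1 h2 => by
      obtain ⟨rfl, rfl⟩ : i = 0 ∧ j = 2 := by omega
      have a : π (s 0) * π (s 2) * (π (s 0) * π (s 2)) = 1 := by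
        simp only [← map_mul]
        exact (QuotientGroup.eq_one_iff _).2 (by rw [show s 0 * s 2 * (s 0 * s 2) = u from Prod.ext rfl r]; simp)
      have b0 : π (s 0) * π (s 0) = 1 := by rw [← map_mul, sq' 0 (by norm_num), map_one]
      have b2 : π (s 2) * π (s 2) = 1 := by rw [← map_mul, sq' 2 (by norm_num), map_one]
      rw [Commute, SemiconjBy, ← inv_eq_of_mul_eq_one_right a, mul_inv_rev, inv_eq_of_mul_eq_one_right b0,
        inv_eq_of_mul_eq_one_right b2]⟩
  let Γ := closure (s '' Set.Iio 3)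
  have m : ∀ i < 3, s i ∈ Γ := fun i hi => subset_closure ⟨i, hi, rfl⟩
  have cΓ : #Γ ≤ Nat.card G := by
    have a := cx.card_le.2
    rw [← Set.image_image π s, ← MonoidHom.map_closure] at a
    have b := relIndex_ker Γ π
    rw [QuotientGroup.ker_mk'] at b
    have d : #(Γ ⊓ ⟪u⟫) ≤ 2 := (card_le_of_le inf_le_right).trans (by
      rw [card_zpowers']; exact orderOf_le_of_pow_eq_one two_pos u2)
    rw [← FT.card_mul_relIndex (inf_le_left : Γ ⊓ ⟪u⟫ ≤ Γ), inf_relIndex_left, b, c48]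
    exact (Nat.mul_le_mul d a).trans (by decide)
  obtain ⟨ψ, hψ⟩ := H19.hom_of_card Γ (fun g => by
    have a : (Γ.map (MonoidHom.snd K G)).map φ = ⊤ := by
      rw [eq_top_iff, ← toSubmonoid_le, top_toSubmonoid, ← Perm.mclosure_swap_castSucc_succ 3, Submonoid.closure_le]
      rintro _ ⟨i, rfl⟩
      fin_cases i
      exacts [⟨_, ⟨_, m 0 (by norm_num), rfl⟩, p0⟩, ⟨_, ⟨_, m 1 (by norm_num), rfl⟩, p1⟩, ⟨_, ⟨_, m 2 (by norm_num), rfl⟩, p2⟩]
    obtain ⟨_, ⟨x, hx, rfl⟩, e⟩ := a.ge (mem_top (φ g))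
    have uΓ : u ∈ Γ := by
      rw [show u = s 0 * s 2 * (s 0 * s 2) from Prod.ext rfl r.symm]
      exact mul_mem (mul_mem (m 0 (by norm_num)) (m 2 (by norm_num))) (mul_mem (m 0 (by norm_num)) (m 2 (by norm_num)))
    rcases k2 _ _ e.symm with e | e
    exacts [⟨x, hx, e.symm⟩, ⟨x * u, mul_mem hx uΓ, e.symm⟩]) cΓ
  have ψz : ψ z ≠ 1 := fun e => by
    have a0 : ψ s0 = a0 := hψ _ (m 0 (by norm_num))
    have a2 : ψ s2 = a2 := hψ _ (m 2 (by norm_num))
    rw [← r, map_mul, map_mul, a0, a2] at e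
    rw [show u.1 = 1 from e, en_one] at u1
    omega
  refine ⟨MulEquiv.ofBijective ψ (Function.Injective.bijective_of_nat_card_le ((injective_iff_map_eq_one ψ).2
    fun k hk => ?_) (by rw [c48, card_K]))⟩
  by_cases e : φ k = 1
  · exact ((k1 k).1 e).resolve_right fun a => ψz (a ▸ hk)
  obtain ⟨c, d, h⟩ := s4b _ e
  obtain ⟨c, rfl⟩ := φs c
  obtain ⟨d, rfl⟩ := φs d
  obtain ⟨k', h1, h2⟩ : ∃ k', ψ k' = 1 ∧ φ k' = φ (s0 * s2) := by
    rw [map_mul, p0, p2]
    rcases h with h | h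
    exacts [⟨c * k * c⁻¹, by simp [hk], by simpa using h⟩, ⟨c * k * c⁻¹ * (d * k * d⁻¹), by simp [hk], by simpa using h⟩]
  refine (ψz ?_).elim
  have : k' * k' = z := by
    rcases k2 _ _ h2 with rfl | rfl
    · exact r
    · rw [(zc _).mul_mul_mul_comm, r, z2, mul_one]
  rw [← this, map_mul, h1, mul_one]

end Cfsg.Agent.H1.Wo
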