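import Mathlib
import Cfsg.Agent.H1.Six7
import Cfsg.Agent.H1.Six8
import Cfsg.Agent.H1.Wo2
import Cfsg.Agent.H20.Transfer
import Cfsg.Agent.H28.MZ5
import Cfsg.Agent.H28.MZ6
import Cfsg.Agent.S2916
import Cfsg.Agent.S1221

/-! The case of a quotient `S₃`. -/

set_option autoImplicit false
set_option linter.unusedSectionVars false

namespace Cfsg.Agent.H1.Six

open Cfsg Subgroup Cfsg.Agent.FT Cfsg.Agent.H3 Cfsg.Agent.H28
open scoped commutatorElement MatrixGroups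

variable {G : Type*} [Group G] [Finite G] {t y a b c d e g k r s u v w x z : G} {Q A B M N O P K S T X : Subgroup G}

theorem St.cqv (h : St t y Q S) (zq : ∀ a ∈ Q, a ∈ C(Q) → a ∈ ⟪t⟫) (n : ∀ a ∈ Q, a * a = 1 → a ∈ ⟪t⟫) (QW : Q ≤ h.W)
    (hv : v ∈ S) (vQ : v ∉ Q) (vv : v * v = 1) (ha : a ∈ Q) (c : a ∈ C[v]) : a ∈ ⟪t⟫ := by
  by_contra m
  obtain ⟨q, hq, e⟩ := h.uy hv vQ
  obtain ⟨τ, hτ, e2⟩ := h.n1' ha
  have c1 : v * a * v⁻¹ = a := by rw [← mem_cen1.1 c, mul_inv_cancel_right]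
  have σ := (QW ha).2 q hq
  have e3 := e a ha
  rw [c1, show q * a * q⁻¹ = ⁅q, a⁆ * a by rw [commutatorElement_def, inv_mul_cancel_right], show y⁻¹ * (⁅q, a⁆ * a) * y =
    y⁻¹ * ⁅q, a⁆ * y⁻¹⁻¹ * (y⁻¹ * a * y) by group, h.cjt (inv_mem h.yt) σ, e2] at e3
  have aa := (h.mt.1 (h.sqW zq (QW ha))).resolve_left fun z => m (n a ha z)
  have bb : y * a * y⁻¹ * (y * a * y⁻¹) = t := by rw [conj_mul, aa, h.cjt h.yt (mem_zpowers t)]
  have bQ := conj_mem h.yn ha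
  generalize ⁅q, a⁆ = σ' at *
  generalize y * a * y⁻¹ = b at *
  have ab := h.ct (mul_mem ha bQ)
  have e4 : v * b * v⁻¹ = (a * b)⁻¹ * (σ' * τ) := by
    rw [e3, ← h.cjt (inv_mem ab) σ]; nth_rw 2 [← h.cjt ab σ]; group
  have ρ := mul_mem σ hτ
  generalize σ' * τ = ρ' at *
  have e5 : b = a * b * a⁻¹ := calc
    b = v * (v * b * v⁻¹) * v⁻¹ := by rw [show v * (v * b * v⁻¹) * v⁻¹ = v * v * b * (v * v)⁻¹ by group, vv]; simp
    _ = (v * a * v⁻¹ * (v * b * v⁻¹))⁻¹ * (v * ρ' * v⁻¹) := by nth_rw 1 [e4]; group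
    _ = (a * b * a⁻¹) * ((a * b * a⁻¹)⁻¹ * ρ'⁻¹ * (a * b * a⁻¹)⁻¹⁻¹) * ρ' := by rw [c1, e4, h.cjt (h.st hv) ρ]; group
    _ = _ := by rw [h.cjt (inv_mem (mul_mem ab (inv_mem (h.ct ha)))) (inv_mem ρ)]; group
  have z := n _ (mul_mem ha bQ) (by rw [mul_assoc, ← mul_assoc b, eq_mul_inv_iff_mul_eq.1 e5, mul_assoc, bb, ← mul_assoc,
    aa, h.tt])
  have := conj_mem (h.nt h.yt) (e2 ▸ mul_mem (inv_mem z) hτ : y⁻¹ * a * y ∈ ⟪t⟫)
  exact m (by rwa [show y * (y⁻¹ * a * y) * y⁻¹ = a by group] at this)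

theorem Fv.ext (h : Fv t y s Q S) (l : Q ⊓ C(Eg t y s) ≤ Eg t y s) : Q ≤ h.W ∧ #Q = 32 := by
  obtain ⟨r, hr, rs, er⟩ := h.r1
  obtain ⟨b, hb, eb⟩ := h.bb
  have ix : ∀ x ∈ h.W, ∀ a ∈ Q, ⁅a, x⁆ = t → ∀ q ∈ Q, q * a ∈ C[x] ∨ q ∈ C[x] := fun x hx a ha e q hq =>
    (em _).symm.imp_left fun m => h.ix2 (h.ct hq) (h.nc (hx.2 q hq) m) e
  have nc : ∀ {a x}, ⁅a, x⁆ = t → a ∉ C[x] := fun e z => h.t1 (e ▸ comm_one.2 z)
  have mE : ∀ a ∈ Q, a ∈ C[s] → a * r ∈ Eg t y s ∨ a ∈ Eg t y s := fun a ha c =>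
    (ix _ h.eW r hr er a ha).imp (fun z => l (h.mP.2 ⟨mul_mem ha hr, mul_mem c rs, z⟩)) fun z => l (h.mP.2 ⟨ha, c, z⟩)
  have rW : r ∈ h.W := ⟨hr, fun q hq => comm_symm (h.l1 h.sW (mem_zpowers t) (h.ct.trans h.nt) (h.nt h.yt) hr
    (fun a ha c => by
      rcases mE a ha c with z | z
      · have := (h.EW z).2 r hr
        rwa [show ⁅r, a * r⁆ = ⁅r, a⁆ by simp [commutatorElement_def, mul_assoc]] at this
      · exact (h.EW z).2 r hr) q hq)⟩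
  have RW : ∀ a ∈ Q, a ∈ C[s] → a ∈ h.W := fun a ha c =>
    (mE a ha c).elim (fun z => (mul_mem_cancel_right rW).1 (h.EW z)) fun z => h.EW z
  have r' := conj_mem (h.nW h.yn h.yt) rW
  have r1 : y * r * y⁻¹ ∉ C[s] := fun z => by
    obtain ⟨τ, hτ, e⟩ := h.n1' h.sQ
    refine nc (a := y * r * y⁻¹) (x := y * (y * s * y⁻¹) * y⁻¹) (by rw [← cjcomm, er, h.cjt h.yt (mem_zpowers t)]) ?_
    rw [h.yy', e]
    exact csym (mul_mem (inv_mem (mul_mem (csym z) (csym (cjcen rs y))))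
      (csym (cen1_le_cen1_of_mem_zpowers hτ (h.ct r'.1))))
  refine ⟨fun q hq => (ix s h.sW _ r'.1 (h.nc (h.sW.2 _ r'.1) r1) q hq).elim
    (fun z => (mul_mem_cancel_right r').1 (RW _ (mul_mem hq r'.1) z)) (RW q hq), ?_⟩
  have c1 := card_of_relIndex (inf_le_left : Q ⊓ C[s] ≤ Q) (relIndex_eq_two_iff_exists_notMem_and.2 ⟨b, hb,
    fun z => nc eb z.2, fun q hq => (ix s h.sW b hb eb q hq).imp (fun z => ⟨mul_mem hq hb, z⟩) fun z => ⟨hq, z⟩⟩)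
  have c2 := card_of_relIndex (S := Q ⊓ C[s]) (fun a ha => ⟨h.EQ ha, cen_le_cen1 (h.VE h.sV) (h.abE ha)⟩)
    (relIndex_eq_two_iff_exists_notMem_and.2 ⟨r, ⟨hr, rs⟩, fun z => nc er (cen_le_cen1 h.eE (h.abE z)),
      fun q hq => mE q hq.1 hq.2⟩)
  have c3 := card_of_relIndex h.VE (relIndex_sup_zpowers Nat.prime_two (h.nV (h.QS h.eW.1))
    (fun z => nc er (h.cV (h.ct hr) rs z)) (by rw [sq, h.ee]; exact one_mem _))
  have c4 := card_of_relIndex h.tV' (relIndex_sup_zpowers Nat.prime_two (h.nt (h.ct h.sQ)) h.s1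
    (by rw [sq, h.ss]; exact one_mem _))
  rw [card_zpowers', o2 h.tt h.t1] at c4
  omega

/-- the centraliser is nilpotent by `S₃` -/
structure T2 (t y u : G) (N Q O S : Subgroup G) (f : C[t] →* Equiv.Perm (Fin 3)) : Prop extends St t y Q S where
  hp : Hp t y
  hS : Syl 2 S C[t]
  uS : u ∈ S
  uQ : u ∉ Q
  dp : DP Q O N
  nO : O ⊴ C[t]
  nQ : Q ⊴ C[t]
  nl : Nil O
  pO : PiGrp {2}ᶜ O
  p3 : PiGrp {3}ᶜ O
  ker : pker f = N
  i6 : N.relIndex C[t] = 6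
  hl : ∀ a ∈ C[t], PiElt {2}ᶜ a → PiElt {3}ᶜ a → a ∈ O
  s2 : ∀ a ∈ S, pfun f a * pfun f a = 1
  sN : ∀ a ∈ S, a ∈ N → a ∈ Q
  iw : ∀ u ∈ S, u ∉ Q → y * (u * y * u⁻¹) ∈ N

theorem Hp.t2 (h : Hp t y) (hN : N ⊴ C[t]) (tN : t ∈ N) (n : Nil N) (p : PiGrp {3}ᶜ N) (f : C[t] →* Equiv.Perm (Fin 3))
    (hf : Function.Surjective f) (k : pker f = N) : ∃ u S, T2 t y u N O[{2}](N) O[{2}ᶜ](N) S f := by
  obtain ⟨⟨a, ha⟩, e⟩ := hf (Equiv.swap 0 1)
  have ut := constt_mem {2} ha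
  obtain ⟨S, hS, uS⟩ := (piElt_constt {2} a).zpowers.exists_syl (zpowers_le.2 ut)
  have fu : pfun f (constt {2} a) = Equiv.swap 0 1 := by
    rw [pfun_constt f _ ha, pfun_of_mem f ha, e, (p2 (Equiv.swap_mul_self 0 1)).constt_eq]
  have i6 : N.relIndex C[t] = 6 := by
    rw [← k, ← card_pmap f le_rfl, pmap_dom, MonoidHom.range_eq_top.2 hf, card_top', Nat.card_perm, Nat.card_fin]; rfl
  have s2 : ∀ a ∈ S, pfun f a * pfun f a = 1 := fun a ha =>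
    ((by decide : ∀ x : Equiv.Perm (Fin 3), x * x = 1 ∨ x ^ 3 = 1) _).elim id fun z => by
      rw [((hS.pi.piElt ha).pfun f).eq_one ((pElt_of_pow_eq_one Nat.prime_three z).pi (by simp)), mul_one]
  have sN : ∀ a ∈ S, a ∈ N → a ∈ O[{2}](N) := fun a h1 h2 => n.mem_pcore h2 (hS.pi.piElt h1)
  have f1 : ∀ a ∈ S, a ∉ O[{2}](N) → pfun f a ≠ 1 := fun a h1 h2 z => h2 (sN a h1 (k ▸ (pfun_eq_one_iff (hS.le h1)).1 z))
  have iw : ∀ u ∈ S, u ∉ O[{2}](N) → y * (u * y * u⁻¹) ∈ N := fun u h1 h2 => by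
    have m := hS.le h1
    have m' := conj_mem (le_nrm _ m) h.yt
    rw [← k, ← pfun_eq_one_iff (mul_mem h.yt m'), pfun_mul f h.yt m', pfun_conj f m h.yt]
    exact (by decide : ∀ c u : Equiv.Perm (Fin 3), c ^ 3 = 1 → u * u = 1 → u ≠ 1 → c * (u * c * u⁻¹) = 1) _ _
      (by rw [← pfun_pow f h.yt, h.y3, pfun_one]) (s2 u h1) (f1 u h1 h2)
  have dp := n.dp_pcore {2}
  have nQ := hN.pcore {2}
  refine ⟨_, S, ⟨h.dt (n.mem_pcore tN (p2 h.tt)) nQ.le (pcore_pi _ _) (nQ.nrm h.yt), hS.ge_of_nml (pcore_pi _ _) nQ, hS.le,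
    hS.le.trans nQ.nrm, fun a h1 b h2 h3 h4 => sN _ (mul_mem h1 h2) ?_,
    fun u h1 h2 => sup_le_sup_left dp.cen _ (dp.sup.ge (iw u h1 h2)), h.sylH hS⟩, h, hS, uS (mem_zpowers _), fun z => ?_,
    dp, hN.pcore _, nQ, n.mono (pcore_le _ _), pcore_pi _ _, p.mono (pcore_le _ _), k, i6, fun a h1 h2 h3 =>
    n.mem_pcore (PiElt.mem_of_relIndex (π := {2}ᶜ ∩ {3}ᶜ) (h2.inter h3) h1 hN.nrm fun q hq d z => ?_) h2, s2, sN, iw⟩
  · have := s2 _ (mul_mem h1 h2)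
    rw [← k, ← pfun_eq_one_iff (hS.le (mul_mem h1 h2))]
    rw [pfun_mul f (hS.le h1) (hS.le h2)] at this ⊢
    exact (by decide : ∀ a b : Equiv.Perm (Fin 3), a * a = 1 → b * b = 1 → a * b * (a * b) = 1 → a ≠ 1 → b ≠ 1 → a * b = 1)
      _ _ (s2 a h1) (s2 b h2) this (f1 a h1 h3) (f1 b h2 h4)
  · exact absurd (fu.symm.trans ((pfun_eq_one_iff ut).2 (k ▸ pcore_le _ _ z))) (by decide)
  · rw [i6] at d
    exact ((hq.dvd_mul (m := 2) (n := 3)).1 d).elim (fun x => z.1 ((Nat.prime_dvd_prime_iff_eq hq Nat.prime_two).1 x))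
      fun x => z.2 ((Nat.prime_dvd_prime_iff_eq hq Nat.prime_three).1 x)

namespace T2

variable {f : C[t] →* Equiv.Perm (Fin 3)} (h : T2 t y u N Q O S f) [IsSimpleGroup G]
include h

theorem quat (zq : ∀ a ∈ Q, a ∈ C(Q) → a ∈ ⟪t⟫) (n : ∀ a ∈ Q, a * a = 1 → a ∈ ⟪t⟫) (QW : Q ≤ h.W) (c8 : 8 ∣ #Q) :
    (∃ (F : Type) (_ : Field F) (_ : Fintype F), Fintype.card F = 3 ∧ Nonempty (G ≃* PSL(3, F))) ∨ Spor.IsoM11 G := by
  have hp := h.hp
  have Qt : ¬ Q ≤ ⟪t⟫ := fun z => by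
    have := c8.trans (card_dvd z)
    rw [card_zpowers', hp.ot] at this
    omega
  let π := QuotientGroup.mk' (oddCore C[t])
  have πs : Function.Surjective π := QuotientGroup.mk'_surjective _
  have k : pker π = O := by
    rw [pker, QuotientGroup.ker_mk', ← pcore_compl_singleton Nat.prime_two]
    refine le_antisymm (fun a ha => h.hl a (pcore_le _ _ ha) ((pcore_pi _ _).piElt ha)
      (PiGrp.piElt (p'grp_of_not_dvd fun d => Qt fun q hq => ?_) ha)) (pcore_max h.pO h.nO)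
    obtain ⟨r, hr, o⟩ := exists_elt_of_prime_dvd Nat.prime_three d
    obtain ⟨c, hc, e⟩ := hp.cj3 (pcore_le _ _ hr) o
    have m : y ∈ O[{2}ᶜ](C[t]) := (e ▸ zpowers_le.2 (conj_mem (pcore_nrm _ _ hc) hr) : ⟪y⟫ ≤ _) (mem_zpowers y)
    exact h.fx q hq (mem_cen.1 (pcore_cents_of_pi' (π := {2}ᶜ) (piGrp_compl_compl.2 h.pQ) h.nQ m) q hq)
  have inj : ∀ a ∈ S, ∀ b ∈ S, pfun π a = pfun π b → a = b := fun a ha b hb e => inv_mul_eq_one.1
    ((h.hS.pi.piElt (mul_mem (inv_mem ha) hb)).eq_one_of_mem h.pO (k ▸ (pfun_eq_iff (h.st ha) (h.st hb)).1 e))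
  have o : ∀ a ∈ S, a * a = 1 → a ≠ 1 → orderOf (pfun π a) = 2 := fun a ha aa a1 =>
    o2 (by rw [← pfun_mul π (h.st ha) (h.st ha), aa, pfun_one]) fun z => a1 (inj a ha 1 (one_mem _) (by rw [z, pfun_one]))
  obtain ⟨v, hv, vv, v1⟩ := hp.inv h.hS
  have vQ : v ∉ Q := fun z => v1 (n v z vv)
  have vt := h.st hv
  have tt := self_mem_cen1 t
  have tS := h.QS h.tQ
  obtain ⟨a, ha, a1, ea⟩ := meet h.syl.pi ⟨h.QS, h.SQ⟩ (h.st.trans h.nt) Qt
  have va := h.nc (ea v hv) fun z => a1 (h.cqv zq n QW hv vQ vv ha (csym z))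
  have aa := (h.mt.1 (h.sqW zq (QW ha))).resolve_left fun z => a1 (n a ha z)
  have vi : v⁻¹ = v := inv_eq_of_mul_eq_one_right vv
  have va' : v * a * v⁻¹ = t * a := by rw [← va, commutatorElement_def, inv_mul_cancel_right]
  have at' := h.ct ha
  have cN : ∀ g ∈ N, Commute (pfun π g) (pfun π v) → pfun π g = 1 ∨ pfun π g = pfun π t := fun g hg c => by
    obtain ⟨q, hq, w, hw, rfl⟩ := h.dp.mulEq.mul g hg
    rw [pfun_mul π (h.ct hq) (h.nO.le hw), (pfun_eq_one_iff (h.nO.le hw)).2 (k.ge hw), mul_one] at c ⊢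
    rcases h.mt.1 (h.cqv zq n QW hv vQ vv hq (mem_cen1.2 (inj _ (mul_mem (h.QS hq) hv) _ (mul_mem hv (h.QS hq)) (by
      rw [pfun_mul π (h.ct hq) vt, pfun_mul π vt (h.ct hq), c.eq])))) with z | z <;> rw [z]
    exacts [.inl (pfun_one π), .inr rfl]
  have zc : ∀ g, Commute (pfun π t) g := fun g => by
    obtain ⟨⟨g, hg⟩, rfl⟩ := πs g
    rw [← pfun_of_mem, Commute, SemiconjBy, ← pfun_mul π tt hg, ← pfun_mul π hg tt, mem_cen1.1 hg]
  obtain ⟨e⟩ := Wo.gl23 (z := pfun π t) (v := pfun π v) (w := pfun π (a * v)) H2.pPrimeCore_quotient_self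
    (fun x => hp.y1 ((hp.p3 (mem_zpowers y)).eq_one_of_mem h.p3 (k ▸ (pfun_eq_one_iff h.yt).1
      (((pElt_iff Nat.prime_two).2 (x _)).eq_one (((hp.p3 (mem_zpowers y)).pfun π).pi (by simp))))))
    (by
      have := card_subgroup_dvd_card (pmap π S)
      rw [card_pmap_of_inf h.st (k ▸ h.pO.inf_eq_bot' h.hS.pi), h.card2 h.uS h.uQ] at this
      exact (Nat.mul_dvd_mul_left 2 c8).trans this)
    (o t tS h.tt h.t1) zc (o v hv vv fun z => v1 (z ▸ one_mem _)) (fun z => v1 (inj v hv t tS z ▸ mem_zpowers t))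
    (fun g c => by
      obtain ⟨⟨g, hg⟩, rfl⟩ := πs g
      rw [← pfun_of_mem] at c ⊢
      have c2 := c.eq
      rw [← pfun_mul π hg vt, ← pfun_mul π vt hg, pfun_eq_iff (mul_mem hg vt) (mul_mem vt hg), k] at c2
      have c3 := (pfun_eq_iff (mul_mem hg vt) (mul_mem vt hg)).2 (h.ker.ge (h.dp.right c2))
      rw [pfun_mul f hg vt, pfun_mul f vt hg] at c3
      rcases (by decide : ∀ g v : Equiv.Perm (Fin 3), v * v = 1 → v ≠ 1 → g * v = v * g → g = 1 ∨ g * v = 1) _ _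
        (h.s2 v hv) (fun z => vQ (h.sN v hv (h.ker.le ((pfun_eq_one_iff vt).1 z)))) c3 with z | z
      · exact (cN g (h.ker.le ((pfun_eq_one_iff hg).1 z)) c).imp_right .inl
      · rw [← pfun_mul f hg vt] at z
        have := cN _ (h.ker.le ((pfun_eq_one_iff (mul_mem hg vt)).1 z)) (by
          rw [pfun_mul π hg vt]; exact c.mul_left (Commute.refl _))
        rw [pfun_mul π hg vt, ← eq_mul_inv_iff_mul_eq, ← eq_mul_inv_iff_mul_eq, ← pfun_inv π vt, vi, one_mul,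
          (zc _).eq] at this
        exact .inr (.inr this))
    (by rw [← pfun_pow π (mul_mem at' vt), sq, show a * v * (a * v) = a * (v * a * v⁻¹) * (v * v) by group, vv, va',
      ← mul_assoc, mem_cen1.1 at', mul_assoc t, aa, h.tt, mul_one, pfun_one])
    (by rw [← pfun_conj π (mul_mem at' vt) vt, ← pfun_mul π vt tt, show a * v * v * (a * v)⁻¹ =
      a * (v * a * v⁻¹)⁻¹ * v by group, va', show a * (t * a)⁻¹ * v = t⁻¹ * v by group, h.ti, mem_cen1.1 vt])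
  have ke : (e.toMonoidHom.comp π).ker = oddCore C[t] := by ext; simp [π]
  have := odd_triv6 hp.ot (e.toMonoidHom.comp π) (e.surjective.comp πs) ke (by
      rw [← relIndex_top_right]
      exact Nat.odd_iff.2 (Nat.two_dvd_ne_zero.1 ((p'nat_iff Nat.prime_two).1 (h.syl.relIndex_of_le h.st))))
    (fun s hs => isConj_iff.2 (hp.one t s h.tt h.t1 (by rw [← sq, ← hs, pow_orderOf_eq_one]) fun z => by simp [z] at hs))
    (by rw [ke, ← card_map_inj C[t].subtype_injective, ← QuotientGroup.ker_mk' (oddCore C[t])]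
        exact (p'grp_iff_coprime Nat.prime_three).1 (h.p3.mono k.le))
  exact S2916.result (H20.pResidual_two_eq_top_iff.2 hp.no2) t hp.ot ⟨MulEquiv.ofBijective (e.toMonoidHom.comp π)
    ⟨(MonoidHom.ker_eq_bot_iff _).1 this, e.surjective.comp πs⟩⟩

theorem obot (k : Fv t y s Q S) : O = ⊥ := by
  by_contra ne
  have hp := h.hp
  have hl : ∀ g, ∀ a ∈ O, g * a * g⁻¹ ∈ C[t] → g * a * g⁻¹ ∈ O := fun g a ha m =>
    h.hl _ m ((h.pO.piElt ha).conj g) ((h.p3.piElt ha).conj g)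
  have key : ∀ a ∈ Q, a * a = 1 → a ≠ 1 → ∃ g ∈ N(O), g * a * g⁻¹ = t := fun a ha aa a1 => by
    obtain ⟨g, e⟩ := hp.one a t aa a1 h.tt h.t1
    exact ⟨g, mem_nrm.2 fun w hw => hl g w hw (e ▸ cjcen (cen_le_cen1 ha (h.dp.cen hw)) g), e⟩
  by_cases ex : ∀ v ∈ S, v * v = 1 → v ∈ Q
  · have all : ∀ i ∈ N(O), i * i = 1 → i ≠ 1 → ∃ g ∈ N(O), g * i * g⁻¹ = t := fun i hi ii i1 => by
      obtain ⟨m, hm, z⟩ := (h.syl.subl (h.st.trans h.nO.nrm) le_top).syl_elt hi (p2 ii)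
      have w : m * i * m⁻¹ * (m * i * m⁻¹) = 1 := by rw [conj_mul, ii]; simp
      obtain ⟨g, hg, e⟩ := key _ (ex _ z w) w (conj_ne_one.2 i1)
      exact ⟨g * m, mul_mem hg hm, by rw [← e]; group⟩
    have tM := h.nO.nrm (self_mem_cen1 t)
    refine ne (eq_bot_iff.2 ((H2.le_pPrimeCore_map_subtype (le_nrm O) le_rfl ((p'grp_iff_coprime Nat.prime_two).1 h.pO)).trans
      ((S1221.result N(O) ⟨fun e => ?_, even_iff_two_dvd.2 (hp.ot ▸ orderOf_dvd_card' tM), fun g hg => ?_⟩).trans hp.oc.le)))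
    · rcases IsSimpleGroup.eq_bot_or_eq_top_of_normal O (normalizer_eq_top_iff.1 e) with z | z
      exacts [ne z, h.t1 ((p2 h.tt).eq_one_of_mem h.pO (z ▸ mem_top t))]
    by_contra z
    obtain ⟨i, hi, o⟩ := exists_elt_of_prime_dvd Nat.prime_two (even_iff_two_dvd.1 (Nat.not_odd_iff_even.1 z))
    have ii : i * i = 1 := by rw [← sq, ← o, pow_orderOf_eq_one]
    have i1 : i ≠ 1 := fun z => by simp [z] at o
    obtain ⟨a, ha, e1⟩ := all i hi.1 ii i1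
    obtain ⟨b, hb, e2⟩ := all _ (mem_cj.1 hi.2) (by rw [show g⁻¹ * i * g * (g⁻¹ * i * g) = g⁻¹ * (i * i) * g by group, ii]; simp)
      fun z => i1 (by simpa [mul_assoc] using congrArg (g * · * g⁻¹) z)
    have : a * g * b⁻¹ ∈ C[t] := mem_cen1.2 (mul_inv_eq_iff_eq_mul.1 (by nth_rw 1 [← e2]; rw [← e1]; group))
    exact hg ((mul_mem_cancel_left ha).1 ((mul_mem_cancel_right (inv_mem hb)).1 (h.nO.nrm this)))
  push Not at ex
  obtain ⟨v, hv, vv, vQ⟩ := ex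
  have vs : v ∈ C[s] := by
    have z := k.ue hv vQ
    have m := k.nE hv
    have c : v ∈ C[⁅v, y * s * y⁻¹⁆] := by
      have c := mem_cen.1 (k.abE k.eE) _ (conj_mem m k.eE)
      have ee := k.ee
      generalize y * s * y⁻¹ = e at *
      rw [mem_cen1, commutatorElement_def, inv_eq_of_mul_eq_one_right ee, c, inv_eq_of_mul_eq_one_right vv,
        show e * (v * e * v) * v = e * v * e * (v * v) by group, vv]
      rw [inv_eq_of_mul_eq_one_right vv] at c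
      rw [← c, show v * (v * e * v * e) = v * v * e * v * e by group, vv, one_mul, mul_one]
    exact csym ((mul_mem_cancel_left (csym c)).1 (csym (cen1_le_cen1_of_mem_zpowers z (h.st hv))))
  obtain ⟨g, e⟩ := hp.one t v h.tt h.t1 vv fun z => vQ (z ▸ one_mem _)
  have Vv : Vg t s ≤ C[v] := fun a ha => csym (k.cV (h.st hv) vs ha)
  have l := coprime_abelian_gen_cent1 (A := Vg t s) (K := cj g O) (L := O) (ab_iff.2 (k.VE.trans (k.abE.trans (cen_anti k.VE))))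
    (fun c => by
      obtain ⟨⟨a, ha⟩, z⟩ := c.exists_generator
      have m : ∀ b ∈ Vg t s, b ≠ 1 → b = a := fun b hb b1 => ((mem_zpowers_two (z := (⟨a, ha⟩ : Vg t s))
        (Subtype.ext ((sq a).trans (k.sqV ha)))).1 (z ⟨b, hb⟩)).elim (fun x => (b1 (congrArg Subtype.val x)).elim)
          (congrArg Subtype.val)
      exact k.s1 ((m s k.sV fun x => k.s1 (x ▸ one_mem _)).trans (m t k.tV h.t1).symm ▸ mem_zpowers t))
    (Vv.trans (e ▸ cj_cen1 g t ▸ cj_norms.2 h.nO.nrm)) ((h.pO.cj g).cop' (h.pQ.mono (k.VE.trans k.EQ)))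
    fun a ha a1 x hx => by
      obtain ⟨c, hc, z⟩ := key a (k.EQ (k.VE ha)) (k.sqV ha) a1
      obtain ⟨w, hw, rfl⟩ := mem_cj'.1 hx.1
      have := hl (c * g) w hw (by simpa [← z, mul_assoc] using cjcen hx.2 c)
      simpa [mul_assoc] using conj_mem' hc this
  have Ov : O ≤ C[v] := eq_of_card_eq l (card_cj g O) ▸ e ▸ cj_cen1 g t ▸ cj_mono g h.nO.le
  obtain ⟨z, hz, z1⟩ := exists_ne_one (h.nl.center_ne_bot ne)
  have c1 : y * (v * y * v⁻¹) ∈ C[z] := (h.dp.sup ▸ sup_le (fun a ha => csym (cen_le_cen1 ha (h.dp.cen hz.1)))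
    (le_cen1.2 hz.2) : N ≤ C[z]) (h.iw v hv vQ)
  have c2 : y * y ∈ C[z] := mem_cen1.2 (mul_inv_eq_iff_eq_mul.1 (by
    have a1 := mem_cen1.1 (Ov hz.1)
    have a2 := mem_cen1.1 (Ov (conj_mem (h.nO.nrm h.yt) hz.1))
    calc y * y * z * (y * y)⁻¹ = y * (y * z * y⁻¹ * v) * v⁻¹ * y⁻¹ := by group
      _ = y * v * y * v⁻¹ * (v * z) * y⁻¹ * v⁻¹ * y⁻¹ := by rw [a2]; group
      _ = y * (v * y * v⁻¹) * z * (y * (v * y * v⁻¹))⁻¹ := by rw [← a1]; group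
      _ = z := by rw [mem_cen1.1 c1, mul_inv_cancel_right]))
  rw [h.yy, inv_mem_iff] at c2
  exact z1 (((p2 h.tt).of_mem_zpowers (hp.c2 (h.nO.le hz.1) (csym c2) (h.p3.piElt hz.1))).eq_one_of_mem h.pO hz.1)

theorem big (k : Fv t y s Q S) (l : Q ⊓ C(Eg t y s) ≤ Eg t y s) : False := by
  classical
  obtain ⟨QW, c32⟩ := k.ext l
  have hp := h.hp
  have NQ : Q = N := by rw [← h.dp.sup, h.obot k, sup_bot_eq]
  have H : MZ.Hy t Q y := ⟨⟨h.t1, h.tt, h.tQ, fun x hx => mem_cen1.1 (h.ct hx),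
    fun c hc x hx => conj_mem (h.nQ.nrm (mem_cen1.2 hc)) hx,
    fun x hx e => h.mt.1 (k.zq x hx (mem_cen.2 fun a ha => (e a ha).symm)),
    fun a ha b hb => (h.mt.1 ((QW hb).2 a ha)).imp commutatorElement_eq_one_iff_mul_comm.1 fun e => by
      rw [mem_cen1.1 (h.ct (mul_mem hb ha)), ← e, commutatorElement_def]; group,
    fun a ha => h.mt.1 (h.sqW k.zq (QW ha))⟩, c32, by rw [card_of_relIndex h.nQ.le (NQ ▸ h.i6), c32],
    mem_cen1.1 h.yt, h.y3, fun x hx e => h.mt.1 (h.fx x hx e.symm), fun c h1 h2 => by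
      have m : ∀ a ∈ ⟪y⟫, a = 1 ∨ a * y = 1 ∨ a * y⁻¹ = 1 := fun a ha => by
        obtain ⟨i, hi, rfl⟩ := Finset.mem_image.1 (mem_zpowers_iff_mem_range_orderOf.1 ha)
        rw [hp.oy, Finset.mem_range] at hi
        interval_cases i
        exacts [.inl (pow_zero y), .inr (.inr (by simp)), .inr (.inl (by rw [← pow_succ, h.y3]))]
      rcases hp.cx c (mem_cen1.2 h1) (mem_cen1.2 h2) with z | z
      · have w : ∀ a, a = 1 → a ∈ Q := fun a x => x ▸ one_mem _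
        exact (m c z).imp (w _) (Or.imp (w _) (w _))
      · have w : ∀ a ∈ C[t], c * t * a = 1 → c * a ∈ Q := fun a ha x => (mul_mem_cancel_right h.tQ).1 (by
          rw [mul_assoc, mem_cen1.1 ha, ← mul_assoc, x]; exact one_mem _)
        exact (m _ z).imp (fun x => mul_one c ▸ w 1 (one_mem _) (by rwa [mul_one]))
          (Or.imp (w _ h.yt) (w _ (inv_mem h.yt)))⟩
  have cz : ∀ {a}, a * a = 1 → a ≠ 1 → IsConj a t := fun aa a1 => isConj_iff.2 (hp.one _ t aa a1 h.tt h.t1)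
  obtain ⟨g, e⟩ := hp.one t s h.tt h.t1 k.ss fun z => k.s1 (z ▸ one_mem _)
  obtain ⟨e, f, p, q, r, M | M, -⟩ := H.main (e ▸ k.sQ) (e ▸ fun z => k.s1 (z ▸ mem_zpowers t))
  · have kk : ∀ {r a}, MZ.MA t e f p q y r → MZ.Sw t e q a → a * f * a = r → False := fun M s af => by
      obtain ⟨b, s', -, be | be⟩ := M.swap.line (cz M.cm.ff M.cm.f1)
      exacts [M.three s af s' be (cz M.third.cm.ff M.third.cm.f1), M.mis s af s' be]
    obtain ⟨a, s, -, af | af⟩ := M.line (cz M.cm.ee M.cm.e1)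
    exacts [kk M s af, kk M.tz s af]
  · exact M.nf (cz M.cm.ff M.cm.f1)

end T2

theorem main6 [IsSimpleGroup G] (h : Hp t y) :
    (∃ (F : Type) (_ : Field F) (_ : Fintype F), (Fintype.card F = 11 ∨ Fintype.card F = 13) ∧ Nonempty (G ≃* PSL(2, F))) ∨
      (∃ (F : Type) (_ : Field F) (_ : Fintype F), Fintype.card F = 3 ∧ Nonempty (G ≃* PSL(3, F))) ∨
      Spor.IsoM11 G ∨ Spor.IsoJ1 G := by
  rcases h.top with ⟨N, hN, tN, n, p, i | ⟨f, hf, k⟩⟩ | ⟨f, hf, p, k⟩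
  · exact (h.caseZ3 hN n p i).elim
  · obtain ⟨u, S, T⟩ := h.t2 hN tN n p f hf k
    have zq := T.ty2 h.one T.uS T.uQ
    rcases T.two h.one h.star zq with z | ⟨z1, z2, z3⟩ | ⟨s, z1, -, z2⟩
    · exact .inl (h.caseK T.toSt T.uS T.uQ T.hS z)
    · exact .inr ((T.quat zq z1 z2 z3).imp_right .inl)
    · exact (T.big z1 z2).elim
  · exact .inr (.inr (.inr (h.caseA5 f hf p k)))

end Cfsg.Agent.H1.Six
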